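/-
Elements of prime order and the normaliser of a non-abelian group of order 27 and exponent 3 in a three
dimensional group containing enough monomial matrices.
-/
import Mathlib
import Cfsg.Prelude.Def_GeometricClasses

set_option autoImplicit false
set_option linter.unusedSectionVars false

namespace Cfsg.Agent.PrimeFix.Heis3

open Matrix

variable {F : Type*} [Field F]

/-- The permutation matrix sending `e c` to `e (σ c)`. -/
def pm (σ : Equiv.Perm (Fin 3)) : Matrix (Fin 3) (Fin 3) F :=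
  Matrix.of fun r c => if σ c = r then 1 else 0

theorem pm_apply (σ : Equiv.Perm (Fin 3)) (r c : Fin 3) :
    (pm σ : Matrix (Fin 3) (Fin 3) F) r c = if σ c = r then 1 else 0 := rfl

theorem pm_mul (σ τ : Equiv.Perm (Fin 3)) :
    (pm σ : Matrix (Fin 3) (Fin 3) F) * pm τ = pm (σ * τ) := by
  ext r c
  rw [Matrix.mul_apply, Finset.sum_eq_single (τ c)]
  · rw [pm_apply, pm_apply, pm_apply, if_pos rfl, mul_one]
    rfl
  · intro k _ hk
    rw [pm_apply _ k c, if_neg (Ne.symm hk), mul_zero]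
  · intro h
    exact absurd (Finset.mem_univ _) h

theorem pm_one : (pm 1 : Matrix (Fin 3) (Fin 3) F) = 1 := by
  ext r c
  simp [pm_apply, Matrix.one_apply, eq_comm]

theorem pm_diag (σ : Equiv.Perm (Fin 3)) (d : Fin 3 → F) :
    pm σ * diagonal d = diagonal (fun i => d (σ⁻¹ i)) * pm σ := by
  ext r c
  simp only [Matrix.mul_diagonal, Matrix.diagonal_mul, pm_apply]
  by_cases h : σ c = r
  · subst h; simp
  · simp [h]

/-- A permutation matrix as an element of GL. -/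
def pmg (σ : Equiv.Perm (Fin 3)) : GL (Fin 3) F where
  val := pm σ
  inv := pm σ⁻¹
  val_inv := by rw [pm_mul, mul_inv_cancel, pm_one]
  inv_val := by rw [pm_mul, inv_mul_cancel, pm_one]

/-- A diagonal matrix as an element of GL. -/
def dg (d : Fin 3 → F) (hd : ∀ i, d i ≠ 0) : GL (Fin 3) F where
  val := diagonal d
  inv := diagonal fun i => (d i)⁻¹
  val_inv := by
    rw [diagonal_mul_diagonal, ← diagonal_one]
    exact congrArg _ (funext fun i => mul_inv_cancel₀ (hd i))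
  inv_val := by
    rw [diagonal_mul_diagonal, ← diagonal_one]
    exact congrArg _ (funext fun i => inv_mul_cancel₀ (hd i))

/-- A scalar as an element of GL. -/
def scg (c : F) (hc : c ≠ 0) : GL (Fin 3) F := dg (fun _ => c) fun _ => hc

theorem scg_val (c : F) (hc : c ≠ 0) : ((scg c hc : GL (Fin 3) F) : Matrix (Fin 3) (Fin 3) F) = c • 1 := by
  rw [smul_one_eq_diagonal]; rfl

theorem scg_comm (c : F) (hc : c ≠ 0) (g : GL (Fin 3) F) : scg c hc * g = g * scg c hc :=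
  Units.ext (by rw [Units.val_mul, Units.val_mul, scg_val, smul_one_mul, mul_smul_one])

/-- What is assumed of the ambient group. -/
structure Frame (U : Subgroup (GL (Fin 3) F)) (μ : F → Prop) (ω : F) : Prop where
  ω3 : ω ^ 3 = 1
  ω1 : ω ≠ 1
  two : (2 : F) ≠ 0
  μω : μ ω
  μone : μ 1
  μneg : μ (-1)
  μmul : ∀ a b, μ a → μ b → μ (a * b)
  μinv : ∀ a, μ a → μ a⁻¹
  μne : ∀ a, μ a → a ≠ 0
  diag_mem : ∀ d hd, (∀ i, μ (d i)) → dg d hd ∈ U
  diag_entries : ∀ d hd, dg d hd ∈ U → ∀ i, μ (d i)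
  perm_mem : ∀ σ, pmg σ ∈ U
  det_mem : ∀ g ∈ U, μ (g : Matrix (Fin 3) (Fin 3) F).det
  diagonalise : ∀ y ∈ U, ∀ k, (k = 2 ∨ k = 3) → (y : Matrix (Fin 3) (Fin 3) F) ^ k = 1 →
    ∃ g ∈ U, ∃ d, ((g⁻¹ * y * g : GL (Fin 3) F) : Matrix (Fin 3) (Fin 3) F) = diagonal d

variable {U : Subgroup (GL (Fin 3) F)} {μ : F → Prop} {ω : F}

theorem Frame.ω0 (hf : Frame U μ ω) : ω ≠ 0 := hf.μne ω hf.μω

theorem Frame.quad (hf : Frame U μ ω) : ω ^ 2 + ω + 1 = 0 := by
  have h : (ω - 1) * (ω ^ 2 + ω + 1) = 0 := by linear_combination hf.ω3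
  exact (mul_eq_zero.1 h).resolve_left (sub_ne_zero.2 hf.ω1)

theorem Frame.ω2_ne (hf : Frame U μ ω) : ω ^ 2 ≠ 1 := fun h => hf.ω1 (by
  linear_combination hf.ω3 - ω * h)

theorem Frame.roots (hf : Frame U μ ω) {c : F} (hc : c ^ 3 = 1) :
    ∃ e : Fin 3, c = ω ^ (e : ℕ) := by
  have h : (c - 1) * ((c - ω) * (c - ω ^ 2)) = 0 := by
    linear_combination hc - (c ^ 2 - c) * hf.quad + (c - 1) * hf.ω3
  rcases mul_eq_zero.1 h with h | h
  · exact ⟨0, by simpa [sub_eq_zero] using h⟩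
  rcases mul_eq_zero.1 h with h | h
  · exact ⟨1, by simpa [sub_eq_zero] using h⟩
  · exact ⟨2, by simpa [sub_eq_zero] using h⟩

theorem Frame.pow_inj (hf : Frame U μ ω) {a b : Fin 3} (h : ω ^ (a : ℕ) = ω ^ (b : ℕ)) : a = b := by
  have h0 := hf.ω0
  have h1 := hf.ω1
  have h2 := hf.ω2_ne
  have h3 : ω ^ 2 ≠ ω := fun e => h1 (mul_left_cancel₀ h0 (by linear_combination e))
  have key : ∀ m n : ℕ, m < 3 → n < 3 → ω ^ m = ω ^ n → m = n := by
    intro m n hm hn hmn
    interval_cases m <;> interval_cases n <;> simp only [pow_zero, pow_one] at hmn <;>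
      first | rfl | exact absurd hmn h1 | exact absurd hmn.symm h1 | exact absurd hmn h2 |
        exact absurd hmn.symm h2 | exact absurd hmn h3 | exact absurd hmn.symm h3
  exact Fin.ext (key _ _ a.isLt b.isLt h)

theorem Frame.pow_add (hf : Frame U μ ω) (a b : Fin 3) :
    ω ^ ((a + b : Fin 3) : ℕ) = ω ^ (a : ℕ) * ω ^ (b : ℕ) := by
  rw [← _root_.pow_add, Fin.val_add]
  exact (pow_eq_pow_mod ((a : ℕ) + (b : ℕ)) hf.ω3).symm

theorem Frame.μpow (hf : Frame U μ ω) : ∀ k : ℕ, μ (ω ^ k)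
  | 0 => by rw [pow_zero]; exact hf.μone
  | k + 1 => by rw [pow_succ]; exact hf.μmul _ _ (hf.μpow k) hf.μω

theorem Frame.scg_mem (hf : Frame U μ ω) {c : F} (hc : μ c) : scg c (hf.μne c hc) ∈ U :=
  hf.diag_mem _ _ fun _ => hc

/-- The cyclic permutation. -/
def cyc : Equiv.Perm (Fin 3) := Equiv.addRight (1 : Fin 3)

/-- `diag (1, ω, ω²)`. -/
def Frame.X (hf : Frame U μ ω) : GL (Fin 3) F :=
  dg (fun i => ω ^ (i : ℕ)) fun _ => pow_ne_zero _ hf.ω0

/-- The standard group of order 27. -/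
def Frame.R₀ (hf : Frame U μ ω) : Subgroup (GL (Fin 3) F) :=
  Subgroup.closure {hf.X, pmg cyc}

theorem Frame.X_mem (hf : Frame U μ ω) : hf.X ∈ hf.R₀ := Subgroup.subset_closure (Or.inl rfl)

theorem Frame.T_mem (hf : Frame U μ ω) : pmg cyc ∈ hf.R₀ := Subgroup.subset_closure (Or.inr rfl)

theorem mem_normalizer_closure [Finite F] {S : Set (GL (Fin 3) F)} {n : GL (Fin 3) F}
    (h : ∀ s ∈ S, n * s * n⁻¹ ∈ Subgroup.closure S) :
    n ∈ Subgroup.normalizer ((Subgroup.closure S : Subgroup (GL (Fin 3) F)) : Set (GL (Fin 3) F)) := by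
  have hle : (Subgroup.closure S).map (MulAut.conj n).toMonoidHom ≤ Subgroup.closure S := by
    rw [MonoidHom.map_closure, Subgroup.closure_le]
    rintro _ ⟨s, hs, rfl⟩
    exact h s hs
  have heq := Subgroup.eq_of_le_of_card_ge hle
    (Nat.card_congr ((Subgroup.closure S).equivMapOfInjective _ (MulAut.conj n).injective).toEquiv).le
  rw [Subgroup.mem_normalizer_iff]
  intro x
  constructor
  · intro hx; exact hle ⟨x, hx, rfl⟩
  · intro hx
    rw [← heq] at hx
    obtain ⟨y, hy, hy'⟩ := hx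
    rwa [← (MulAut.conj n).injective hy']

/-- Membership in the normaliser of the standard group. -/
theorem Frame.mem_normalizer [Finite F] (hf : Frame U μ ω) {n : GL (Fin 3) F}
    (h1 : n * hf.X * n⁻¹ ∈ hf.R₀) (h2 : n * pmg cyc * n⁻¹ ∈ hf.R₀) :
    n ∈ Subgroup.normalizer (hf.R₀ : Set (GL (Fin 3) F)) :=
  mem_normalizer_closure (by rintro s (rfl | rfl); exacts [h1, h2])

theorem Frame.swap_mem [Finite F] (hf : Frame U μ ω) :
    pmg (Equiv.swap 1 2) ∈ Subgroup.normalizer (hf.R₀ : Set (GL (Fin 3) F)) := by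
  have hσ : ∀ i : Fin 3, ((Equiv.swap (1 : Fin 3) 2)⁻¹ i : Fin 3) = i + i := by decide
  refine hf.mem_normalizer ?_ ?_
  · rw [show pmg (Equiv.swap 1 2) * hf.X * (pmg (Equiv.swap 1 2))⁻¹ = hf.X * hf.X from ?_]
    · exact mul_mem hf.X_mem hf.X_mem
    rw [mul_inv_eq_iff_eq_mul]
    refine Units.ext ?_
    show pm _ * diagonal _ = diagonal _ * diagonal _ * pm _
    rw [pm_diag, diagonal_mul_diagonal]
    congr 2
    funext i
    rw [hσ, hf.pow_add]
  · rw [show pmg (Equiv.swap 1 2) * pmg cyc * (pmg (Equiv.swap 1 2))⁻¹ = (pmg cyc * pmg cyc : GL (Fin 3) F) from ?_]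
    · exact mul_mem hf.T_mem hf.T_mem
    rw [mul_inv_eq_iff_eq_mul]
    refine Units.ext ?_
    show pm _ * pm _ = pm _ * pm _ * pm _
    rw [pm_mul, pm_mul, pm_mul]
    congr 1
    decide

/-- The exponents `(0, 0, 1)`. -/
def ex3 (i : Fin 3) : Fin 3 := if i = 2 then 1 else 0

/-- `diag (1, 1, ω)`. -/
def Frame.D (hf : Frame U μ ω) : GL (Fin 3) F :=
  dg (fun i => ω ^ (ex3 i : ℕ)) fun _ => pow_ne_zero _ hf.ω0

theorem Frame.D_mem [Finite F] (hf : Frame U μ ω) :
    hf.D ∈ Subgroup.normalizer (hf.R₀ : Set (GL (Fin 3) F)) := by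
  refine hf.mem_normalizer ?_ ?_
  · rw [show hf.D * hf.X * hf.D⁻¹ = hf.X from ?_]
    · exact hf.X_mem
    rw [mul_inv_eq_iff_eq_mul]
    refine Units.ext ?_
    show diagonal _ * diagonal _ = diagonal _ * diagonal _
    rw [diagonal_mul_diagonal, diagonal_mul_diagonal]
    exact congrArg _ (funext fun _ => mul_comm _ _)
  · rw [show hf.D * pmg cyc * hf.D⁻¹ = pmg cyc * hf.X from ?_]
    · exact mul_mem hf.T_mem hf.X_mem
    rw [mul_inv_eq_iff_eq_mul]
    refine Units.ext ?_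
    show diagonal _ * pm _ = pm _ * diagonal _ * diagonal _
    rw [mul_assoc, diagonal_mul_diagonal, pm_diag]
    congr 2
    funext i
    have e1 : ∀ j : Fin 3, ex3 (cyc⁻¹ j) + cyc⁻¹ j = ex3 j := by decide
    have := hf.pow_add (ex3 (cyc⁻¹ i)) (cyc⁻¹ i)
    rw [e1] at this
    rw [this, mul_comm]

theorem scg_mem_normalizer (R : Subgroup (GL (Fin 3) F)) (c : F) (hc : c ≠ 0) :
    scg c hc ∈ Subgroup.normalizer (R : Set (GL (Fin 3) F)) := by
  rw [Subgroup.mem_normalizer_iff]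
  intro x
  rw [scg_comm, mul_inv_cancel_right]

/-! ### Bringing the group to standard form -/

theorem Frame.diag_roots (hf : Frame U μ ω) {d : Fin 3 → F} {g y : GL (Fin 3) F} {k : ℕ}
    (hy : (y : Matrix (Fin 3) (Fin 3) F) ^ k = 1)
    (hd : ((g⁻¹ * y * g : GL (Fin 3) F) : Matrix (Fin 3) (Fin 3) F) = diagonal d) (i : Fin 3) :
    d i ^ k = 1 := by
  have h : (g⁻¹ * y * g) ^ k = 1 := by
    have hyk : y ^ k = 1 := Units.ext (by rw [Units.val_pow_eq_pow_val, hy, Units.val_one])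
    have := map_pow (MulAut.conj g⁻¹) y k
    rw [hyk, map_one] at this
    simpa [MulAut.conj_apply] using this.symm
  have h' := congrArg (fun u : GL (Fin 3) F => (u : Matrix (Fin 3) (Fin 3) F) i i) h
  simpa [hd, diagonal_pow] using h'

theorem conj_val_comm {g a b : GL (Fin 3) F} (h : a * b = b * a) :
    ((g⁻¹ * a * g : GL (Fin 3) F) : Matrix (Fin 3) (Fin 3) F) *
        ((g⁻¹ * b * g : GL (Fin 3) F) : Matrix (Fin 3) (Fin 3) F) =
      ((g⁻¹ * b * g : GL (Fin 3) F) : Matrix (Fin 3) (Fin 3) F) *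
        ((g⁻¹ * a * g : GL (Fin 3) F) : Matrix (Fin 3) (Fin 3) F) := by
  rw [← Units.val_mul, ← Units.val_mul]
  congr 1
  calc g⁻¹ * a * g * (g⁻¹ * b * g) = g⁻¹ * (a * b) * g := by group
    _ = g⁻¹ * (b * a) * g := by rw [h]
    _ = _ := by group

theorem exists_gens [Finite F] {R : Subgroup (GL (Fin 3) F)} (hR : Nat.card R = 27)
    (hRna : ¬ IsMulCommutative R) :
    ∃ a ∈ R, ∃ b ∈ R, a * b ≠ b * a ∧ R = Subgroup.closure {a, b} ∧
      ∀ x ∈ R, x * (a * b * a⁻¹ * b⁻¹) = (a * b * a⁻¹ * b⁻¹) * x := by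
  classical
  obtain ⟨a, b, hab⟩ : ∃ a b : R, a * b ≠ b * a := by
    by_contra hc
    push Not at hc
    exact hRna ⟨⟨hc⟩⟩
  have hab' : (a : GL (Fin 3) F) * b ≠ b * a := fun h => hab (Subtype.ext h)
  refine ⟨a, a.2, b, b.2, hab', ?_, ?_⟩
  · set S := Subgroup.closure {(a : GL (Fin 3) F), (b : GL (Fin 3) F)}
    have hle : S ≤ R := (Subgroup.closure_le _).2 (by rintro x (rfl | rfl); exacts [a.2, b.2])
    have hdvd : Nat.card S ∣ 3 ^ 3 := by
      have := Subgroup.card_dvd_of_le hle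
      rwa [hR] at this
    obtain ⟨j, hj, hcard⟩ := (Nat.dvd_prime_pow Nat.prime_three).1 hdvd
    have ha : (a : GL (Fin 3) F) ∈ S := Subgroup.subset_closure (Or.inl rfl)
    have hb : (b : GL (Fin 3) F) ∈ S := Subgroup.subset_closure (Or.inr rfl)
    rcases Nat.lt_or_ge j 3 with h | h
    · exfalso
      apply hab'
      have hcomm : ∀ x y : S, x * y = y * x := by
        interval_cases j
        · have := (Nat.card_eq_one_iff_unique.1 hcard).1
          exact fun x y => Subsingleton.elim _ _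
        · haveI : Fact (Nat.Prime 3) := ⟨Nat.prime_three⟩
          haveI : IsCyclic S := isCyclic_of_prime_card (p := 3) (by simpa using hcard)
          exact fun x y => (IsCyclic.isMulCommutative (α := S)).is_comm.comm x y
        · haveI : Fact (Nat.Prime 3) := ⟨Nat.prime_three⟩
          exact fun x y => (IsPGroup.isMulCommutative_of_card_eq_prime_sq hcard).is_comm.comm x y
      exact congrArg Subtype.val (hcomm ⟨_, ha⟩ ⟨_, hb⟩)
    · obtain rfl : j = 3 := by omega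
      exact (Subgroup.eq_of_le_of_card_ge hle (by rw [hR, hcard]; norm_num)).symm
  · haveI : Fact (Nat.Prime 3) := ⟨Nat.prime_three⟩
    have hP : IsPGroup 3 R := IsPGroup.of_card (n := 3) (by rw [hR]; norm_num)
    haveI : Nontrivial R := ⟨a, b, fun h => hab (by rw [h])⟩
    set Z := Subgroup.center R
    have hZ1 : Nontrivial Z := hP.center_nontrivial
    have hZdvd : Nat.card Z ∣ 3 ^ 3 := by
      rw [show 3 ^ 3 = Nat.card R by rw [hR]; norm_num]
      exact Subgroup.card_subgroup_dvd_card _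
    obtain ⟨j, hj, hcard⟩ := (Nat.dvd_prime_pow Nat.prime_three).1 hZdvd
    have hidx := Z.card_mul_index
    rw [hR, hcard] at hidx
    have hcomm : ∀ x y : R ⧸ Z, x * y = y * x := by
      interval_cases j
      · rw [Nat.pow_zero] at hcard
        exact absurd hcard (by have := Finite.one_lt_card (α := Z); omega)
      · have h9 : Nat.card (R ⧸ Z) = 3 ^ 2 := by
          rw [← Subgroup.index_eq_card]; omega
        exact fun x y => (IsPGroup.isMulCommutative_of_card_eq_prime_sq h9).is_comm.comm x y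
      · have h3 : Nat.card (R ⧸ Z) = 3 := by
          rw [← Subgroup.index_eq_card]; omega
        haveI : IsCyclic (R ⧸ Z) := isCyclic_of_prime_card h3
        exact fun x y => (IsCyclic.isMulCommutative (α := R ⧸ Z)).is_comm.comm x y
      · have h1 : Nat.card (R ⧸ Z) = 1 := by
          rw [← Subgroup.index_eq_card]; omega
        have := (Nat.card_eq_one_iff_unique.1 h1).1
        exact fun x y => Subsingleton.elim _ _
    have hc : a * b * a⁻¹ * b⁻¹ ∈ Z := by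
      rw [← QuotientGroup.eq_one_iff, QuotientGroup.mk_mul, QuotientGroup.mk_mul, QuotientGroup.mk_mul,
        QuotientGroup.mk_inv, QuotientGroup.mk_inv, hcomm (a : R ⧸ Z) b]
      group
    intro x hx
    exact congrArg Subtype.val (Subgroup.mem_center_iff.1 hc ⟨x, hx⟩)

theorem diag_comm {d : Fin 3 → F} (hd : ∀ i j, i ≠ j → d i ≠ d j) {M N : Matrix (Fin 3) (Fin 3) F}
    (hM : diagonal d * M = M * diagonal d) (hN : diagonal d * N = N * diagonal d) : M * N = N * M := by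
  have key : ∀ A : Matrix (Fin 3) (Fin 3) F, diagonal d * A = A * diagonal d → A = diagonal fun i => A i i := by
    intro A hA
    ext i j
    by_cases h : i = j
    · subst h; simp
    · rw [diagonal_apply_ne _ h]
      have := congrArg (fun B : Matrix (Fin 3) (Fin 3) F => B i j) hA
      simp only [diagonal_mul, mul_diagonal] at this
      by_contra h0
      exact hd i j h (mul_right_cancel₀ h0 (this.trans (mul_comm _ _)))
  rw [key M hM, key N hN, diagonal_mul_diagonal, diagonal_mul_diagonal]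
  exact congrArg _ (funext fun _ => mul_comm _ _)

theorem Frame.exists_pair [Finite F] (hf : Frame U μ ω) {R : Subgroup (GL (Fin 3) F)} (hRU : R ≤ U)
    (hR : Nat.card R = 27) (hRe : Monoid.exponent R = 3) (hRna : ¬ IsMulCommutative R) :
    ∃ a ∈ R, ∃ b ∈ R, R = Subgroup.closure {a, b} ∧
      (a : Matrix (Fin 3) (Fin 3) F) * b = ω • ((b : Matrix (Fin 3) (Fin 3) F) * a) := by
  obtain ⟨a, ha, b, hb, hab, hgen, hc⟩ := exists_gens hR hRna
  set c := a * b * a⁻¹ * b⁻¹ with hcdef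
  have hcR : c ∈ R := mul_mem (mul_mem (mul_mem ha hb) (inv_mem ha)) (inv_mem hb)
  have hexp : ∀ x ∈ R, (x : Matrix (Fin 3) (Fin 3) F) ^ 3 = 1 := fun x hx => by
    have h := Monoid.pow_exponent_eq_one (⟨x, hx⟩ : R)
    rw [hRe] at h
    rw [← Units.val_pow_eq_pow_val, show x ^ 3 = 1 from congrArg Subtype.val h, Units.val_one]
  obtain ⟨g, -, d, hd⟩ := hf.diagonalise c (hRU hcR) 3 (Or.inr rfl) (hexp c hcR)
  have hdet : d 0 * d 1 * d 2 = 1 := by
    have h1 : Matrix.GeneralLinearGroup.det (g⁻¹ * c * g) = 1 := by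
      simp only [hcdef, map_mul, map_inv]
      rw [mul_comm (Matrix.GeneralLinearGroup.det a) (Matrix.GeneralLinearGroup.det b)]
      group
    have h2 := congrArg Units.val h1
    rw [Matrix.GeneralLinearGroup.val_det_apply, hd, det_diagonal, Fin.prod_univ_three] at h2
    exact h2
  choose e he using fun i => hf.roots (hf.diag_roots (hexp c hcR) hd i)
  have hsum : e 0 + e 1 + e 2 = 0 := hf.pow_inj (by
    rw [hf.pow_add, hf.pow_add, ← he, ← he, ← he, hdet]; simp)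
  have hcases : ∀ u : Fin 3 → Fin 3, u 0 + u 1 + u 2 = 0 → (∀ i, u i = u 0) ∨ ∀ i j, i ≠ j → u i ≠ u j := by
    decide
  rcases hcases e hsum with hconst | hdist
  · have hne : d 0 ≠ 1 := by
      intro h0
      apply hab
      have h1 : g⁻¹ * c * g = 1 := Units.ext (by
        rw [hd, Units.val_one, ← diagonal_one]
        exact congrArg _ (funext fun i => by rw [he, hconst, ← he, h0]))
      have hc1 : c = 1 := by
        calc c = g * (g⁻¹ * c * g) * g⁻¹ := by group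
          _ = 1 := by rw [h1]; group
      calc a * b = c * (b * a) := by rw [hcdef]; group
        _ = b * a := by rw [hc1, one_mul]
    have hcs : (c : Matrix (Fin 3) (Fin 3) F) = d 0 • (1 : Matrix (Fin 3) (Fin 3) F) := by
      have h1 : g⁻¹ * c * g = scg (d 0) (by rw [he]; exact pow_ne_zero _ hf.ω0) := Units.ext (by
        rw [hd, scg_val, smul_one_eq_diagonal]
        exact congrArg _ (funext fun i => by rw [he, hconst, ← he]))
      have h2 : c = scg (d 0) (by rw [he]; exact pow_ne_zero _ hf.ω0) := by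
        calc c = g * (g⁻¹ * c * g) * g⁻¹ := by group
          _ = _ := by rw [h1, ← scg_comm, mul_inv_cancel_right]
      rw [h2, scg_val]
    have hrel : (a : Matrix (Fin 3) (Fin 3) F) * b = d 0 • ((b : Matrix (Fin 3) (Fin 3) F) * a) := by
      rw [← Units.val_mul, show a * b = c * (b * a) by rw [hcdef]; group, Units.val_mul, hcs, smul_one_mul,
        Units.val_mul]
    have h12 : e 0 = 1 ∨ e 0 = 2 := by
      have : e 0 ≠ 0 := fun h => hne (by rw [he, h]; simp)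
      revert this
      generalize e 0 = x
      revert x
      decide
    rcases h12 with h | h
    · exact ⟨a, ha, b, hb, hgen, by rw [hrel, he, h]; simp⟩
    · refine ⟨b, hb, a, ha, by rw [Set.pair_comm]; exact hgen, ?_⟩
      rw [hrel, he, h, smul_smul]
      simp only [Fin.val_two]
      rw [← pow_succ', hf.ω3, one_smul]
  · exfalso
    apply hab
    have hM : ∀ x ∈ R, diagonal d * ((g⁻¹ * x * g : GL (Fin 3) F) : Matrix (Fin 3) (Fin 3) F) =
        ((g⁻¹ * x * g : GL (Fin 3) F) : Matrix (Fin 3) (Fin 3) F) * diagonal d := fun x hx => by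
      rw [← hd]; exact conj_val_comm (hc x hx).symm
    have h := diag_comm (fun i j hij h => hdist i j hij (hf.pow_inj (by rw [← he, ← he, h]))) (hM a ha) (hM b hb)
    rw [← Units.val_mul, ← Units.val_mul] at h
    have h' := congrArg (fun u => g * u * g⁻¹) (Units.ext h)
    simpa [mul_assoc] using h'

theorem Frame.exists_standard [Finite F] (hf : Frame U μ ω) {R : Subgroup (GL (Fin 3) F)} (hRU : R ≤ U)
    (hR : Nat.card R = 27) (hRe : Monoid.exponent R = 3) (hRna : ¬ IsMulCommutative R) :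
    ∃ g ∈ U, R = hf.R₀.map (MulAut.conj g).toMonoidHom := by
  obtain ⟨a, ha, b, hb, hgen, hrel⟩ := hf.exists_pair hRU hR hRe hRna
  have hexp : ∀ x ∈ R, (x : Matrix (Fin 3) (Fin 3) F) ^ 3 = 1 := fun x hx => by
    have h := Monoid.pow_exponent_eq_one (⟨x, hx⟩ : R)
    rw [hRe] at h
    rw [← Units.val_pow_eq_pow_val, show x ^ 3 = 1 from congrArg Subtype.val h, Units.val_one]
  obtain ⟨g₁, hg₁, d, hd⟩ := hf.diagonalise a (hRU ha) 3 (Or.inr rfl) (hexp a ha)
  choose e he using fun i => hf.roots (hf.diag_roots (hexp a ha) hd i)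
  set B := g₁⁻¹ * b * g₁
  have hcon : diagonal d * (B : Matrix (Fin 3) (Fin 3) F) = ω • ((B : Matrix (Fin 3) (Fin 3) F) * diagonal d) := by
    rw [← hd, ← Units.val_mul, ← Units.val_mul,
      show g₁⁻¹ * a * g₁ * B = g₁⁻¹ * (a * b) * g₁ by simp only [B]; group,
      show B * (g₁⁻¹ * a * g₁) = g₁⁻¹ * (b * a) * g₁ by simp only [B]; group]
    simp only [Units.val_mul, hrel, Matrix.mul_smul, Matrix.smul_mul]
  have hent : ∀ i j, (B : Matrix (Fin 3) (Fin 3) F) i j ≠ 0 → e i = e j + 1 := by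
    intro i j hne
    apply hf.pow_inj
    rw [hf.pow_add, ← he, ← he]
    have := congrArg (fun M : Matrix (Fin 3) (Fin 3) F => M i j) hcon
    simp only [Matrix.smul_apply, diagonal_mul, mul_diagonal, smul_eq_mul] at this
    apply mul_right_cancel₀ hne
    rw [this]
    simp
    ring
  have hcol : ∀ j, ∃ i, e i = e j + 1 := fun j => by
    by_contra hc
    push Not at hc
    have h0 : ∀ i, (B : Matrix (Fin 3) (Fin 3) F) i j = 0 := fun i => by
      by_contra h; exact hc i (hent i j h)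
    have := Matrix.det_eq_zero_of_column_eq_zero j h0
    exact ((Matrix.isUnit_iff_isUnit_det _).1 B.isUnit).ne_zero this
  have hperm : ∀ u : Fin 3 → Fin 3, (∀ j, ∃ i, u i = u j + 1) → ∃ σ : Equiv.Perm (Fin 3), ∀ i, u (σ i) = i := by
    decide
  obtain ⟨σ, hσ⟩ := hperm e hcol
  have hX : ((g₁ * pmg σ)⁻¹ * a * (g₁ * pmg σ) : GL (Fin 3) F) = hf.X := by
    rw [show ((g₁ * pmg σ)⁻¹ * a * (g₁ * pmg σ) : GL (Fin 3) F) = (pmg σ)⁻¹ * (g₁⁻¹ * a * g₁) * pmg σ by group,
      mul_assoc, inv_mul_eq_iff_eq_mul]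
    refine Units.ext ?_
    rw [Units.val_mul, hd]
    show diagonal d * pm σ = pm σ * diagonal _
    rw [pm_diag]
    congr 2
    funext i
    rw [he]
    congr 2
    simpa using hσ (σ⁻¹ i)
  set g₂ := g₁ * pmg σ
  have hg₂ : g₂ ∈ U := mul_mem hg₁ (hf.perm_mem σ)
  set B₂ := g₂⁻¹ * b * g₂ with hB₂
  have hB₂U : B₂ ∈ U := mul_mem (mul_mem (inv_mem hg₂) (hRU hb)) hg₂
  have hB₂e : ∀ i j, (B₂ : Matrix (Fin 3) (Fin 3) F) i j ≠ 0 → i = j + 1 := by
    intro i j hne
    have hB : (B₂ : Matrix (Fin 3) (Fin 3) F) = pm σ⁻¹ * (B : Matrix (Fin 3) (Fin 3) F) * pm σ := by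
      rw [hB₂, show g₂⁻¹ * b * g₂ = (pmg σ)⁻¹ * B * pmg σ by simp only [g₂, B]; group]
      rfl
    have hval : (B₂ : Matrix (Fin 3) (Fin 3) F) i j = (B : Matrix (Fin 3) (Fin 3) F) (σ i) (σ j) := by
      rw [hB]
      simp [Matrix.mul_apply, pm_apply, Equiv.Perm.inv_def, Equiv.symm_apply_eq]
    rw [hval] at hne
    have := hent _ _ hne
    rwa [hσ, hσ] at this
  -- the diagonal part of `B₂`
  let β : Fin 3 → F := fun j => (B₂ : Matrix (Fin 3) (Fin 3) F) (j + 1) j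
  have hBβ : (B₂ : Matrix (Fin 3) (Fin 3) F) = pm cyc * diagonal β := by
    ext i j
    rw [Matrix.mul_diagonal, pm_apply]
    show _ = (if j + 1 = i then (1 : F) else 0) * β j
    by_cases h : j + 1 = i
    · subst h; simp [β]
    · rw [if_neg h, zero_mul]
      by_contra hne
      exact h (hB₂e i j hne).symm
  have hdetβ : β 0 * β 1 * β 2 ≠ 0 := by
    intro h
    have h1 : (B₂ : Matrix (Fin 3) (Fin 3) F).det = 0 := by
      rw [hBβ, det_mul, det_diagonal, Fin.prod_univ_three, h, mul_zero]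
    exact ((Matrix.isUnit_iff_isUnit_det _).1 B₂.isUnit).ne_zero h1
  obtain ⟨⟨hβ0, hβ1⟩, hβ2⟩ := by simpa [mul_ne_zero_iff] using hdetβ
  have hβne : ∀ i, β i ≠ 0 := by
    intro i; fin_cases i <;> assumption
  have hμβ : ∀ i, μ (β i) := by
    refine hf.diag_entries β hβne ?_
    have : dg β hβne = (pmg cyc)⁻¹ * B₂ := by
      rw [eq_inv_mul_iff_mul_eq]
      exact Units.ext hBβ.symm
    rw [this]
    exact mul_mem (inv_mem (hf.perm_mem cyc)) hB₂U
  have hprod : β 0 * β 1 * β 2 = 1 := by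
    have h3 : (B₂ : Matrix (Fin 3) (Fin 3) F) ^ 3 = 1 := by
      have hb3 : b ^ 3 = 1 := Units.ext (by rw [Units.val_pow_eq_pow_val, hexp b hb, Units.val_one])
      rw [← Units.val_pow_eq_pow_val, hB₂]
      have := map_pow (MulAut.conj g₂⁻¹) b 3
      rw [hb3, map_one] at this
      simp only [MulAut.conj_apply, inv_inv] at this
      rw [← this, Units.val_one]
    have h00 := congrArg (fun M : Matrix (Fin 3) (Fin 3) F => M 0 0) h3
    rw [hBβ] at h00
    simp [pow_succ, Matrix.mul_apply, Fin.sum_univ_three, pm_apply, cyc] at h00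
    linear_combination h00
  let D₀ : Fin 3 → F := ![1, β 0, β 0 * β 1]
  have hD₀μ : ∀ i, μ (D₀ i) := by
    intro i; fin_cases i
    · exact hf.μone
    · exact hμβ 0
    · exact hf.μmul _ _ (hμβ 0) (hμβ 1)
  have hD₀ne : ∀ i, D₀ i ≠ 0 := fun i => hf.μne _ (hD₀μ i)
  set g₃ := g₂ * dg D₀ hD₀ne
  have hg₃ : g₃ ∈ U := mul_mem hg₂ (hf.diag_mem _ _ hD₀μ)
  have hX₃ : g₃⁻¹ * a * g₃ = hf.X := by
    rw [show g₃⁻¹ * a * g₃ = (dg D₀ hD₀ne)⁻¹ * (g₂⁻¹ * a * g₂) * dg D₀ hD₀ne by simp only [g₃]; group,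
      hX, mul_assoc, inv_mul_eq_iff_eq_mul]
    refine Units.ext ?_
    show diagonal _ * diagonal _ = diagonal _ * diagonal _
    rw [diagonal_mul_diagonal, diagonal_mul_diagonal]
    exact congrArg _ (funext fun _ => mul_comm _ _)
  have hT₃ : g₃⁻¹ * b * g₃ = pmg cyc := by
    rw [show g₃⁻¹ * b * g₃ = (dg D₀ hD₀ne)⁻¹ * B₂ * dg D₀ hD₀ne by simp only [g₃, hB₂]; group,
      mul_assoc, inv_mul_eq_iff_eq_mul]
    refine Units.ext ?_
    rw [Units.val_mul, hBβ]
    show pm cyc * diagonal β * diagonal D₀ = diagonal D₀ * pm cyc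
    rw [mul_assoc, diagonal_mul_diagonal, pm_diag]
    congr 2
    funext i
    have : ∀ j : Fin 3, β j * D₀ j = D₀ (j + 1) := by
      intro j; fin_cases j
      · simp [D₀]
      · simp [D₀]; ring
      · simp [D₀]; linear_combination hprod
    rw [this]
    congr 1
    show (cyc⁻¹ i : Fin 3) + 1 = i
    exact cyc.apply_symm_apply i
  refine ⟨g₃, hg₃, ?_⟩
  rw [hgen, Frame.R₀, MonoidHom.map_closure, Set.image_pair]
  congr 2
  · show a = g₃ * hf.X * g₃⁻¹
    rw [← hX₃]; group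
  · show ({b} : Set (GL (Fin 3) F)) = {g₃ * pmg cyc * g₃⁻¹}
    rw [← hT₃]
    congr 1
    group

/-! ### Elements with two or three eigenvalues -/

/-- Conjugate a scalar multiple of `x` into the normaliser through a diagonal form. -/
theorem Frame.fix_of_diag [Finite F] (hf : Frame U μ ω) {R : Subgroup (GL (Fin 3) F)} {g₀ : GL (Fin 3) F}
    (hg₀ : g₀ ∈ U) (hR : R = hf.R₀.map (MulAut.conj g₀).toMonoidHom)
    {x g₁ : GL (Fin 3) F} (hg₁ : g₁ ∈ U) {s : F} (hs : s ≠ 0) {d : Fin 3 → F}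
    (hd : ((g₁⁻¹ * (x * scg s hs) * g₁ : GL (Fin 3) F) : Matrix (Fin 3) (Fin 3) F) = diagonal d)
    {n g₂ : GL (Fin 3) F} (hn : n ∈ Subgroup.normalizer (hf.R₀ : Set (GL (Fin 3) F))) (hg₂ : g₂ ∈ U)
    {c : F} (hc : c ≠ 0) (σ : Equiv.Perm (Fin 3))
    (hn' : ((g₂⁻¹ * n * g₂ : GL (Fin 3) F) : Matrix (Fin 3) (Fin 3) F) = diagonal fun i => c * d (σ i)) :
    ∃ g ∈ U ⊓ Cfsg.Geo.specialLinear (Fin 3) F,
      g⁻¹ * x * g ∈ Subgroup.normalizer (R : Set (GL (Fin 3) F)) := by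
  set g₄ := g₁ * pmg σ * g₂⁻¹ * g₀⁻¹
  set δ := ((g₄ : Matrix (Fin 3) (Fin 3) F).det)⁻¹
  have hg₄U : g₄ ∈ U := mul_mem (mul_mem (mul_mem hg₁ (hf.perm_mem σ)) (inv_mem hg₂)) (inv_mem hg₀)
  have hδ : μ δ := hf.μinv _ (hf.det_mem g₄ hg₄U)
  have hhμ : ∀ i, μ ((![δ, 1, 1] : Fin 3 → F) i) := by
    intro i; fin_cases i
    · exact hδ
    · exact hf.μone
    · exact hf.μone
  set h := dg ![δ, 1, 1] (fun i => hf.μne _ (hhμ i))
  set g := g₁ * h * pmg σ * g₂⁻¹ * g₀⁻¹
  have hgU : g ∈ U :=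
    mul_mem (mul_mem (mul_mem (mul_mem hg₁ (hf.diag_mem _ _ hhμ)) (hf.perm_mem σ)) (inv_mem hg₂)) (inv_mem hg₀)
  refine ⟨g, ⟨hgU, ?_⟩, ?_⟩
  · show Matrix.GeneralLinearGroup.det g = 1
    have hh : Matrix.GeneralLinearGroup.det h = (Matrix.GeneralLinearGroup.det g₄)⁻¹ := by
      refine Units.ext ?_
      rw [Units.val_inv_eq_inv_val, Matrix.GeneralLinearGroup.val_det_apply,
        Matrix.GeneralLinearGroup.val_det_apply]
      show (diagonal _).det = _
      rw [det_diagonal, Fin.prod_univ_three]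
      simp [δ]
    have hdg : Matrix.GeneralLinearGroup.det g =
        Matrix.GeneralLinearGroup.det h * Matrix.GeneralLinearGroup.det g₄ := by
      have e : ∀ u v w z t : Fˣ, u * v * w * z * t = v * (u * w * z * t) := fun u v w z t => by
        rw [mul_comm u v]; simp only [mul_assoc]
      simp only [g, g₄, map_mul, map_inv]
      exact e _ _ _ _ _
    rw [hdg, hh, inv_mul_cancel]
  · have key : g₁⁻¹ * (x * scg s hs) * g₁ = pmg σ * (scg c⁻¹ (inv_ne_zero hc) * (g₂⁻¹ * n * g₂)) * (pmg σ)⁻¹ := by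
      rw [eq_mul_inv_iff_mul_eq]
      refine Units.ext ?_
      rw [Units.val_mul, hd, Units.val_mul, Units.val_mul _ (g₂⁻¹ * n * g₂), scg_val, hn', smul_one_mul,
        Matrix.mul_smul]
      show diagonal d * pm σ = c⁻¹ • (pm σ * diagonal fun i => c * d (σ i))
      rw [pm_diag, ← Matrix.smul_mul, ← diagonal_smul]
      congr 2
      funext i
      simp [Equiv.Perm.inv_def, hc]
    have hcomm : h⁻¹ * (g₁⁻¹ * (x * scg s hs) * g₁) * h = g₁⁻¹ * (x * scg s hs) * g₁ := by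
      rw [mul_assoc, inv_mul_eq_iff_eq_mul]
      refine Units.ext ?_
      rw [Units.val_mul, hd, Units.val_mul, hd]
      show diagonal d * diagonal _ = diagonal _ * diagonal d
      rw [diagonal_mul_diagonal, diagonal_mul_diagonal]
      exact congrArg _ (funext fun _ => mul_comm _ _)
    have hgx : g⁻¹ * (x * scg s hs) * g = scg c⁻¹ (inv_ne_zero hc) * (g₀ * n * g₀⁻¹) := by
      calc g⁻¹ * (x * scg s hs) * g
          = g₀ * g₂ * ((pmg σ)⁻¹ * (h⁻¹ * (g₁⁻¹ * (x * scg s hs) * g₁) * h) * pmg σ) * g₂⁻¹ * g₀⁻¹ := by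
            simp only [g]; group
        _ = g₀ * g₂ * (scg c⁻¹ (inv_ne_zero hc) * (g₂⁻¹ * n * g₂)) * g₂⁻¹ * g₀⁻¹ := by
            rw [hcomm, key]; group
        _ = (g₀ * g₂ * scg c⁻¹ (inv_ne_zero hc)) * g₂⁻¹ * n * g₀⁻¹ := by group
        _ = _ := by rw [← scg_comm]; group
    have hx : g⁻¹ * x * g = g⁻¹ * (x * scg s hs) * g * (scg s hs)⁻¹ := by
      calc g⁻¹ * x * g = g⁻¹ * (x * scg s hs) * ((scg s hs)⁻¹ * g) := by group
        _ = g⁻¹ * (x * scg s hs) * (g * (scg s hs)⁻¹) := by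
            rw [show (scg s hs)⁻¹ * g = g * (scg s hs)⁻¹ from
              ((show Commute (scg s hs) g from scg_comm s hs g).inv_left).eq]
        _ = _ := by group
    rw [hx, hgx]
    refine mul_mem (mul_mem (scg_mem_normalizer R _ _) ?_) (inv_mem (scg_mem_normalizer R _ _))
    rw [Subgroup.mem_normalizer_iff]
    intro y
    rw [hR]
    constructor
    · rintro ⟨z, hz, rfl⟩
      refine ⟨n * z * n⁻¹, (Subgroup.mem_normalizer_iff.1 hn z).1 hz, ?_⟩
      show g₀ * (n * z * n⁻¹) * g₀⁻¹ = g₀ * n * g₀⁻¹ * (g₀ * z * g₀⁻¹) * (g₀ * n * g₀⁻¹)⁻¹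
      group
    · rintro ⟨z, hz, hzy⟩
      refine ⟨n⁻¹ * z * n, (Subgroup.mem_normalizer_iff.1 hn _).2 (by rwa [show n * (n⁻¹ * z * n) * n⁻¹ = z by group]), ?_⟩
      have hzy' : g₀ * z * g₀⁻¹ = g₀ * n * g₀⁻¹ * y * (g₀ * n * g₀⁻¹)⁻¹ := hzy
      show g₀ * (n⁻¹ * z * n) * g₀⁻¹ = y
      calc g₀ * (n⁻¹ * z * n) * g₀⁻¹ = (g₀ * n * g₀⁻¹)⁻¹ * (g₀ * z * g₀⁻¹) * (g₀ * n * g₀⁻¹) := by group
        _ = y := by rw [hzy']; group

theorem not_const {x : GL (Fin 3) F} (hx : ∀ z : F, (x : Matrix (Fin 3) (Fin 3) F) ≠ z • 1)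
    {g : GL (Fin 3) F} {s : F} (hs : s ≠ 0) {d : Fin 3 → F}
    (hd : ((g⁻¹ * (x * scg s hs) * g : GL (Fin 3) F) : Matrix (Fin 3) (Fin 3) F) = diagonal d) :
    ¬ ∀ i, d i = d 0 := by
  intro hcon
  have h1 : ((g⁻¹ * (x * scg s hs) * g : GL (Fin 3) F) : Matrix (Fin 3) (Fin 3) F) = d 0 • 1 := by
    rw [hd, smul_one_eq_diagonal]; exact congrArg _ (funext hcon)
  have h2 : ((x * scg s hs : GL (Fin 3) F) : Matrix (Fin 3) (Fin 3) F) = d 0 • 1 := by
    rw [show x * scg s hs = g * (g⁻¹ * (x * scg s hs) * g) * g⁻¹ by group, Units.val_mul, Units.val_mul, h1,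
      mul_smul_one, Matrix.smul_mul, ← Units.val_mul, mul_inv_cancel, Units.val_one]
  refine hx (s⁻¹ * d 0) ?_
  rw [show x = x * scg s hs * (scg s⁻¹ (inv_ne_zero hs)) from ?_, Units.val_mul, h2, scg_val, smul_one_mul,
    smul_smul, mul_comm]
  rw [mul_assoc, show scg s hs * scg s⁻¹ (inv_ne_zero hs) = 1 from Units.ext (by
    rw [Units.val_mul, scg_val, scg_val, smul_one_mul, smul_smul, mul_inv_cancel₀ hs, one_smul,
      Units.val_one]), mul_one]

theorem Frame.fix_two [Finite F] (hf : Frame U μ ω) {R : Subgroup (GL (Fin 3) F)} {g₀ : GL (Fin 3) F}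
    (hg₀ : g₀ ∈ U) (hR : R = hf.R₀.map (MulAut.conj g₀).toMonoidHom)
    {x : GL (Fin 3) F} (hx : x ∈ U) (hns : ∀ z : F, (x : Matrix (Fin 3) (Fin 3) F) ≠ z • 1)
    {s : F} (hs : μ s) (hpow : ((x * scg s (hf.μne s hs) : GL (Fin 3) F) : Matrix (Fin 3) (Fin 3) F) ^ 2 = 1) :
    ∃ g ∈ U ⊓ Cfsg.Geo.specialLinear (Fin 3) F,
      g⁻¹ * x * g ∈ Subgroup.normalizer (R : Set (GL (Fin 3) F)) := by
  obtain ⟨g₁, hg₁, d, hd⟩ := hf.diagonalise _ (mul_mem hx (hf.scg_mem hs)) 2 (Or.inl rfl) hpow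
  have hP2 : (pm (Equiv.swap 1 2) : Matrix (Fin 3) (Fin 3) F) ^ 2 = 1 := by
    rw [pow_two, pm_mul, Equiv.swap_mul_self, pm_one]
  obtain ⟨g₂, hg₂, t, ht⟩ := hf.diagonalise _ (hf.perm_mem (Equiv.swap 1 2)) 2 (Or.inl rfl) hP2
  have hPns : ∀ z : F, ((pmg (Equiv.swap 1 2) : GL (Fin 3) F) : Matrix (Fin 3) (Fin 3) F) ≠ z • 1 := by
    intro z hz
    have h1 := congrArg (fun M : Matrix (Fin 3) (Fin 3) F => M 1 2) hz
    simp [pmg, pm_apply] at h1
  have ht' := not_const hPns (g := g₂) one_ne_zero (d := t) (by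
    rw [show pmg (Equiv.swap (1 : Fin 3) 2) * scg (1 : F) one_ne_zero = pmg (Equiv.swap (1 : Fin 3) 2) from
      Units.ext (by rw [Units.val_mul, scg_val, one_smul, mul_one])]
    exact ht)
  have hd' := not_const hns _ hd
  have pm1 : ∀ {u : F}, u ^ 2 = 1 → ∃ e : Fin 2, u = (-1) ^ (e : ℕ) := by
    intro u hu
    rcases sq_eq_one_iff.1 hu with h | h
    · exact ⟨0, by simp [h]⟩
    · exact ⟨1, by simp [h]⟩
  choose e he using fun i => pm1 (hf.diag_roots hpow hd i)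
  choose f hf' using fun i => pm1 (hf.diag_roots (y := pmg (Equiv.swap 1 2)) hP2 ht i)
  have hdec : ∀ u v : Fin 3 → Fin 2, (¬ ∀ i, u i = u 0) → (¬ ∀ i, v i = v 0) →
      ∃ σ : Equiv.Perm (Fin 3), ∃ a : Fin 2, ∀ i, v i = a + u (σ i) := by decide
  obtain ⟨σ, a, hσ⟩ := hdec e f (fun h => hd' fun i => by rw [he, h, ← he])
    (fun h => ht' fun i => by rw [hf', h, ← hf'])
  refine hf.fix_of_diag hg₀ hR hg₁ _ hd hf.swap_mem hg₂ (c := (-1 : F) ^ (a : ℕ))
    (pow_ne_zero _ (neg_ne_zero.2 one_ne_zero)) σ ?_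
  rw [ht]
  congr 1
  funext i
  rw [hf', hσ, he, ← _root_.pow_add, Fin.val_add]
  exact (pow_eq_pow_mod ((a : ℕ) + (e (σ i) : ℕ)) (show (-1 : F) ^ 2 = 1 by ring)).symm

theorem Frame.fix_three [Finite F] (hf : Frame U μ ω) {R : Subgroup (GL (Fin 3) F)} {g₀ : GL (Fin 3) F}
    (hg₀ : g₀ ∈ U) (hR : R = hf.R₀.map (MulAut.conj g₀).toMonoidHom)
    {x : GL (Fin 3) F} (hx : x ∈ U) (hns : ∀ z : F, (x : Matrix (Fin 3) (Fin 3) F) ≠ z • 1)
    {s : F} (hs : μ s) (hpow : ((x * scg s (hf.μne s hs) : GL (Fin 3) F) : Matrix (Fin 3) (Fin 3) F) ^ 3 = 1) :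
    ∃ g ∈ U ⊓ Cfsg.Geo.specialLinear (Fin 3) F,
      g⁻¹ * x * g ∈ Subgroup.normalizer (R : Set (GL (Fin 3) F)) := by
  obtain ⟨g₁, hg₁, d, hd⟩ := hf.diagonalise _ (mul_mem hx (hf.scg_mem hs)) 3 (Or.inr rfl) hpow
  choose e he using fun i => hf.roots (hf.diag_roots hpow hd i)
  have hd' := not_const hns _ hd
  have hdec : ∀ u : Fin 3 → Fin 3, (¬ ∀ i, u i = u 0) →
      ∃ σ : Equiv.Perm (Fin 3), ∃ a : Fin 3, (∀ i, i = a + u (σ i)) ∨
        (∀ i, ex3 i = a + u (σ i)) ∨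
        ∀ i, ex3 i + ex3 i = a + u (σ i) := by decide
  obtain ⟨σ, a, h⟩ := hdec e fun h => hd' fun i => by rw [he, h, ← he]
  have hc : ω ^ (a : ℕ) ≠ 0 := pow_ne_zero _ hf.ω0
  have hXn : hf.X ∈ Subgroup.normalizer (hf.R₀ : Set (GL (Fin 3) F)) := Subgroup.le_normalizer hf.X_mem
  rcases h with h | h | h
  · refine hf.fix_of_diag hg₀ hR hg₁ _ hd hXn U.one_mem hc σ ?_
    rw [inv_one, one_mul, mul_one]
    show diagonal _ = diagonal _
    congr 1
    funext i
    rw [he, ← hf.pow_add, ← h]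
  · refine hf.fix_of_diag hg₀ hR hg₁ _ hd hf.D_mem U.one_mem hc σ ?_
    rw [inv_one, one_mul, mul_one]
    show diagonal _ = diagonal _
    congr 1
    funext i
    rw [he, ← hf.pow_add, ← h]
  · refine hf.fix_of_diag hg₀ hR hg₁ _ hd (mul_mem hf.D_mem hf.D_mem) U.one_mem hc σ ?_
    rw [inv_one, one_mul, mul_one]
    show diagonal _ * diagonal _ = diagonal _
    rw [diagonal_mul_diagonal]
    congr 1
    funext i
    rw [he, ← hf.pow_add, ← hf.pow_add, ← h]

/-! ### The criterion -/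

theorem Frame.R₀_le [Finite F] (hf : Frame U μ ω) : hf.R₀ ≤ U ⊓ Cfsg.Geo.specialLinear (Fin 3) F := by
  rw [Frame.R₀, Subgroup.closure_le]
  rintro x (rfl | rfl)
  · refine ⟨hf.diag_mem _ _ fun i => hf.μpow _, ?_⟩
    show Matrix.GeneralLinearGroup.det hf.X = 1
    refine Units.ext ?_
    rw [Matrix.GeneralLinearGroup.val_det_apply, Units.val_one]
    show (diagonal _).det = (1 : F)
    rw [det_diagonal, Fin.prod_univ_three]
    simp
    linear_combination hf.ω3
  · refine ⟨hf.perm_mem _, ?_⟩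
    show Matrix.GeneralLinearGroup.det (pmg cyc : GL (Fin 3) F) = 1
    refine Units.ext ?_
    rw [Matrix.GeneralLinearGroup.val_det_apply, Units.val_one]
    show (pm cyc : Matrix (Fin 3) (Fin 3) F).det = 1
    rw [det_fin_three]
    simp [pm_apply, cyc]

theorem Frame.eq_scalar (hf : Frame U μ ω) {y : GL (Fin 3) F} (h1 : y * hf.X = hf.X * y)
    (h2 : y * pmg cyc = pmg cyc * y) : ∃ z : F, (y : Matrix (Fin 3) (Fin 3) F) = z • 1 := by
  refine ⟨(y : Matrix (Fin 3) (Fin 3) F) 0 0, ?_⟩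
  have hoff : ∀ i j, i ≠ j → (y : Matrix (Fin 3) (Fin 3) F) i j = 0 := by
    intro i j hij
    have := congrArg (fun u : GL (Fin 3) F => (u : Matrix (Fin 3) (Fin 3) F) i j) h1
    simp only [Frame.X, dg, Units.val_mul, diagonal_mul, mul_diagonal] at this
    by_contra h0
    exact hij (hf.pow_inj (mul_left_cancel₀ h0 (this.trans (mul_comm _ _)))).symm
  have hT := fun i j => congrArg (fun u : GL (Fin 3) F => (u : Matrix (Fin 3) (Fin 3) F) i j) h2
  have e1 := hT 1 0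
  have e2 := hT 2 1
  simp [pmg, pm_apply, cyc, Matrix.mul_apply, Fin.sum_univ_three] at e1 e2
  ext i j
  by_cases hij : i = j
  · subst hij
    fin_cases i <;> simp_all
  · rw [hoff i j hij]; simp [hij]

/-- An element of prime order at least five in the normaliser is scalar. -/
theorem Frame.scalar_of_order [Finite F] (hf : Frame U μ ω) {R : Subgroup (GL (Fin 3) F)} {g₀ : GL (Fin 3) F}
    (hR : R = hf.R₀.map (MulAut.conj g₀).toMonoidHom) (hcard : Nat.card R = 27)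
    {r : ℕ} [Fact r.Prime] (hr : 5 ≤ r) {y : GL (Fin 3) F}
    (hy : y ∈ Subgroup.normalizer (R : Set (GL (Fin 3) F))) (hy1 : y ^ r = 1) :
    ∃ z : F, (y : Matrix (Fin 3) (Fin 3) F) = z • 1 := by
  classical
  set y₀ := g₀⁻¹ * y * g₀ with hy₀
  set R' := hf.R₀
  have hcard' : Nat.card R' = 27 := by
    rw [← hcard, hR]
    exact Nat.card_congr (R'.equivMapOfInjective _ (MulAut.conj g₀).injective).toEquiv
  have hy₀N : y₀ ∈ Subgroup.normalizer (R' : Set (GL (Fin 3) F)) := by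
    rw [Subgroup.mem_normalizer_iff]
    intro z
    have h := Subgroup.mem_normalizer_iff.1 hy (g₀ * z * g₀⁻¹)
    have hmem : ∀ w : GL (Fin 3) F, g₀ * w * g₀⁻¹ ∈ R ↔ w ∈ R' := fun w => by
      rw [hR]
      exact Subgroup.mem_map_iff_mem (f := (MulAut.conj g₀).toMonoidHom) (MulAut.conj g₀).injective
    rw [hmem] at h
    rw [h, ← hmem (y₀ * z * y₀⁻¹), show g₀ * (y₀ * z * y₀⁻¹) * g₀⁻¹ = y * (g₀ * z * g₀⁻¹) * y⁻¹ by
      rw [hy₀]; group]
  have hy₀1 : y₀ ^ r = 1 := by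
    have := map_pow (MulAut.conj g₀⁻¹) y r
    rw [hy1, map_one] at this
    simpa [MulAut.conj_apply] using this.symm
  -- the fixed points
  let K := Subgroup.zpowers y₀
  have hK : IsPGroup r K := by
    intro k
    refine ⟨1, ?_⟩
    obtain ⟨i, hi⟩ := Subgroup.mem_zpowers_iff.1 k.2
    refine Subtype.ext ?_
    rw [SubmonoidClass.coe_pow, ← hi, pow_one, ← zpow_natCast, ← _root_.zpow_mul, mul_comm, _root_.zpow_mul, zpow_natCast,
      hy₀1, _root_.one_zpow]
    rfl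
  have hKN : K ≤ Subgroup.normalizer (R' : Set (GL (Fin 3) F)) := Subgroup.zpowers_le.2 hy₀N
  letI : MulAction K R' :=
    { smul := fun k x => ⟨(k : GL (Fin 3) F) * x * (k : GL (Fin 3) F)⁻¹,
        (Subgroup.mem_normalizer_iff.1 (hKN k.2) x).1 x.2⟩
      one_smul := fun x => Subtype.ext (by
        show ((1 : K) : GL (Fin 3) F) * x * ((1 : K) : GL (Fin 3) F)⁻¹ = x
        simp)
      mul_smul := fun a b x => Subtype.ext (by
        show ((a * b : K) : GL (Fin 3) F) * x * ((a * b : K) : GL (Fin 3) F)⁻¹ =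
          (a : GL (Fin 3) F) * ((b : GL (Fin 3) F) * x * (b : GL (Fin 3) F)⁻¹) * (a : GL (Fin 3) F)⁻¹
        rw [Subgroup.coe_mul]; group) }
  have hmod := hK.card_modEq_card_fixedPoints R'
  rw [hcard'] at hmod
  let Fx : Subgroup R' := (Subgroup.centralizer {y₀}).subgroupOf R'
  have hfix : MulAction.fixedPoints K R' = (Fx : Set R') := by
    ext x
    simp only [MulAction.mem_fixedPoints, SetLike.mem_coe]
    rw [Subgroup.mem_subgroupOf, Subgroup.mem_centralizer_singleton_iff]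
    constructor
    · intro h
      have hh : y₀ * (x : GL (Fin 3) F) * y₀⁻¹ = x := congrArg Subtype.val (h ⟨y₀, Subgroup.mem_zpowers _⟩)
      exact (mul_inv_eq_iff_eq_mul.1 hh).symm
    · intro h k
      obtain ⟨i, hi⟩ := Subgroup.mem_zpowers_iff.1 k.2
      refine Subtype.ext ?_
      show (k : GL (Fin 3) F) * x * (k : GL (Fin 3) F)⁻¹ = x
      rw [← hi, mul_inv_eq_iff_eq_mul]
      exact ((show Commute (x : GL (Fin 3) F) y₀ from h).zpow_right i).symm.eq
  rw [hfix] at hmod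
  have hdvd : Nat.card Fx ∣ 3 ^ 3 := by
    rw [show 3 ^ 3 = Nat.card R' by rw [hcard']; norm_num]
    exact Subgroup.card_subgroup_dvd_card _
  obtain ⟨j, hj, hFx⟩ := (Nat.dvd_prime_pow Nat.prime_three).1 hdvd
  have hmod' : 27 ≡ 3 ^ j [MOD r] := by rw [← hFx]; exact hmod
  have hj0 : j ≠ 0 := by
    intro h0
    rw [h0, pow_zero] at hFx
    have hc : pmg cyc * hf.X * (pmg cyc)⁻¹ * hf.X⁻¹ ∈ R' :=
      mul_mem (mul_mem (mul_mem hf.T_mem hf.X_mem) (inv_mem hf.T_mem)) (inv_mem hf.X_mem)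
    have hsc : pmg cyc * hf.X * (pmg cyc)⁻¹ * hf.X⁻¹ = scg (ω ^ 2) (pow_ne_zero _ hf.ω0) := by
      rw [mul_inv_eq_iff_eq_mul, mul_inv_eq_iff_eq_mul]
      refine Units.ext ?_
      rw [Units.val_mul, Units.val_mul, Units.val_mul, scg_val, smul_one_mul, Matrix.smul_mul]
      show pm cyc * diagonal _ = ω ^ 2 • (diagonal _ * pm cyc)
      rw [pm_diag, ← Matrix.smul_mul, ← diagonal_smul]
      congr 2
      funext i
      have e1 : ∀ k : Fin 3, (cyc⁻¹ k : Fin 3) = 2 + k := by decide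
      rw [e1, hf.pow_add]
      simp
    have hmem : (⟨_, hc⟩ : R') ∈ Fx := by
      rw [Subgroup.mem_subgroupOf, Subgroup.mem_centralizer_singleton_iff]
      show pmg cyc * hf.X * (pmg cyc)⁻¹ * hf.X⁻¹ * y₀ = y₀ * (pmg cyc * hf.X * (pmg cyc)⁻¹ * hf.X⁻¹)
      rw [hsc]; exact scg_comm _ _ _
    have := (Nat.card_eq_one_iff_unique.1 hFx).1
    have h1 : pmg cyc * hf.X * (pmg cyc)⁻¹ * hf.X⁻¹ = 1 :=
      congrArg (fun u : Fx => ((u : R') : GL (Fin 3) F)) (Subsingleton.elim ⟨_, hmem⟩ ⟨1, Fx.one_mem⟩)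
    rw [hsc] at h1
    have h2 := congrArg (fun u : GL (Fin 3) F => (u : Matrix (Fin 3) (Fin 3) F) 0 0) h1
    simp only [scg_val, Matrix.smul_apply, Matrix.one_apply_eq, smul_eq_mul, mul_one, Units.val_one] at h2
    exact hf.ω2_ne h2
  have hj3 : j = 3 := by
    by_contra hne
    have hd : r ∣ 27 - 3 ^ j := (Nat.modEq_iff_dvd' (by
      calc 3 ^ j ≤ 3 ^ 3 := Nat.pow_le_pow_right (by norm_num) hj
        _ = 27 := by norm_num)).1 hmod'.symm
    have hp := (Fact.out : r.Prime)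
    have h24 : r ∣ 2 ^ 3 * 3 ∨ r ∣ 2 * 3 ^ 2 := by
      interval_cases j
      · omega
      · left; simpa using hd
      · right; simpa using hd
      · omega
    rcases h24 with h | h <;> rcases (Nat.Prime.dvd_mul hp).1 h with h' | h'
    · have := Nat.le_of_dvd two_pos (hp.dvd_of_dvd_pow h'); omega
    · have := Nat.le_of_dvd (by norm_num) h'; omega
    · have := Nat.le_of_dvd two_pos h'; omega
    · have := Nat.le_of_dvd (by norm_num) (hp.dvd_of_dvd_pow h'); omega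
  have htop : Fx = ⊤ := Subgroup.eq_top_of_card_eq _ (by rw [hFx, hj3, hcard']; norm_num)
  have hcen : ∀ x ∈ R', y₀ * x = x * y₀ := fun x hx => by
    have : (⟨x, hx⟩ : R') ∈ Fx := htop ▸ Subgroup.mem_top _
    exact (Subgroup.mem_centralizer_singleton_iff.1 (Subgroup.mem_subgroupOf.1 this)).symm
  obtain ⟨z, hz⟩ := hf.eq_scalar (hcen _ hf.X_mem) (hcen _ hf.T_mem)
  refine ⟨z, ?_⟩
  rw [show y = g₀ * y₀ * g₀⁻¹ by rw [hy₀]; group, Units.val_mul, Units.val_mul, hz, mul_smul_one,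
    Matrix.smul_mul, ← Units.val_mul, mul_inv_cancel, Units.val_one]

theorem Frame.fixes_iff [Finite F] (hf : Frame U μ ω) {R : Subgroup (GL (Fin 3) F)} (hRU : R ≤ U)
    (hR : Nat.card R = 27) (hRe : Monoid.exponent R = 3) (hRna : ¬ IsMulCommutative R)
    (r : ℕ) [Fact r.Prime] (P : Prop) (hcube : P → ∃ ζ, μ ζ ∧ ζ ^ 3 = ω)
    (h81 : ¬ P → ¬ 81 ∣ Nat.card ↥(U ⊓ Cfsg.Geo.specialLinear (Fin 3) F))
    (hΩ : r ∣ (Cfsg.Geo.subgroupNormalizer R).relIndex (U ⊓ Cfsg.Geo.specialLinear (Fin 3) F)) :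
    (∀ x ∈ U ⊓ Cfsg.Geo.specialLinear (Fin 3) F,
      (∃ z : F, ((x ^ r : GL (Fin 3) F) : Matrix (Fin 3) (Fin 3) F) = z • (1 : Matrix (Fin 3) (Fin 3) F)) →
      (∀ z : F, (x : Matrix (Fin 3) (Fin 3) F) ≠ z • (1 : Matrix (Fin 3) (Fin 3) F)) →
      ∃ g ∈ U ⊓ Cfsg.Geo.specialLinear (Fin 3) F, g⁻¹ * x * g ∈ Cfsg.Geo.subgroupNormalizer R) ↔
    (r = 2 ∨ (r = 3 ∧ P)) := by
  obtain ⟨g₀, hg₀, hRg⟩ := hf.exists_standard hRU hR hRe hRna
  set S := U ⊓ Cfsg.Geo.specialLinear (Fin 3) F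
  set N := Cfsg.Geo.subgroupNormalizer R
  have hS : N.relIndex S * Nat.card ↥(N ⊓ S) = Nat.card S := by
    rw [← Subgroup.inf_relIndex_right, ← Subgroup.relIndex_bot_left (N ⊓ S),
      ← Subgroup.relIndex_bot_left S, mul_comm]
    exact Subgroup.relIndex_mul_relIndex ⊥ (N ⊓ S) S bot_le inf_le_right
  have hRS : R ≤ S := by
    rw [hRg]
    rintro _ ⟨x, hx, rfl⟩
    obtain ⟨hxU, hx1⟩ := hf.R₀_le hx
    have hmU : g₀ * x * g₀⁻¹ ∈ U := mul_mem (mul_mem hg₀ hxU) (inv_mem hg₀)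
    refine ⟨hmU, ?_⟩
    show Matrix.GeneralLinearGroup.det (g₀ * x * g₀⁻¹) = 1
    rw [map_mul, map_mul, show Matrix.GeneralLinearGroup.det x = 1 from hx1, mul_one, map_inv, mul_inv_cancel]
  have h27 : 27 ∣ Nat.card ↥(N ⊓ S) :=
    hR ▸ Subgroup.card_dvd_of_le (le_inf Subgroup.le_normalizer hRS)
  have hdet : ∀ x ∈ S, (x : Matrix (Fin 3) (Fin 3) F).det = 1 := fun x hx => by
    have := congrArg Units.val (hx.2 : Matrix.GeneralLinearGroup.det x = 1)
    simpa using this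
  have hz3 : ∀ x ∈ S, ∀ z : F, ((x ^ r : GL (Fin 3) F) : Matrix (Fin 3) (Fin 3) F) = z • 1 → z ^ 3 = 1 := by
    intro x hx z hz
    have := congrArg Matrix.det hz
    rw [Units.val_pow_eq_pow_val, det_pow, hdet x hx, one_pow, det_smul, det_one, mul_one, Fintype.card_fin] at this
    exact this.symm
  constructor
  · intro hall
    by_cases hr2 : r = 2
    · exact Or.inl hr2
    by_cases hr3 : r = 3
    · refine Or.inr ⟨hr3, ?_⟩
      by_contra hP
      subst hr3
      apply h81 hP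
      rw [← hS]
      exact Nat.mul_dvd_mul hΩ h27
    exfalso
    have hr5 : 5 ≤ r := by
      have hp := (Fact.out : r.Prime)
      have := hp.two_le
      by_contra h
      have h4 : r = 4 := by omega
      exact absurd (h4 ▸ hp) (by norm_num)
    have hrS : r ∣ Nat.card S := hS ▸ dvd_mul_of_dvd_left hΩ _
    obtain ⟨x, hx⟩ := exists_prime_orderOf_dvd_card' r hrS
    have hx1 : (x : GL (Fin 3) F) ^ r = 1 := by
      have := pow_orderOf_eq_one x
      rw [hx] at this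
      exact congrArg Subtype.val this
    have hne : x ≠ 1 := fun h => by
      rw [h, orderOf_one] at hx; omega
    have hns : ∀ z : F, ((x : GL (Fin 3) F) : Matrix (Fin 3) (Fin 3) F) ≠ z • 1 := by
      intro z hz
      apply hne
      have h3 : z ^ 3 = 1 := by
        have := congrArg Matrix.det hz
        rw [hdet _ x.2, det_smul, det_one, mul_one, Fintype.card_fin] at this
        exact this.symm
      have hx3 : (x : GL (Fin 3) F) ^ 3 = 1 := Units.ext (by
        rw [Units.val_pow_eq_pow_val, hz, smul_pow, h3, one_pow, one_smul, Units.val_one])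
      have hco : Nat.Coprime r 3 := (Nat.coprime_primes (Fact.out : r.Prime) Nat.prime_three).2 hr3
      have := pow_gcd_eq_one.2 ⟨hx1, hx3⟩
      rw [hco, pow_one] at this
      exact Subtype.ext this
    obtain ⟨g, -, hg⟩ := hall x x.2 ⟨1, by rw [hx1, one_smul]; rfl⟩ hns
    obtain ⟨z, hz⟩ := hf.scalar_of_order hRg hR hr5 hg (by
      have := map_pow (MulAut.conj g⁻¹) (x : GL (Fin 3) F) r
      rw [hx1, map_one] at this
      simpa [MulAut.conj_apply] using this.symm)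
    apply hns z
    rw [show (x : GL (Fin 3) F) = g * (g⁻¹ * x * g) * g⁻¹ by group, Units.val_mul, Units.val_mul, hz,
      mul_smul_one, Matrix.smul_mul, ← Units.val_mul, mul_inv_cancel, Units.val_one]
  · intro hr x hx hzx hns
    obtain ⟨z, hz⟩ := hzx
    obtain ⟨k, hk⟩ := hf.roots (hz3 x hx z hz)
    rw [Units.val_pow_eq_pow_val, hk] at hz
    rcases hr with rfl | ⟨rfl, hP⟩
    · refine hf.fix_two hg₀ hRg hx.1 hns (hf.μpow (k : ℕ)) ?_
      rw [Units.val_mul, scg_val, mul_smul_one, smul_pow, hz, smul_smul, ← _root_.pow_mul, ← _root_.pow_add,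
        show (k : ℕ) * 2 + k = 3 * k by ring, _root_.pow_mul, hf.ω3, one_pow, one_smul]
    · obtain ⟨ζ, hζ, hζ3⟩ := hcube hP
      have hμ : μ (ζ⁻¹ ^ (k : ℕ)) := by
        generalize (k : ℕ) = j
        induction j with
        | zero => rw [pow_zero]; exact hf.μone
        | succ j ih => rw [pow_succ]; exact hf.μmul _ _ ih (hf.μinv ζ hζ)
      refine hf.fix_three hg₀ hRg hx.1 hns hμ ?_
      rw [Units.val_mul, scg_val, mul_smul_one, smul_pow, hz, smul_smul, ← _root_.pow_mul,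
        mul_comm (k : ℕ) 3, _root_.pow_mul, inv_pow, hζ3, ← mul_pow, inv_mul_cancel₀ hf.ω0, one_pow, one_smul]

end Cfsg.Agent.PrimeFix.Heis3
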