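/-
The general linear and the general unitary group in dimension three as frames for the normaliser of a group of
order 27.
-/
import Cfsg.Agent.Lib.PrimeFix.Heisenberg3
import Cfsg.Agent.Lib.Aschbacher.SUThree

set_option autoImplicit false
set_option linter.unusedSectionVars false

namespace Cfsg.Agent.PrimeFix.Heis3

open Matrix Module

variable {F : Type*} [Field F]

/-- Eigenvectors of a matrix of exponent two or three. -/
theorem eig_decomp {ω : F} (h3 : ω ^ 3 = 1) (h1 : ω ≠ 1) (h2 : (2 : F) ≠ 0)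
    {Y : Matrix (Fin 3) (Fin 3) F} {k : ℕ} (hk : k = 2 ∨ k = 3) (hY : Y ^ k = 1)
    (W : Submodule F (Fin 3 → F)) (hW : ∀ w ∈ W, Y *ᵥ w ∈ W) {v : Fin 3 → F} (hv : v ∈ W) :
    v ∈ Submodule.span F {w | w ∈ W ∧ ∃ c : F, c ^ k = 1 ∧ Y *ᵥ w = c • w} := by
  have hq : ω ^ 2 + ω + 1 = 0 := by
    have h : (ω - 1) * (ω ^ 2 + ω + 1) = 0 := by linear_combination h3
    exact (mul_eq_zero.1 h).resolve_left (sub_ne_zero.2 h1)
  set S := {w | w ∈ W ∧ ∃ c : F, c ^ k = 1 ∧ Y *ᵥ w = c • w}
  rcases hk with rfl | rfl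
  · have e : Y *ᵥ (Y *ᵥ v) = v := by rw [mulVec_mulVec, ← pow_two, hY, one_mulVec]
    have e1 : v + Y *ᵥ v ∈ Submodule.span F S :=
      Submodule.subset_span ⟨add_mem hv (hW v hv), 1, one_pow _, by rw [mulVec_add, e, one_smul, add_comm]⟩
    have e2 : v - Y *ᵥ v ∈ Submodule.span F S :=
      Submodule.subset_span ⟨sub_mem hv (hW v hv), -1, by ring, by rw [mulVec_sub, e, neg_one_smul, neg_sub]⟩
    have h := Submodule.smul_mem _ (2 : F)⁻¹ (add_mem e1 e2)
    convert h using 1
    rw [show v + Y *ᵥ v + (v - Y *ᵥ v) = (2 : F) • v by rw [two_smul]; abel, smul_smul, inv_mul_cancel₀ h2,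
      one_smul]
  · have e : Y *ᵥ (Y *ᵥ (Y *ᵥ v)) = v := by
      rw [mulVec_mulVec, mulVec_mulVec, ← pow_two, ← pow_succ, hY, one_mulVec]
    have h3' : (3 : F) ≠ 0 := by
      intro h
      apply h1
      have h' : (ω - 1) ^ 2 = 0 := by linear_combination hq - ω * h
      exact sub_eq_zero.1 (pow_eq_zero_iff two_ne_zero |>.1 h')
    have key : ∀ c : F, c ^ 3 = 1 → (v + c • (Y *ᵥ v) + c ^ 2 • (Y *ᵥ (Y *ᵥ v))) ∈ Submodule.span F S := by
      intro c hc
      refine Submodule.subset_span ⟨add_mem (add_mem hv (W.smul_mem _ (hW v hv)))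
        (W.smul_mem _ (hW _ (hW v hv))), c ^ 2, ?_, ?_⟩
      · linear_combination (c ^ 3 + 1) * hc
      · rw [mulVec_add, mulVec_add, mulVec_smul, mulVec_smul, e, smul_add, smul_add, smul_smul, smul_smul,
          show c ^ 2 * c = 1 by linear_combination hc, show c ^ 2 * c ^ 2 = c by linear_combination c * hc,
          one_smul]
        abel
    have h := Submodule.smul_mem _ (3 : F)⁻¹ (add_mem (add_mem (key 1 (one_pow _)) (key ω h3))
      (key (ω ^ 2) (by linear_combination (ω ^ 3 + 1) * h3)))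
    convert h using 1
    rw [show v + (1 : F) • (Y *ᵥ v) + (1 : F) ^ 2 • (Y *ᵥ (Y *ᵥ v)) + (v + ω • (Y *ᵥ v) + ω ^ 2 • (Y *ᵥ (Y *ᵥ v))) +
        (v + ω ^ 2 • (Y *ᵥ v) + (ω ^ 2) ^ 2 • (Y *ᵥ (Y *ᵥ v))) = (3 : F) • v by
      have e4 : (ω ^ 2) ^ 2 = ω := by linear_combination ω * h3
      rw [e4]
      match_scalars <;> first | linear_combination hq | ring1, smul_smul, inv_mul_cancel₀ h3', one_smul]

/-- A change of basis from independent eigenvectors. -/
theorem exists_diag_of_columns {y g : GL (Fin 3) F} {d : Fin 3 → F}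
    (h : ∀ i, (y : Matrix (Fin 3) (Fin 3) F) *ᵥ ((g : Matrix (Fin 3) (Fin 3) F) *ᵥ Pi.single i 1) =
      d i • ((g : Matrix (Fin 3) (Fin 3) F) *ᵥ Pi.single i 1)) :
    ((g⁻¹ * y * g : GL (Fin 3) F) : Matrix (Fin 3) (Fin 3) F) = diagonal d := by
  have e : (y : Matrix (Fin 3) (Fin 3) F) * (g : Matrix (Fin 3) (Fin 3) F) =
      (g : Matrix (Fin 3) (Fin 3) F) * diagonal d := by
    ext r c
    have hc := congrFun (h c) r
    rw [mulVec_mulVec, mulVec_single_one, mulVec_single_one] at hc
    rw [mul_diagonal, mul_comm]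
    exact hc
  rw [mul_assoc, Units.val_mul, Units.val_mul, e, ← mul_assoc, ← Units.val_mul, inv_mul_cancel, Units.val_one,
    one_mul]

theorem diagonalise_top {ω : F} (h3 : ω ^ 3 = 1) (h1 : ω ≠ 1) (h2 : (2 : F) ≠ 0) (y : GL (Fin 3) F) (k : ℕ)
    (hk : k = 2 ∨ k = 3) (hy : (y : Matrix (Fin 3) (Fin 3) F) ^ k = 1) :
    ∃ g : GL (Fin 3) F, ∃ d, ((g⁻¹ * y * g : GL (Fin 3) F) : Matrix (Fin 3) (Fin 3) F) = diagonal d := by
  classical
  set S := {w : Fin 3 → F | w ∈ (⊤ : Submodule F (Fin 3 → F)) ∧
    ∃ c : F, c ^ k = 1 ∧ (y : Matrix (Fin 3) (Fin 3) F) *ᵥ w = c • w} with hS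
  have hspan : ⊤ ≤ Submodule.span F S := fun v _ =>
    eig_decomp h3 h1 h2 hk hy ⊤ (fun _ _ => trivial) (v := v) trivial
  obtain ⟨b, hb, hbspan, hbli⟩ := exists_linearIndependent F S
  let B : Basis b F (Fin 3 → F) := Basis.mk hbli (by rw [Subtype.range_coe, hbspan]; exact hspan)
  haveI : Finite b := Module.Finite.finite_basis B
  haveI : Fintype b := Fintype.ofFinite b
  have hcard : Fintype.card b = 3 := by
    rw [← finrank_eq_card_basis B, Module.finrank_fintype_fun_eq_card, Fintype.card_fin]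
  let B' : Basis (Fin 3) F (Fin 3 → F) := B.reindex (Fintype.equivFinOfCardEq hcard)
  have hmem : ∀ i, B' i ∈ S := fun i => by
    have : B' i = ((Fintype.equivFinOfCardEq hcard).symm i : Fin 3 → F) := by simp [B', B]
    rw [this]
    exact hb ((Fintype.equivFinOfCardEq hcard).symm i).2
  choose c _hck hc using fun i => (hmem i).2
  let M : Matrix (Fin 3) (Fin 3) F := (Pi.basisFun F (Fin 3)).toMatrix B'
  haveI : Invertible M := (Pi.basisFun F (Fin 3)).invertibleToMatrix B'
  refine ⟨Matrix.GeneralLinearGroup.mk'' M (Matrix.isUnit_det_of_invertible M), c,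
    exists_diag_of_columns fun i => ?_⟩
  have hcol : M *ᵥ Pi.single i 1 = B' i := by
    funext r
    rw [mulVec_single_one]
    simp [M, Basis.toMatrix_apply]
  show _ *ᵥ (M *ᵥ _) = _ • (M *ᵥ _)
  rw [hcol]
  exact hc i

/-- `GL` as a frame. -/
theorem frame_top {ω : F} (h3 : ω ^ 3 = 1) (h1 : ω ≠ 1) (h2 : (2 : F) ≠ 0) :
    Frame (⊤ : Subgroup (GL (Fin 3) F)) (fun c => c ≠ 0) ω where
  ω3 := h3
  ω1 := h1
  two := h2
  μω := fun h => by rw [h, zero_pow three_ne_zero] at h3; exact zero_ne_one h3
  μone := one_ne_zero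
  μneg := neg_ne_zero.2 one_ne_zero
  μmul := fun _ _ => mul_ne_zero
  μinv := fun _ => inv_ne_zero
  μne := fun _ h => h
  diag_mem := fun _ _ _ => Subgroup.mem_top _
  diag_entries := fun _ hd _ => hd
  perm_mem := fun _ => Subgroup.mem_top _
  det_mem := fun g _ => ((Matrix.isUnit_iff_isUnit_det _).1 g.isUnit).ne_zero
  diagonalise := fun y _ k hk hy => by
    obtain ⟨g, d, h⟩ := diagonalise_top h3 h1 h2 y k hk hy
    exact ⟨g, Subgroup.mem_top _, d, h⟩

/-! ### The unitary group -/

section GU

variable [Fintype F] {q : ℕ}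

theorem herm_add_left (u v w : Fin 3 → F) :
    hermForm 3 F q (u + v) w = hermForm 3 F q u w + hermForm 3 F q v w := by
  simp [hermForm, add_mul, Finset.sum_add_distrib]

theorem herm_smul_left (c : F) (u w : Fin 3 → F) : hermForm 3 F q (c • u) w = c * hermForm 3 F q u w := by
  simp [hermForm, Finset.mul_sum, mul_assoc]

theorem herm_smul_right (c : F) (u w : Fin 3 → F) : hermForm 3 F q u (c • w) = c ^ q * hermForm 3 F q u w := by
  simp only [hermForm, Pi.smul_apply, smul_eq_mul, Finset.mul_sum, mul_pow]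
  exact Finset.sum_congr rfl fun i _ => by ring

theorem herm_add_right (hF : Fintype.card F = q ^ 2) (u v w : Fin 3 → F) :
    hermForm 3 F q u (v + w) = hermForm 3 F q u v + hermForm 3 F q u w := by
  rw [← Forms.hermForm_swap hF (v + w) u, herm_add_left, map_add, Forms.hermForm_swap hF, Forms.hermForm_swap hF]

theorem exists_not_fixed (hF : Fintype.card F = q ^ 2) : ∃ c : F, c ^ q ≠ c := by
  by_contra h
  push Not at h
  exact Forms.qEnd_ne_id hF (RingHom.ext fun x => by rw [Forms.qEnd_apply]; exact h x)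

/-- An orthonormal eigenbasis for an isometry of exponent two or three. -/
theorem exists_orth_eigen (hF : Fintype.card F = q ^ 2) {ω : F} (h3 : ω ^ 3 = 1) (h1 : ω ≠ 1) (h2 : (2 : F) ≠ 0)
    {y : GL (Fin 3) F} (hy : y ∈ GU 3 F q) {k : ℕ} (hk : k = 2 ∨ k = 3) (hkq : k ∣ q + 1)
    (hyk : (y : Matrix (Fin 3) (Fin 3) F) ^ k = 1) :
    ∀ j : ℕ, j ≤ 3 → ∃ v : Fin j → Fin 3 → F, (∀ a b, hermForm 3 F q (v a) (v b) = if a = b then 1 else 0) ∧
      ∀ a, ∃ c : F, c ^ k = 1 ∧ (y : Matrix (Fin 3) (Fin 3) F) *ᵥ v a = c • v a := by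
  classical
  intro j
  induction j with
  | zero => exact fun _ => ⟨fun a => a.elim0, fun a => a.elim0, fun a => a.elim0⟩
  | succ j ih =>
    intro hj
    obtain ⟨v, hv, hve⟩ := ih (by omega)
    set Y := (y : Matrix (Fin 3) (Fin 3) F)
    have hk0 : k ≠ 0 := by rcases hk with rfl | rfl <;> omega
    let L : (Fin 3 → F) →ₗ[F] (Fin j → F) :=
      { toFun := fun w a => hermForm 3 F q w (v a)
        map_add' := fun u w => funext fun a => herm_add_left u w (v a)
        map_smul' := fun c w => funext fun a => herm_smul_left c w (v a) }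
    set W := LinearMap.ker L
    have hmemW : ∀ w, w ∈ W ↔ ∀ a, hermForm 3 F q w (v a) = 0 := fun w => by
      rw [LinearMap.mem_ker]
      exact ⟨fun h a => congrFun h a, fun h => funext h⟩
    have hWinv : ∀ w ∈ W, Y *ᵥ w ∈ W := by
      intro w hw
      rw [hmemW] at hw ⊢
      intro a
      obtain ⟨c, hc, hca⟩ := hve a
      have hc0 : c ≠ 0 := fun h => by rw [h, zero_pow hk0] at hc; exact zero_ne_one hc
      have h := hy w (v a)
      simp only [Units.coeHom_apply] at h
      rw [hw a, hca, herm_smul_right] at h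
      exact (mul_eq_zero.1 h).resolve_left (pow_ne_zero _ hc0)
    have hne : ∃ w ∈ W, w ≠ 0 := by
      by_contra hc
      push Not at hc
      have hinj : Function.Injective L := LinearMap.ker_eq_bot.1 (eq_bot_iff.2 fun w hw => hc w hw)
      have := LinearMap.finrank_le_finrank_of_injective hinj
      simp at this
      omega
    set S := {w | w ∈ W ∧ ∃ c : F, c ^ k = 1 ∧ Y *ᵥ w = c • w}
    obtain ⟨w₀, ⟨hw₀, c₀, hc₀, hwc⟩, haniso⟩ : ∃ w ∈ S, hermForm 3 F q w w ≠ 0 := by
      by_contra hall
      push Not at hall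
      obtain ⟨w₁, hw₁, hw₁0⟩ := hne
      have hnorm : ∀ c : F, c ^ k = 1 → c ^ (q + 1) = 1 := fun c hc => by
        obtain ⟨e, he⟩ := hkq
        rw [he, pow_mul, hc, one_pow]
      have hpair : ∀ u ∈ S, ∀ w ∈ S, hermForm 3 F q u w = 0 := by
        rintro u ⟨hu, cu, hcu, hue⟩ w ⟨hw, cw, hcw, hwe⟩
        by_cases hc : cu = cw
        · subst hc
          have hz : ∀ t : F, t ^ q * hermForm 3 F q u w + t * hermForm 3 F q w u = 0 := by
            intro t
            have h := hall (u + t • w) ⟨add_mem hu (W.smul_mem _ hw), cu, hcu, by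
              rw [mulVec_add, mulVec_smul, hue, hwe, smul_add, smul_comm]⟩
            rw [herm_add_left, herm_add_right hF, herm_add_right hF, herm_smul_left, herm_smul_left,
              herm_smul_right, herm_smul_right, hall u ⟨hu, cu, hcu, hue⟩, hall w ⟨hw, cu, hcu, hwe⟩] at h
            linear_combination h
          obtain ⟨t, ht⟩ := exists_not_fixed hF
          have e1 := hz 1
          rw [one_pow, one_mul, one_mul] at e1
          have e2 : (t ^ q - t) * hermForm 3 F q u w = 0 := by linear_combination hz t - t * e1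
          exact (mul_eq_zero.1 e2).resolve_left (sub_ne_zero.2 ht)
        · have h := hy u w
          simp only [Units.coeHom_apply] at h
          rw [show (y : Matrix (Fin 3) (Fin 3) F) = Y from rfl, hue, hwe, herm_smul_left, herm_smul_right,
            ← mul_assoc] at h
          by_contra hne'
          apply hc
          have h' : cu * cw ^ q = 1 := mul_right_cancel₀ hne' (by rw [h, one_mul])
          have h'' : cw * cw ^ q = 1 := by rw [← pow_succ']; exact hnorm cw hcw
          have hcw0 : cw ^ q ≠ 0 := fun h0 => by rw [h0, mul_zero] at h''; exact zero_ne_one h''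
          exact mul_right_cancel₀ hcw0 (h'.trans h''.symm)
      have hWW : ∀ u ∈ W, ∀ w ∈ W, hermForm 3 F q u w = 0 := by
        intro u hu w hw
        have hu' := eig_decomp h3 h1 h2 hk hyk W hWinv hu
        refine Submodule.span_induction (p := fun x _ => hermForm 3 F q x w = 0) ?_ ?_ ?_ ?_ hu'
        · intro x hx
          have hw' := eig_decomp h3 h1 h2 hk hyk W hWinv hw
          refine Submodule.span_induction (p := fun z _ => hermForm 3 F q x z = 0) ?_ ?_ ?_ ?_ hw'
          · exact fun z hz => hpair x hx z hz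
          · rw [← zero_smul F x, herm_smul_right, zero_pow (by have := Forms.one_lt_q hF; omega), zero_mul]
          · intro z z' _ _ e e'
            rw [herm_add_right hF, e, e', add_zero]
          · intro t z _ e
            rw [herm_smul_right, e, mul_zero]
        · rw [← zero_smul F w, herm_smul_left, zero_mul]
        · intro x x' _ _ e e'
          rw [herm_add_left, e, e', add_zero]
        · intro t x _ e
          rw [herm_smul_left, e, mul_zero]
      apply hw₁0
      funext i
      let x : Fin 3 → F := Pi.single i 1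
      let x' := x - ∑ a, hermForm 3 F q x (v a) • v a
      have hsum : ∀ (f : Fin j → F) (u : Fin 3 → F),
          hermForm 3 F q (∑ a, f a • v a) u = ∑ a, f a * hermForm 3 F q (v a) u := fun f u => by
        simp only [hermForm, Finset.sum_apply, Pi.smul_apply, smul_eq_mul, Finset.sum_mul, Finset.mul_sum]
        rw [Finset.sum_comm]
        exact Finset.sum_congr rfl fun a _ => Finset.sum_congr rfl fun r _ => mul_assoc _ _ _
      have hx' : x' ∈ W := by
        rw [hmemW]
        intro a
        have e : hermForm 3 F q x (v a) = hermForm 3 F q x' (v a) +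
            hermForm 3 F q (∑ b, hermForm 3 F q x (v b) • v b) (v a) := by
          rw [← herm_add_left, sub_add_cancel]
        rw [hsum, Finset.sum_eq_single a (fun b _ hb => by rw [hv, if_neg hb, mul_zero])
          (fun h => absurd (Finset.mem_univ a) h), hv, if_pos rfl, mul_one, right_eq_add] at e
        exact e
      have hva : ∀ a, hermForm 3 F q (v a) w₁ = 0 := fun a => by
        rw [← Forms.hermForm_swap hF w₁ (v a), (hmemW w₁).1 hw₁ a, map_zero]
      have hx0 : hermForm 3 F q x w₁ = 0 := by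
        rw [show x = x' + ∑ a, hermForm 3 F q x (v a) • v a from (sub_add_cancel _ _).symm, herm_add_left,
          hWW x' hx' w₁ hw₁, hsum, zero_add]
        exact Finset.sum_eq_zero fun a _ => by rw [hva, mul_zero]
      have hi : hermForm 3 F q x w₁ = w₁ i ^ q := by
        simp [hermForm, x, Pi.single_apply, ite_mul]
      rw [hi] at hx0
      exact eq_zero_of_pow_eq_zero hx0
    obtain ⟨t, ht, htn⟩ := Forms.exists_norm_eq hF (inv_ne_zero haniso) (by
      rw [inv_pow, Forms.hermForm_self_fixed hF])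
    have hnormed : hermForm 3 F q (t • w₀) (t • w₀) = 1 := by
      rw [Forms.hermForm_smul, htn, inv_mul_cancel₀ haniso]
    have horth : ∀ a, hermForm 3 F q (t • w₀) (v a) = 0 := fun a => by
      rw [herm_smul_left, (hmemW w₀).1 hw₀ a, mul_zero]
    refine ⟨Fin.snoc v (t • w₀), ?_, ?_⟩
    · intro a b
      induction a using Fin.lastCases with
      | last =>
        induction b using Fin.lastCases with
        | last => simp [hnormed]
        | cast b => simp [horth, (Fin.castSucc_ne_last b).symm]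
      | cast a =>
        induction b using Fin.lastCases with
        | last =>
          rw [Fin.snoc_castSucc, Fin.snoc_last, if_neg (Fin.castSucc_ne_last a),
            ← Forms.hermForm_swap hF (t • w₀) (v a), horth, map_zero]
        | cast b => simp [hv]
    · intro a
      induction a using Fin.lastCases with
      | last => exact ⟨c₀, hc₀, by rw [Fin.snoc_last, mulVec_smul, hwc, smul_comm]⟩
      | cast a => rw [Fin.snoc_castSucc]; exact hve a

/-- `GU` as a frame. -/
theorem frame_GU (hF : Fintype.card F = q ^ 2) {ω : F} (h3 : ω ^ 3 = 1) (h1 : ω ≠ 1) (h2 : (2 : F) ≠ 0)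
    (hq3 : 3 ∣ q + 1) (hq2 : 2 ∣ q + 1) :
    Frame (GU 3 F q) (fun c : F => c ^ (q + 1) = 1) ω where
  ω3 := h3
  ω1 := h1
  two := h2
  μω := by obtain ⟨e, he⟩ := hq3; rw [he, pow_mul, h3, one_pow]
  μone := one_pow _
  μneg := (even_iff_two_dvd.2 hq2).neg_one_pow
  μmul := fun a b ha hb => by rw [mul_pow, ha, hb, one_mul]
  μinv := fun a ha => by rw [inv_pow, ha, inv_one]
  μne := fun a ha h => by rw [h, zero_pow (Nat.succ_ne_zero q)] at ha; exact zero_ne_one ha
  diag_mem := fun d hd hμ u v => by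
    show ∑ i, (diagonal d *ᵥ u) i * (diagonal d *ᵥ v) i ^ q = ∑ i, u i * v i ^ q
    refine Finset.sum_congr rfl fun i _ => ?_
    rw [mulVec_diagonal, mulVec_diagonal, mul_pow]
    have := hμ i
    rw [pow_succ'] at this
    linear_combination (u i * v i ^ q) * this
  diag_entries := fun d hd h i => by
    have h' : hermForm 3 F q (diagonal d *ᵥ Pi.single i 1) (diagonal d *ᵥ Pi.single i 1) =
        hermForm 3 F q (Pi.single i (1 : F)) (Pi.single i 1) := h (Pi.single i 1) (Pi.single i 1)
    have e1 : diagonal d *ᵥ Pi.single i (1 : F) = d i • Pi.single i (1 : F) := by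
      funext r
      rw [mulVec_diagonal]
      by_cases hr : r = i
      · subst hr; simp
      · simp [hr]
    have hq0 : q ≠ 0 := by have := Forms.one_lt_q hF; omega
    have e2 : hermForm 3 F q (Pi.single i (1 : F)) (Pi.single i 1) = 1 := by
      rw [hermForm, Finset.sum_eq_single i (fun b _ hb => by simp [hb]) (fun h => absurd (Finset.mem_univ i) h)]
      simp
    rw [e1, herm_smul_left, herm_smul_right, e2, mul_one] at h'
    rwa [pow_succ']
  perm_mem := fun σ u v => by
    have hp : ∀ (w : Fin 3 → F) (r : Fin 3), (pm σ *ᵥ w) r = w (σ⁻¹ r) := by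
      intro w r
      rw [mulVec, dotProduct, Finset.sum_eq_single (σ⁻¹ r)]
      · rw [pm_apply, if_pos (show σ (σ⁻¹ r) = r from σ.apply_symm_apply r), one_mul]
      · intro b _ hb
        rw [pm_apply, if_neg (fun h => hb (by rw [← h]; simp)), zero_mul]
      · intro h; exact absurd (Finset.mem_univ _) h
    show ∑ i, (pm σ *ᵥ u) i * (pm σ *ᵥ v) i ^ q = ∑ i, u i * v i ^ q
    simp only [hp]
    exact Equiv.sum_comp σ⁻¹ fun i => u i * v i ^ q
  det_mem := fun g hg => Forms.det_pow_of_mem_GU hF hg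
  diagonalise := fun y hy k hk hyk => by
    obtain ⟨v, hv, hve⟩ := exists_orth_eigen hF h3 h1 h2 hy hk (by rcases hk with rfl | rfl <;> assumption)
      hyk 3 le_rfl
    choose c _hck hc using hve
    obtain ⟨g, hg, hgv⟩ := Aschbacher.SUThree.exists_GU_columns hF hv
    refine ⟨g, hg, c, exists_diag_of_columns fun i => ?_⟩
    rw [hgv i]
    exact hc i

end GU

end Cfsg.Agent.PrimeFix.Heis3
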