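import Cfsg.Agent.Lib.PrimeFix.PauliMain

/-!
Elements acting on two coordinates that are not conjugate into the normaliser, and residues modulo five.
-/

set_option autoImplicit false

namespace Cfsg.Agent.PauliFour

open Matrix
open scoped MatrixGroups

variable {F : Type*} [Field F]

local notation "M4" => Matrix (Fin 4) (Fin 4) F

/-- A block of determinant one as a unit. -/
def embUnit (C : Matrix (Fin 2) (Fin 2) F) (hC : C.det = 1) : GL (Fin 4) F :=
  Matrix.GeneralLinearGroup.mkOfDetNeZero (emb C) (by rw [det_emb, hC]; exact one_ne_zero)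

theorem coe_embUnit (C : Matrix (Fin 2) (Fin 2) F) (hC : C.det = 1) :
    ((embUnit C hC : GL (Fin 4) F) : M4) = emb C := rfl

theorem sq_two_by_two {C : Matrix (Fin 2) (Fin 2) F} {s : F} (hC : C.det = 1) (ht : C.trace = s) :
    C * C = s • C - 1 := by
  rw [Matrix.det_fin_two] at hC
  rw [Matrix.trace_fin_two] at ht
  subst ht
  ext i j; fin_cases i <;> fin_cases j <;> simp [Matrix.mul_apply, Fin.sum_univ_two] <;>
    first
    | linear_combination -hC
    | ring

theorem cube_two_by_two {C : Matrix (Fin 2) (Fin 2) F} (hC : C.det = 1) (ht : C.trace = -1) : C ^ 3 = 1 := by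
  have h := sq_two_by_two hC ht
  rw [pow_succ, pow_two, h, sub_mul, Matrix.smul_mul, h, one_mul, neg_one_smul, neg_one_smul]
  abel

theorem fifth_two_by_two {C : Matrix (Fin 2) (Fin 2) F} {s : F} (hC : C.det = 1) (ht : C.trace = s)
    (hs : s * s + s - 1 = 0) : C ^ 5 = 1 := by
  have h := sq_two_by_two hC ht
  have h3 : C ^ 3 = (-s) • C - s • 1 := by
    rw [pow_succ, pow_two, h, sub_mul, Matrix.smul_mul, h, one_mul, smul_sub, smul_smul,
      show s * s = 1 - s by linear_combination hs, sub_smul, one_smul, neg_smul]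
    abel
  have h4 : C ^ 4 = -C + s • 1 := by
    rw [pow_succ, h3, sub_mul, Matrix.smul_mul, Matrix.smul_mul, h, one_mul, smul_sub, smul_smul,
      show -s * s = s - 1 by linear_combination -hs, sub_smul, one_smul, neg_smul]
    abel
  rw [pow_succ, h4, add_mul, neg_mul, h, Matrix.smul_mul, one_mul]
  abel

theorem trace_inv_emb {C : Matrix (Fin 2) (Fin 2) F} (hC : C.det = 1) :
    (((embUnit C hC)⁻¹ : GL (Fin 4) F) : M4).trace = C.trace + 2 := by
  rw [Units.inv_eq_of_mul_eq_one_right (a := emb !![C 1 1, -C 0 1; -C 1 0, C 0 0]) (u := embUnit C hC) ?_, trace_emb]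
  · simp [Matrix.trace_fin_two]; ring
  · rw [coe_embUnit, emb_mul, ← emb_one]
    congr 1
    rw [Matrix.det_fin_two] at hC
    ext i j; fin_cases i <;> fin_cases j <;> simp [Matrix.mul_apply, Fin.sum_univ_two] <;>
      first
      | linear_combination hC
      | ring

theorem embUnit_nonscalar {C : Matrix (Fin 2) (Fin 2) F} (hC : C.det = 1) (ht : C.trace ≠ 2) :
    ∀ z : F, ((embUnit C hC : GL (Fin 4) F) : M4) ≠ z • 1 := by
  intro z hz
  rw [coe_embUnit] at hz
  have h0 := congrFun (congrFun hz 0) 0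
  have h1 := congrFun (congrFun hz 1) 1
  have h2 := congrFun (congrFun hz 2) 2
  simp [emb] at h0 h1 h2
  exact ht (by rw [Matrix.trace_fin_two, h0, h2, ← h1]; norm_num)

variable [Finite F]

theorem not_fixes_block_five (q : Par F) (h2 : (2 : F) ≠ 0) {k : ℕ} (hk : k = 1 ∨ k = 2)
    {S : Subgroup (GL (Fin 4) F)} {C : Matrix (Fin 2) (Fin 2) F} {s : F} (hC : C.det = 1) (ht : C.trace = s)
    (hs : s * s + s - 1 = 0) (hS : embUnit C hC ∈ S) (h10 : (5 : F) = 0 → C 1 0 ≠ 0) : ¬ Fixes S (R0 q k) 5 := by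
  have h5 : C ^ 5 = 1 := fifth_two_by_two hC ht hs
  by_cases hp5 : (5 : F) = 0
  · haveI : Fact (Nat.Prime 5) := ⟨by norm_num⟩
    have hs2 : s = 2 := by
      have : (s - 2) * (s - 2) = 0 := by linear_combination hs + (1 - s) * hp5
      exact sub_eq_zero.1 (mul_self_eq_zero.1 this)
    exact not_fixes_unipotent q h2 hk (by norm_num : (5 : ℕ) ≠ 2) hC (ht.trans hs2) (h10 hp5) h5 hS rfl
  · have hs2 : C.trace ≠ 2 := fun h => hp5 (by rw [ht] at h; subst h; linear_combination hs)
    refine not_fixes_five q h2 hk hS (Units.ext ?_) (embUnit_nonscalar hC hs2) ?_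
    · rw [Units.val_pow_eq_pow_val, coe_embUnit, emb_pow, h5, emb_one, Units.val_one]
    · rw [trace_inv_emb, coe_embUnit, trace_emb, ht]
      intro h
      exact hp5 (by linear_combination (3 * s - 1) * (h - hs) - 9 * hs)

theorem not_fixes_block_three (q : Par F) (h2 : (2 : F) ≠ 0) {k : ℕ} (hk : k = 1 ∨ k = 2)
    {S : Subgroup (GL (Fin 4) F)} {C : Matrix (Fin 2) (Fin 2) F} (hC : C.det = 1) (ht : C.trace = -1)
    (hS : embUnit C hC ∈ S) (hcase : (3 : F) = 0 ∧ C 1 0 ≠ 0 ∨ (3 : F) ≠ 0 ∧ q.s = -1 ∧ k = 1) :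
    ¬ Fixes S (R0 q k) 3 := by
  have h3 : C ^ 3 = 1 := cube_two_by_two hC ht
  rcases hcase with ⟨h, h10⟩ | ⟨h, hq, hk1⟩
  · haveI : Fact (Nat.Prime 3) := ⟨Nat.prime_three⟩
    exact not_fixes_unipotent q h2 hk (by norm_num : (3 : ℕ) ≠ 2) hC (ht.trans (by linear_combination -h)) h10 h3 hS rfl
  · have hs2 : C.trace ≠ 2 := fun h' => h (by rw [ht] at h'; linear_combination -h')
    refine not_fixes_three q h2 hk hS (Units.ext ?_) (embUnit_nonscalar hC hs2) (fun _ => ⟨hq, hk1, h⟩) ?_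
    · rw [Units.val_pow_eq_pow_val, coe_embUnit, emb_pow, h3, emb_one, Units.val_one]
    · rw [trace_inv_emb, coe_embUnit, trace_emb, ht]
      intro h'
      exact h (by linear_combination -h')

/-- `diag (w, w, w, 1)` as a unit. -/
def triUnit (w : Fˣ) : GL (Fin 4) F :=
  ⟨Matrix.diagonal ![(w : F), w, w, 1], Matrix.diagonal ![((w⁻¹ : Fˣ) : F), (w⁻¹ : Fˣ), (w⁻¹ : Fˣ), 1],
    by rw [Matrix.diagonal_mul_diagonal, ← Matrix.diagonal_one]; congr 1; funext i; fin_cases i <;> simp,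
    by rw [Matrix.diagonal_mul_diagonal, ← Matrix.diagonal_one]; congr 1; funext i; fin_cases i <;> simp⟩

omit [Finite F] in
theorem det_triUnit {w : Fˣ} (hw : w ^ 3 = 1) : ((triUnit w : GL (Fin 4) F) : M4).det = 1 := by
  have h := congrArg Units.val hw
  simp only [Units.val_pow_eq_pow_val, Units.val_one] at h
  simp [triUnit, Fin.prod_univ_four]
  linear_combination h

theorem not_fixes_tri (q : Par F) (h2 : (2 : F) ≠ 0) (h3 : (3 : F) ≠ 0) {k : ℕ} (hk : k = 1 ∨ k = 2)
    {S : Subgroup (GL (Fin 4) F)} {w : Fˣ} (hw : w ^ 3 = 1) (hw1 : w ≠ 1) (hS : triUnit w ∈ S) :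
    ¬ Fixes S (R0 q k) 3 := by
  have h := congrArg Units.val hw
  simp only [Units.val_pow_eq_pow_val, Units.val_one] at h
  have hs : (w : F) ^ 2 + w + 1 = 0 := by
    have : ((w : F) - 1) * ((w : F) ^ 2 + w + 1) = 0 := by linear_combination h
    exact (mul_eq_zero.1 this).resolve_left (sub_ne_zero.2 fun e => hw1 (Units.ext e))
  have hinv : ((w⁻¹ : Fˣ) : F) = (w : F) ^ 2 := by
    rw [← mul_left_inj' (Units.ne_zero w), Units.inv_mul]; linear_combination -h
  have hval : ((triUnit w : GL (Fin 4) F) : M4).trace * (((triUnit w)⁻¹ : GL (Fin 4) F) : M4).trace = 7 := by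
    have e1 : (((triUnit w)⁻¹ : GL (Fin 4) F) : M4) =
        Matrix.diagonal ![((w⁻¹ : Fˣ) : F), (w⁻¹ : Fˣ), (w⁻¹ : Fˣ), 1] := rfl
    rw [e1]
    simp [triUnit, Matrix.trace_diagonal, Fin.sum_univ_four]
    rw [show (w : F)⁻¹ = (w : F) ^ 2 by rw [← Units.val_inv_eq_inv_val]; exact hinv]
    linear_combination 9 * h + 3 * hs
  refine not_fixes_three q h2 hk hS (Units.ext ?_) ?_ ?_ ?_
  · rw [Units.val_pow_eq_pow_val, Units.val_one, triUnit, Units.val_mk, Matrix.diagonal_pow,
      ← Matrix.diagonal_one]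
    congr 1; funext i; fin_cases i <;> simp [h]
  · intro z hz
    have h0 := congrFun (congrFun hz 0) 0
    have h3' := congrFun (congrFun hz 3) 3
    simp [triUnit] at h0 h3'
    exact hw1 (Units.ext (by simp [h0, ← h3']))
  · intro h'
    rw [hval] at h'
    exact absurd (by linear_combination h') (mul_ne_zero h2 h3)
  · rw [hval]
    intro h'
    exact h3 (by linear_combination h')

omit [Finite F] in
theorem orderOf_four_iff (p : ℕ) : orderOf (p : ZMod 5) = 4 ↔ (p % 5 = 2 ∨ p % 5 = 3) := by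
  haveI : Fact (Nat.Prime 2) := ⟨Nat.prime_two⟩
  rw [← ZMod.natCast_mod p 5]
  have hlt : p % 5 < 5 := Nat.mod_lt _ (by norm_num)
  constructor
  · intro h
    by_contra hcon
    push Not at hcon
    have hh : (((p % 5 : ℕ)) : ZMod 5) = 0 ∨ ((p % 5 : ℕ) : ZMod 5) ^ 2 = 1 := by
      interval_cases (p % 5) <;> first | omega | decide
    rcases hh with h0 | h0
    · have h4 : (((p % 5 : ℕ)) : ZMod 5) ^ 4 = 1 := by rw [← h]; exact pow_orderOf_eq_one _
      rw [h0] at h4
      exact absurd h4 (by decide)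
    · have := Nat.le_of_dvd (by norm_num) (orderOf_dvd_of_pow_eq_one h0)
      omega
  · intro h
    rcases h with h | h <;> rw [h] <;>
      exact orderOf_eq_prime_pow (p := 2) (n := 1) (by decide) (by decide)

/-- A root of `s² + s - 1` in the prime field. -/
theorem exists_golden {p : ℕ} [Fact p.Prime] [CharP F p] (hp : p ≠ 2) (h5 : p % 5 ≠ 2 ∧ p % 5 ≠ 3) :
    ∃ s : F, s * s + s - 1 = 0 ∧ s ^ p = s := by
  haveI : Fact (Nat.Prime 5) := ⟨by norm_num⟩
  obtain ⟨r, hr⟩ : IsSquare (5 : ZMod p) := by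
    by_cases hp5 : p = 5
    · subst hp5; exact ⟨0, rfl⟩
    have h : IsSquare (p : ZMod 5) := by
      have h0 : p % 5 ≠ 0 := fun h0 =>
        hp5 ((Nat.prime_dvd_prime_iff_eq (by norm_num) Fact.out).1 (Nat.dvd_of_mod_eq_zero h0)).symm
      have hlt : p % 5 < 5 := Nat.mod_lt _ (by norm_num)
      rw [← ZMod.natCast_mod p 5]
      interval_cases (p % 5) <;> first | omega | exact ⟨1, rfl⟩ | exact ⟨2, rfl⟩
    exact_mod_cast (ZMod.exists_sq_eq_prime_iff_of_mod_four_eq_one (p := 5) (q := p) (by norm_num) hp).1 h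
  have h2 : (2 : ZMod p) ≠ 0 := fun h => by
    rw [show (2 : ZMod p) = ((2 : ℕ) : ZMod p) by norm_num, ZMod.natCast_eq_zero_iff] at h
    exact hp ((Nat.prime_dvd_prime_iff_eq Fact.out Nat.prime_two).1 h)
  refine ⟨ZMod.castHom (dvd_refl p) F ((r - 1) / 2), ?_, ?_⟩
  · rw [← map_mul, ← map_add, ← map_one (ZMod.castHom (dvd_refl p) F), ← map_sub]
    convert map_zero (ZMod.castHom (dvd_refl p) F)
    field_simp
    linear_combination -hr
  · rw [← map_pow, ZMod.pow_card]

end Cfsg.Agent.PauliFour
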