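import Mathlib
import Cfsg.Agent.Lib.Semisimple.Basic

/-!
Characteristic polynomials of matrices of order two, three and five in dimension four.
-/

set_option autoImplicit false

namespace Cfsg.Agent.PauliFour

open Matrix Polynomial

variable {F : Type*} [Field F]

local notation "M4" => Matrix (Fin 4) (Fin 4) F

/-- A matrix of finite order prime to the characteristic is diagonalisable over the closure. -/
theorem exists_diag (A : M4) {N : ℕ} (hA : A ^ N = 1) (hN : (N : F) ≠ 0) :
    ∃ d : Fin 4 → AlgebraicClosure F, (∀ i, d i ^ N = 1) ∧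
      A.charpoly.map (algebraMap F (AlgebraicClosure F)) = ∏ i, (X - C (d i)) ∧
      (∀ j : ℕ, algebraMap F (AlgebraicClosure F) (A ^ j).trace = ∑ i, d i ^ j) ∧
      (∀ j : ℕ, (A ^ j).charpoly.map (algebraMap F (AlgebraicClosure F)) = ∏ i, (X - C (d i ^ j))) ∧
      algebraMap F (AlgebraicClosure F) A.det = ∏ i, d i ∧
      ((∀ i i', d i = d i') → ∃ z : F, A = z • 1) := by
  classical
  let K := AlgebraicClosure F
  set B : Matrix (Fin 4) (Fin 4) K := A.map (algebraMap F K) with hB
  obtain ⟨d, hd⟩ : ∃ d : Fin 4 → K, B.charpoly.roots = (Finset.univ : Finset (Fin 4)).1.map d := by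
    have hcard : B.charpoly.roots.card = 4 := by
      rw [IsAlgClosed.card_roots_eq_natDegree, Matrix.charpoly_natDegree_eq_dim, Fintype.card_fin]
    obtain ⟨a, b, c, e, h⟩ := Multiset.card_eq_four.1 hcard
    exact ⟨![a, b, c, e], by rw [h]; rfl⟩
  have hchar : B.charpoly = ∏ i, (X - C (d i)) := by
    rw [(IsAlgClosed.splits B.charpoly).eq_prod_roots_of_monic (Matrix.charpoly_monic B), hd,
      Multiset.map_map]
    rfl
  have hBN : B ^ N = 1 := by
    have := congrArg ((algebraMap F K).mapMatrix) hA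
    rwa [map_pow, map_one] at this
  have hroot : ∀ i, d i ^ N = 1 := by
    intro i
    have hspec : d i ∈ spectrum K B := Matrix.mem_spectrum_iff_isRoot_charpoly.2
      (Polynomial.isRoot_of_mem_roots (by rw [hd]; exact Multiset.mem_map_of_mem d (Finset.mem_univ_val i)))
    have h := spectrum.pow_mem_pow B N hspec
    rw [hBN, spectrum.one_eq] at h
    exact h
  have hNK : (N : K) ≠ 0 := fun h => hN ((algebraMap F K).injective (by rw [map_natCast, map_zero]; exact h))
  have hSS : ∀ M : Matrix (Fin 4) (Fin 4) K, M ^ N = 1 → Semisimple.SS (K := K) M := fun M hM =>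
    ⟨X ^ N - 1, (separable_X_pow_sub_C 1 hNK one_ne_zero).squarefree, by simp [hM]⟩
  obtain ⟨P, hP⟩ := Semisimple.exists_similar B (Matrix.diagonal d) (hSS B hBN)
    (hSS _ (by rw [Matrix.diagonal_pow, ← Matrix.diagonal_one]; congr 1; funext i; exact hroot i))
    (by rw [hchar, Matrix.charpoly_diagonal])
  have hconj : B = ((P⁻¹ : GL (Fin 4) K) : Matrix (Fin 4) (Fin 4) K) * Matrix.diagonal d * P := by
    rw [mul_assoc, ← hP, ← mul_assoc, Units.inv_mul, one_mul]
  have hpow : ∀ j, (A ^ j).map (algebraMap F K) =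
      ((P⁻¹ : GL (Fin 4) K) : Matrix (Fin 4) (Fin 4) K) * Matrix.diagonal (fun i => d i ^ j) * P := by
    intro j
    rw [← RingHom.mapMatrix_apply, map_pow, RingHom.mapMatrix_apply, ← hB]
    induction j with
    | zero => simp
    | succ j ih =>
      rw [pow_succ, ih, hconj]
      simp only [mul_assoc, Units.mul_inv_cancel_left]
      rw [← mul_assoc (Matrix.diagonal _), Matrix.diagonal_mul_diagonal]
      simp only [← pow_succ]
  refine ⟨d, hroot, by rw [← hchar, Matrix.charpoly_map], fun j => ?_, fun j => ?_, ?_, fun hall => ?_⟩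
  · rw [show algebraMap F (AlgebraicClosure F) (A ^ j).trace = ((A ^ j).map (algebraMap F K)).trace by
      simp [Matrix.trace, K]]
    rw [hpow, Matrix.trace_mul_comm, ← mul_assoc, Units.mul_inv, one_mul, Matrix.trace_diagonal]
  · rw [← Matrix.charpoly_map, hpow, Matrix.coe_units_inv, Matrix.charpoly_units_conj' P, Matrix.charpoly_diagonal]
  · rw [RingHom.map_det, RingHom.mapMatrix_apply, ← hB, hconj, Matrix.det_units_conj' P, Matrix.det_diagonal]
  · have hdd : d = fun _ => d 0 := funext fun i => hall i 0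
    have hs : B = d 0 • 1 := by
      rw [hconj, hdd, ← Matrix.smul_one_eq_diagonal, Matrix.mul_smul, Matrix.smul_mul, mul_one, Units.inv_mul]
    refine ⟨A 0 0, Matrix.ext fun i j => (algebraMap F K).injective ?_⟩
    have h1 := congrFun (congrFun hs i) j
    have h0 := congrFun (congrFun hs 0) 0
    simp only [hB, Matrix.map_apply, Matrix.smul_apply, Matrix.one_apply, smul_eq_mul, if_true, mul_one] at h0 h1 ⊢
    rw [h1, map_mul, h0]
    split_ifs <;> simp

variable (F)

theorem map_inj_poly {p p' : F[X]}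
    (h : p.map (algebraMap F (AlgebraicClosure F)) = p'.map (algebraMap F (AlgebraicClosure F))) : p = p' :=
  Polynomial.map_injective _ (algebraMap F (AlgebraicClosure F)).injective h

variable {F}

theorem two_two (w : Fin 4 → Bool) (h : (Finset.univ.filter fun i => w i = true).card % 2 = 0)
    (hc : ¬ ∀ i j, w i = w j) : (Finset.univ.filter fun i => w i = true).card = 2 := by
  revert w; decide

theorem one_three (w : Fin 4 → Bool) (h : (Finset.univ.filter fun i => w i = true).card % 2 = 1) :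
    (Finset.univ.filter fun i => w i = true).card = 1 ∨ (Finset.univ.filter fun i => w i = true).card = 3 := by
  revert w; decide

/-- The roots of `A` with `A² = z`. -/
theorem square_roots {A : M4} {z : F} (h2 : (2 : F) ≠ 0) (hz : z ^ 4 = 1) (hA : A * A = z • 1) (hdet : A.det = 1)
    (hns : ∀ c : F, A ≠ c • 1) :
    ∃ (w : AlgebraicClosure F) (c : ℕ), w * w = algebraMap F _ z ∧ c ≤ 4 ∧ w ^ 4 * (-1) ^ (4 - c) = 1 ∧
      c ≠ 0 ∧ c ≠ 4 ∧
      A.charpoly.map (algebraMap F (AlgebraicClosure F)) = (X - C w) ^ c * (X + C w) ^ (4 - c) ∧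
      algebraMap F (AlgebraicClosure F) A.trace = (2 * (c : AlgebraicClosure F) - 4) * w := by
  classical
  let K := AlgebraicClosure F
  have h8 : A ^ 8 = 1 := by
    rw [show 8 = 2 * 4 by norm_num, pow_mul, pow_two, hA, _root_.smul_pow, one_pow, hz, one_smul]
  have hne8 : ((8 : ℕ) : F) ≠ 0 := by
    rw [show ((8 : ℕ) : F) = 2 * 2 * 2 by norm_num]; exact mul_ne_zero (mul_ne_zero h2 h2) h2
  obtain ⟨d, -, hchar, htr, hpc, hdt, hsc⟩ := exists_diag A h8 hne8
  have hd2 : ∀ i, d i * d i = algebraMap F K z := by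
    intro i
    have h1 := hpc 2
    rw [pow_two A, hA, Matrix.smul_one_eq_diagonal, Matrix.charpoly_diagonal, Polynomial.map_prod] at h1
    simp only [Polynomial.map_sub, Polynomial.map_X, Polynomial.map_C] at h1
    have h3 := congrArg (Polynomial.eval (d i ^ 2)) h1
    rw [Polynomial.eval_prod, Polynomial.eval_prod] at h3
    rw [Finset.prod_eq_zero (Finset.mem_univ i) (f := fun x => eval (d i ^ 2) (X - C (d x ^ 2))) (by simp)] at h3
    obtain ⟨-, -, h4⟩ := Finset.prod_eq_zero_iff.1 h3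
    simp [sub_eq_zero, pow_two] at h4
    exact h4
  obtain ⟨w, hw⟩ : ∃ w : K, w * w = algebraMap F K z := ⟨d 0, hd2 0⟩
  have hpm : ∀ i, d i = w ∨ d i = -w := fun i => mul_self_eq_mul_self_iff.1 ((hd2 i).trans hw.symm)
  have hw0 : w ≠ 0 := by
    rintro rfl
    rw [mul_zero, eq_comm, map_eq_zero] at hw
    rw [hw] at hz; simp at hz
  have h2K : (2 : K) ≠ 0 := fun h => h2 ((algebraMap F K).injective (by rw [map_ofNat, map_zero]; exact h))
  set S := Finset.univ.filter fun i => d i = w with hS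
  have hneg : ∀ i ∈ Sᶜ, d i = -w := fun i hi =>
    (hpm i).resolve_left (by simpa [hS] using hi)
  have hcard : Sᶜ.card = 4 - S.card := by rw [Finset.card_compl, Fintype.card_fin]
  have hprod : ∀ g : K → K[X], ∏ i, g (d i) = g w ^ S.card * g (-w) ^ (4 - S.card) := fun g => by
    have e1 : ∏ i ∈ S, g (d i) = ∏ _i ∈ S, g w :=
      Finset.prod_congr rfl fun i hi => by rw [(Finset.mem_filter.1 hi).2]
    have e2 : ∏ i ∈ Sᶜ, g (d i) = ∏ _i ∈ Sᶜ, g (-w) := Finset.prod_congr rfl fun i hi => by rw [hneg i hi]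
    rw [← Finset.prod_mul_prod_compl S, e1, e2, Finset.prod_const, Finset.prod_const, hcard]
  have hS4 : S.card ≤ 4 := by simpa using Finset.card_le_univ S
  have hS0 : S.card ≠ 0 := fun h0 => by
    obtain ⟨c, hc⟩ := hsc fun i j => by
      rw [Finset.card_eq_zero] at h0
      rw [hneg i (by simp [h0]), hneg j (by simp [h0])]
    exact hns c hc
  have hSall : S.card ≠ 4 := fun h4 => by
    obtain ⟨c, hc⟩ := hsc fun i j => by
      have hu : S = Finset.univ := Finset.eq_univ_of_card S (by simpa using h4)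
      have hi : i ∈ S := hu ▸ Finset.mem_univ i
      have hj : j ∈ S := hu ▸ Finset.mem_univ j
      rw [(Finset.mem_filter.1 hi).2, (Finset.mem_filter.1 hj).2]
    exact hns c hc
  refine ⟨w, S.card, hw, hS4, ?_, hS0, hSall, ?_, ?_⟩
  · rw [hdet, map_one] at hdt
    have h1 := congrArg Polynomial.C hdt
    rw [map_one, map_prod, hprod, ← map_pow, ← map_pow, ← map_mul, ← map_one Polynomial.C] at h1
    have h3 := Polynomial.C_injective h1
    rw [neg_pow w, ← mul_assoc, mul_comm (w ^ S.card), mul_assoc, ← pow_add, Nat.add_sub_of_le hS4] at h3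
    rw [mul_comm, ← h3]
  · rw [hchar, hprod (fun x => X - C x), map_neg, sub_neg_eq_add]
  · have h1 := htr 1
    rw [pow_one] at h1
    simp only [pow_one] at h1
    have e1 : ∑ i ∈ S, d i = ∑ _i ∈ S, w := Finset.sum_congr rfl fun i hi => (Finset.mem_filter.1 hi).2
    have e2 : ∑ i ∈ Sᶜ, d i = ∑ _i ∈ Sᶜ, -w := Finset.sum_congr rfl hneg
    rw [h1, ← Finset.sum_add_sum_compl S, e1, e2, Finset.sum_const, Finset.sum_const, hcard, nsmul_eq_mul,
      nsmul_eq_mul, Nat.cast_sub hS4]
    push_cast; ring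

/-- Squaring to `±1`. -/
theorem charpoly_square {A : M4} {z : F} (h2 : (2 : F) ≠ 0) (hz : z * z = 1) (hA : A * A = z • 1) (hdet : A.det = 1)
    (hns : ∀ c : F, A ≠ c • 1) : A.charpoly = (X ^ 2 - C z) ^ 2 := by
  obtain ⟨w, c, hw, hc4, hdt, hc0, hc4', hchar, -⟩ :=
    square_roots h2 (by linear_combination (z * z + 1) * hz) hA hdet hns
  have hw4 : w ^ 4 = 1 := by
    rw [show w ^ 4 = (w * w) * (w * w) by ring, hw, ← map_mul, hz, map_one]
  rw [hw4, one_mul] at hdt
  have h2K : (2 : AlgebraicClosure F) ≠ 0 := fun h => h2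
    ((algebraMap F (AlgebraicClosure F)).injective (by rw [map_ofNat, map_zero]; exact h))
  have hne : (-1 : AlgebraicClosure F) ≠ 1 := fun h => h2K (by linear_combination -h)
  have hc : c = 2 := by
    rcases (show c = 1 ∨ c = 2 ∨ c = 3 by omega) with rfl | rfl | rfl
    · norm_num at hdt; exact absurd hdt hne
    · rfl
    · norm_num at hdt; exact absurd hdt hne
  subst hc
  apply map_inj_poly F
  rw [hchar, Polynomial.map_pow, Polynomial.map_sub, Polynomial.map_pow, Polynomial.map_X, Polynomial.map_C,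
    ← hw, map_mul]
  ring

/-- Squaring to a primitive fourth root of unity: a scalar square root lies in the field. -/
theorem charpoly_square_four {A : M4} {z : F} (h2 : (2 : F) ≠ 0) (hz : z * z = -1) (hA : A * A = z • 1)
    (hdet : A.det = 1) (hns : ∀ c : F, A ≠ c • 1) :
    ∃ w : F, w * w = z ∧ A.trace = 2 * w ∧ A.charpoly = (X - C w) ^ 3 * (X + C w) := by
  obtain ⟨v, c, hv, hc4, hdt, hc0, hc4', hchar, htr⟩ :=
    square_roots h2 (by linear_combination (z * z - 1) * hz) hA hdet hns
  let K := AlgebraicClosure F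
  have hv4 : v ^ 4 = -1 := by
    rw [show v ^ 4 = (v * v) * (v * v) by ring, hv, ← map_mul, hz, map_neg, map_one]
  rw [hv4] at hdt
  have h2K : (2 : K) ≠ 0 := fun h => h2 ((algebraMap F K).injective (by rw [map_ofNat, map_zero]; exact h))
  have hne : (-1 : K) ≠ 1 := fun h => h2K (by linear_combination -h)
  obtain ⟨u, hu, hT, hC⟩ : ∃ u : K, u * u = algebraMap F K z ∧ algebraMap F K A.trace = 2 * u ∧
      A.charpoly.map (algebraMap F K) = (X - C u) ^ 3 * (X + C u) := by
    rcases (show c = 1 ∨ c = 2 ∨ c = 3 by omega) with rfl | rfl | rfl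
    · refine ⟨-v, by rw [neg_mul_neg]; exact hv, by rw [htr]; push_cast; ring, ?_⟩
      rw [hchar, map_neg]; ring
    · norm_num at hdt; exact absurd hdt hne
    · exact ⟨v, hv, by rw [htr]; push_cast; ring, by rw [hchar]; ring⟩
  refine ⟨A.trace / 2, ?_, by field_simp, map_inj_poly F ?_⟩
  · apply (algebraMap F K).injective
    rw [map_mul, map_div₀, hT, map_ofNat, mul_div_cancel_left₀ _ h2K, hu]
  · rw [hC, Polynomial.map_mul, Polynomial.map_pow, Polynomial.map_sub, Polynomial.map_add, Polynomial.map_X,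
      Polynomial.map_C, map_div₀, hT, map_ofNat, mul_div_cancel_left₀ _ h2K]

theorem three_labels : ∀ k : Fin 4 → Fin 3,
    (Finset.univ.val.map fun i => 2 * k i) = Finset.univ.val.map k → (∑ i, k i) = 0 → (∀ i j, k i = k j) ∨
      Finset.univ.val.map k = {0, 0, 1, 2} ∨ Finset.univ.val.map k = {1, 1, 2, 2} := by
  decide +kernel

theorem five_labels : ∀ k : Fin 4 → Fin 5, ∀ t : Fin 5, t = 2 ∨ t = 3 →
    (Finset.univ.val.map fun i => t * k i) = Finset.univ.val.map k → (∀ i j, k i = k j) ∨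
      Finset.univ.val.map k = {1, 2, 3, 4} := by
  decide +kernel

/-- Roots of unity of prime order as labels. -/
theorem exists_labels {K : Type*} [Field K] [IsAlgClosed K] {r : ℕ} [NeZero r] (hr : r.Prime) (hK : (r : K) ≠ 0)
    (d : Fin 4 → K) (hd : ∀ i, d i ^ r = 1) :
    ∃ (ζ : K) (k : Fin 4 → Fin r), IsPrimitiveRoot ζ r ∧ (∀ i, d i = ζ ^ (k i : ℕ)) ∧
      ∀ a b : Fin r, ζ ^ (a : ℕ) = ζ ^ (b : ℕ) → a = b := by
  haveI : NeZero (r : K) := ⟨hK⟩
  obtain ⟨ζ, hζ⟩ := HasEnoughRootsOfUnity.exists_primitiveRoot K r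
  choose k hk hkd using fun i => hζ.eq_pow_of_pow_eq_one (hd i)
  exact ⟨ζ, fun i => ⟨k i, hk i⟩, hζ, fun i => (hkd i).symm, fun a b h => Fin.ext (hζ.pow_inj a.2 b.2 h)⟩

theorem pow_mul_mod {K : Type*} [Monoid K] {r : ℕ} {ζ : K} (hζ : ζ ^ r = 1) (a b : Fin r) :
    ζ ^ ((a * b : Fin r) : ℕ) = (ζ ^ (b : ℕ)) ^ (a : ℕ) := by
  rw [← pow_mul, Fin.val_mul, ← pow_eq_pow_mod _ hζ, mul_comm]

/-- The invariance of the labels under `t`. -/
theorem labels_invariant {A : M4} {r : ℕ} (hr : r.Prime) {t : Fin r}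
    {d : Fin 4 → AlgebraicClosure F} {ζ : AlgebraicClosure F} {k : Fin 4 → Fin r} (hζ : ζ ^ r = 1)
    (hk : ∀ i, d i = ζ ^ (k i : ℕ)) (hinj : ∀ a b : Fin r, ζ ^ (a : ℕ) = ζ ^ (b : ℕ) → a = b)
    (hchar : A.charpoly.map (algebraMap F (AlgebraicClosure F)) = ∏ i, (X - C (d i)))
    (hpc : (A ^ (t : ℕ)).charpoly.map (algebraMap F (AlgebraicClosure F)) = ∏ i, (X - C (d i ^ (t : ℕ))))
    (heq : (A ^ (t : ℕ)).charpoly = A.charpoly) :
    (Finset.univ.val.map fun i => t * k i) = Finset.univ.val.map k := by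
  have _ := hr
  rw [heq, hchar] at hpc
  have h1 := congrArg Polynomial.roots hpc
  simp only [Finset.prod_eq_multiset_prod] at h1
  have e1 : (Finset.univ.val.map fun i => X - C (d i)) = (Finset.univ.val.map d).map fun a => X - C a :=
    (Multiset.map_map _ _ _).symm
  have e2 : (Finset.univ.val.map fun i => X - C (d i ^ (t : ℕ))) =
      (Finset.univ.val.map fun i => d i ^ (t : ℕ)).map fun a => X - C a := (Multiset.map_map _ _ _).symm
  rw [e1, e2, roots_multiset_prod_X_sub_C, roots_multiset_prod_X_sub_C] at h1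
  refine Multiset.map_injective (f := fun a : Fin r => ζ ^ (a : ℕ)) (fun a b => hinj a b) ?_
  rw [Multiset.map_map, Multiset.map_map]
  refine Eq.trans ?_ (h1.symm.trans ?_)
  · refine Multiset.map_congr rfl fun i _ => ?_
    simp only [Function.comp_apply, pow_mul_mod hζ, hk]
  · exact Multiset.map_congr rfl fun i _ => by simp only [Function.comp_apply, hk]

theorem prod_labels {r : ℕ} {K : Type*} [CommRing K] (f : Fin r → K) (k : Fin 4 → Fin r) :
    ∏ i, f (k i) = ((Finset.univ.val.map k).map f).prod := by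
  rw [Multiset.map_map]; rfl

/-- Order three with inverse-invariant spectrum: two classes. -/
theorem charpoly_three {A : M4} (h3 : (3 : F) ≠ 0) (hA : A ^ 3 = 1) (hdet : A.det = 1)
    (hns : ∀ c : F, A ≠ c • 1) (hinv : (A ^ 2).charpoly = A.charpoly) :
    (A.trace = 1 ∧ A.charpoly = (X - 1) ^ 2 * (X ^ 2 + X + 1)) ∨
      (A.trace = -2 ∧ A.charpoly = (X ^ 2 + X + 1) ^ 2) := by
  let K := AlgebraicClosure F
  obtain ⟨d, hd, hchar, htr, hpc, hdt, hsc⟩ := exists_diag A hA (by simpa using h3)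
  have h3K : ((3 : ℕ) : K) ≠ 0 := fun h => h3 ((algebraMap F K).injective
    (by rw [map_ofNat, map_zero]; simpa using h))
  obtain ⟨ζ, k, hζ, hk, hinj⟩ := exists_labels Nat.prime_three h3K d hd
  have hζ3 := hζ.pow_eq_one
  have hinvk := labels_invariant (t := (2 : Fin 3)) Nat.prime_three hζ3 hk hinj hchar (hpc 2) hinv
  have hsum : ∑ i, k i = 0 := by
    apply hinj
    rw [hdet, map_one] at hdt
    have : ∀ s : Finset (Fin 4), ζ ^ ((∑ i ∈ s, k i : Fin 3) : ℕ) = ∏ i ∈ s, d i := by
      intro s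
      induction s using Finset.induction_on with
      | empty => simp
      | insert a s ha ih =>
        rw [Finset.sum_insert ha, Finset.prod_insert ha, ← ih, hk, ← pow_add, Fin.val_add,
          ← pow_eq_pow_mod _ hζ3]
    rw [this, ← hdt]; simp
  have hs : 1 + ζ + ζ ^ 2 = 0 := by
    have := hζ.geom_sum_eq_zero (by norm_num)
    simpa [Finset.sum_range_succ] using this
  have hne : ¬ ∀ i j, k i = k j := fun hall => by
    obtain ⟨z, hz⟩ := hsc fun i j => by rw [hk, hk, hall i j]
    exact hns z hz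
  have htr1 : algebraMap F K A.trace = ((Finset.univ.val.map k).map fun a : Fin 3 => ζ ^ (a : ℕ)).sum := by
    have := htr 1
    simp only [pow_one] at this
    rw [this, Multiset.map_map]
    exact Finset.sum_congr rfl fun i _ => hk i
  have hch : A.charpoly.map (algebraMap F K) =
      ((Finset.univ.val.map k).map fun a : Fin 3 => X - C (ζ ^ (a : ℕ))).prod := by
    rw [hchar, ← prod_labels (fun a : Fin 3 => X - C (ζ ^ (a : ℕ))) k]
    exact Finset.prod_congr rfl fun i _ => by rw [hk]
  have hquad : (X - C ζ) * (X - C (ζ ^ 2)) = (X ^ 2 + X + 1 : K[X]) := by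
    have e1 : C ζ + C (ζ ^ 2) = (-1 : K[X]) := by
      rw [← map_add, show ζ + ζ ^ 2 = -1 by linear_combination hs, map_neg, map_one]
    have e2 : C ζ * C (ζ ^ 2) = (1 : K[X]) := by
      rw [← map_mul, show ζ * ζ ^ 2 = ζ ^ 3 by ring, hζ3, map_one]
    linear_combination (-X) * e1 + e2
  rcases three_labels k hinvk hsum with h | h | h
  · exact absurd h hne
  · refine Or.inl ⟨(algebraMap F K).injective ?_, map_inj_poly F ?_⟩
    · rw [htr1, h]; simp; linear_combination hs
    · rw [hch, h, ← C_1]; simp [← hquad]; ring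
  · refine Or.inr ⟨(algebraMap F K).injective ?_, map_inj_poly F ?_⟩
    · rw [htr1, h]; simp [map_ofNat]; linear_combination 2 * hs
    · rw [hch, h]; simp [← hquad]; ring

/-- Order five with spectrum invariant under an element of order four modulo five. -/
theorem charpoly_five {A : M4} (h5 : (5 : F) ≠ 0) (hA : A ^ 5 = 1) (hns : ∀ c : F, A ≠ c • 1)
    {t : Fin 5} (ht : t = 2 ∨ t = 3) (hinv : (A ^ (t : ℕ)).charpoly = A.charpoly) :
    A.charpoly = X ^ 4 + X ^ 3 + X ^ 2 + X + 1 := by
  let K := AlgebraicClosure F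
  obtain ⟨d, hd, hchar, htr, hpc, hdt, hsc⟩ := exists_diag A hA (by simpa using h5)
  have h5K : ((5 : ℕ) : K) ≠ 0 := fun h => h5 ((algebraMap F K).injective
    (by rw [map_ofNat, map_zero]; simpa using h))
  obtain ⟨ζ, k, hζ, hk, hinj⟩ := exists_labels (by norm_num : Nat.Prime 5) h5K d hd
  have hζ5 := hζ.pow_eq_one
  have hinvk := labels_invariant (t := t) (by norm_num : Nat.Prime 5) hζ5 hk hinj hchar (hpc t) hinv
  have hs : 1 + ζ + ζ ^ 2 + ζ ^ 3 + ζ ^ 4 = 0 := by
    have := hζ.geom_sum_eq_zero (by norm_num)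
    simpa [Finset.sum_range_succ] using this
  rcases five_labels k t ht hinvk with h | h
  · obtain ⟨z, hz⟩ := hsc fun i j => by rw [hk, hk, h i j]
    exact absurd hz (hns z)
  apply map_inj_poly F
  have hch : A.charpoly.map (algebraMap F K) =
      ((Finset.univ.val.map k).map fun a : Fin 5 => X - C (ζ ^ (a : ℕ))).prod := by
    rw [hchar, ← prod_labels (fun a : Fin 5 => X - C (ζ ^ (a : ℕ))) k]
    exact Finset.prod_congr rfl fun i _ => by rw [hk]
  rw [hch, h]
  simp
  have e1 := congrArg C hs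
  have e5 := congrArg C hζ5
  simp only [map_add, map_one, map_zero, map_pow] at e1 e5
  linear_combination (-(X ^ 3) + X ^ 2 - X) * e1 +
    (X ^ 2 * (2 + C ζ + C ζ ^ 2) - X * (C ζ + C ζ ^ 2 + C ζ ^ 3 + C ζ ^ 4) + (C ζ ^ 5 + 1)) * e5

end Cfsg.Agent.PauliFour
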