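import Cfsg.Agent.Lib.PrimeFix.PauliFrame

/-!
Elements of odd prime order normalising the standard Pauli group: the number of fixed labels,
the trace identity, and unipotent elements of rank one.
-/

set_option autoImplicit false

namespace Cfsg.Agent.PauliFour

open Matrix
open scoped MatrixGroups

variable {F : Type*} [Field F] [Finite F]

local notation "M4" => Matrix (Fin 4) (Fin 4) F

theorem neg_one_pow_parity (h2 : (2 : F) ≠ 0) {a b : ℕ} (h : (-1 : F) ^ a = (-1) ^ b) : a % 2 = b % 2 := by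
  have hne : (1 : F) ≠ -1 := fun h' => h2 (by linear_combination h')
  rw [neg_one_pow_eq_pow_mod_two (n := a), neg_one_pow_eq_pow_mod_two (n := b)] at h
  rcases Nat.mod_two_eq_zero_or_one a with ha | ha <;> rcases Nat.mod_two_eq_zero_or_one b with hb | hb <;>
    rw [ha, hb] at h ⊢ <;> simp only [pow_zero, pow_one] at h
  · exact absurd h hne
  · exact absurd h.symm hne

/-- The permutation of labels and its multipliers. -/
structure Act (q : Par F) (k : ℕ) (y : GL (Fin 4) F) where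
  σ : Equiv.Perm E
  c : E → F
  c_pow : ∀ e, c e ^ (2 * k) = 1
  c_ne : ∀ e, c e ≠ 0
  eq : ∀ e, (y : M4) * P q e = c e • (P q (σ e) * (y : M4))

theorem mul_units_cancel {y : GL (Fin 4) F} {A B : M4} (h : A * (y : M4) = B * (y : M4)) : A = B := by
  have := congrArg (· * ((y⁻¹ : GL (Fin 4) F) : M4)) h
  simpa [mul_assoc] using this

theorem units_mul_cancel {y : GL (Fin 4) F} {A B : M4} (h : (y : M4) * A = (y : M4) * B) : A = B := by
  have := congrArg (((y⁻¹ : GL (Fin 4) F) : M4) * ·) h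
  simpa [← mul_assoc] using this

theorem exists_act (q : Par F) (h2 : (2 : F) ≠ 0) (k : ℕ) {y : GL (Fin 4) F}
    (hy : y ∈ Geo.subgroupNormalizer (R0 q k)) : Nonempty (Act q k y) := by
  have h := acts_of_gens q k ((mem_normalizer_iff_acts q k y).1 hy)
  choose f c hc he using h
  have hinj : Function.Injective f := by
    intro e e' hee
    have h3 : (c e' : F) • ((y : M4) * P q e) = (c e : F) • ((y : M4) * P q e') := by
      rw [he e, he e', smul_smul, smul_smul, hee, mul_comm]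
    rw [← Matrix.mul_smul, ← Matrix.mul_smul] at h3
    exact (smul_P_inj q h2 (Units.ne_zero _) (units_mul_cancel h3)).1
  exact ⟨⟨Equiv.ofBijective f (Finite.injective_iff_bijective.1 hinj), fun e => c e,
    fun e => by rw [← Units.val_pow_eq_pow_val, hc, Units.val_one], fun e => Units.ne_zero _, he⟩⟩

namespace Act

variable {q : Par F} {k : ℕ} {y : GL (Fin 4) F}

theorem map_add (h2 : (2 : F) ≠ 0) (A : Act q k y) (e f : E) : A.σ (e + f) = A.σ e + A.σ f := by
  have h1 : (y : M4) * (P q e * P q f) = (A.c e * A.c f) • (P q (A.σ e) * P q (A.σ f) * (y : M4)) := by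
    rw [← mul_assoc, A.eq, Matrix.smul_mul, mul_assoc, A.eq, Matrix.mul_smul, smul_smul, mul_assoc]
  rw [P_mul, P_mul, Matrix.mul_smul, A.eq, smul_smul, Matrix.smul_mul, smul_smul, ← Matrix.smul_mul,
    ← Matrix.smul_mul] at h1
  exact (smul_P_inj q h2 (mul_ne_zero (κ_ne_zero q e f) (A.c_ne _)) (mul_units_cancel h1)).1

theorem sign (h2 : (2 : F) ≠ 0) (A : Act q k y) (e f : E) :
    ω (A.σ e) (A.σ f) % 2 = ω e f % 2 := by
  refine (neg_one_pow_parity h2 ?_).symm
  have h1 : ∀ a b, (y : M4) * (P q a * P q b) = (A.c a * A.c b) • (P q (A.σ a) * P q (A.σ b) * (y : M4)) := fun a b => by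
    rw [← mul_assoc, A.eq, Matrix.smul_mul, mul_assoc, A.eq, Matrix.mul_smul, smul_smul, mul_assoc]
  have h3 := h1 e f
  rw [P_comm q e f, Matrix.mul_smul, h1 f e, P_comm q (A.σ e) (A.σ f), Matrix.smul_mul, smul_smul, smul_smul,
    mul_comm (A.c f)] at h3
  rw [P_mul, Matrix.smul_mul, smul_smul, smul_smul, ← Matrix.smul_mul, ← Matrix.smul_mul] at h3
  have h4 := (smul_P_inj q h2 (mul_ne_zero (mul_ne_zero (pow_ne_zero _ (neg_ne_zero.2 one_ne_zero))
    (mul_ne_zero (A.c_ne _) (A.c_ne _))) (κ_ne_zero q _ _)) (mul_units_cancel h3)).2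
  have h5 := mul_right_cancel₀ (κ_ne_zero q _ _) h4
  rw [mul_comm _ ((-1 : F) ^ ω (A.σ e) (A.σ f))] at h5
  exact mul_right_cancel₀ (mul_ne_zero (A.c_ne e) (A.c_ne f)) h5

theorem κ_invariant (h2 : (2 : F) ≠ 0) (A : Act q k y) (hk : k = 1) (e : E) :
    κ q (A.σ e) (A.σ e) = κ q e e := by
  have h1 : (y : M4) * (P q e * P q e) = (A.c e * A.c e) • (P q (A.σ e) * P q (A.σ e) * (y : M4)) := by
    rw [← mul_assoc, A.eq, Matrix.smul_mul, mul_assoc, A.eq, Matrix.mul_smul, smul_smul, mul_assoc]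
  have hc : A.c e * A.c e = 1 := by have := A.c_pow e; simp only [hk, mul_one] at this; rw [← this, pow_two]
  rw [P_sq, P_sq, hc, one_smul, Matrix.mul_smul, mul_one, Matrix.smul_mul, one_mul] at h1
  exact (smul_left_injective F (Units.ne_zero y) h1).symm

/-- The multiplier of a power. -/
theorem pow (A : Act q k y) (n : ℕ) (e : E) : ((y ^ n : GL (Fin 4) F) : M4) * P q e =
    (∏ i ∈ Finset.range n, A.c ((A.σ ^ i) e)) • (P q ((A.σ ^ n) e) * ((y ^ n : GL (Fin 4) F) : M4)) := by
  induction n generalizing e with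
  | zero => simp
  | succ n ih =>
    rw [pow_succ', Units.val_mul, mul_assoc, ih, Matrix.mul_smul, ← mul_assoc, A.eq, Matrix.smul_mul, smul_smul,
      Finset.prod_range_succ, mul_assoc, pow_succ' A.σ]
    rfl

theorem pow_eq_one (h2 : (2 : F) ≠ 0) (A : Act q k y) {r : ℕ} (hyr : y ^ r = 1) :
    A.σ ^ r = 1 ∧ ∀ e, A.σ e = e → A.c e ^ r = 1 := by
  have h : ∀ e, (A.σ ^ r) e = e ∧ ∏ i ∈ Finset.range r, A.c ((A.σ ^ i) e) = 1 := by
    intro e
    have h1 := A.pow r e
    rw [hyr, Units.val_one, one_mul, mul_one] at h1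
    obtain ⟨h3, h4⟩ := smul_P_inj q h2 (c := ∏ i ∈ Finset.range r, A.c ((A.σ ^ i) e)) (d := 1)
      (Finset.prod_ne_zero_iff.2 fun i _ => A.c_ne _) (f := e) (by rw [one_smul]; exact h1.symm)
    exact ⟨h3, h4⟩
  refine ⟨Equiv.ext fun e => (h e).1, fun e he => ?_⟩
  have hfix : ∀ i, (A.σ ^ i) e = e := fun i => by
    induction i with
    | zero => rfl
    | succ i ih => rw [pow_succ', Equiv.Perm.mul_apply, ih, he]
  have := (h e).2
  simpa [hfix] using this

/-- The fixed labels. -/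
def fixed (A : Act q k y) : Finset E := Finset.univ.filter fun e => A.σ e = e

theorem mem_fixed (A : Act q k y) {e : E} : e ∈ A.fixed ↔ A.σ e = e := by simp [fixed]

theorem map_zero (h2 : (2 : F) ≠ 0) (A : Act q k y) : A.σ 0 = 0 := by
  have h := A.map_add h2 0 0
  rw [add_zero] at h
  simpa [add_assoc, add_self_E] using congrArg (· + A.σ 0) h |>.symm

theorem card_fixed_dvd (h2 : (2 : F) ≠ 0) (A : Act q k y) : A.fixed.card ∣ 16 := by
  let H : AddSubgroup E :=
    { carrier := {e | A.σ e = e}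
      add_mem' := fun {a b} ha hb => by simp only [Set.mem_setOf_eq] at *; rw [A.map_add h2, ha, hb]
      zero_mem' := A.map_zero h2
      neg_mem' := fun {a} ha => by
        have : -a = a := neg_eq_of_add_eq_zero_right (add_self_E a)
        simp only [Set.mem_setOf_eq] at *; rwa [this] }
  have h := H.card_addSubgroup_dvd_card
  rw [show Nat.card E = 16 by simp] at h
  rwa [show A.fixed.card = Nat.card H by
    rw [← Nat.card_eq_finsetCard]; exact Nat.card_congr (Equiv.subtypeEquivRight fun e => A.mem_fixed)]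

theorem card_fixed_lt (h2 : (2 : F) ≠ 0) (A : Act q k y) (hc : ∀ e, A.σ e = e → A.c e = 1)
    (hy : ∀ z : F, (y : M4) ≠ z • 1) : A.fixed.card < 16 := by
  have hne : A.fixed ≠ Finset.univ := by
    intro h
    obtain ⟨z, hz⟩ := scalar_of_commute q h2 (M := (y : M4)) fun i => by
      have hi : A.σ (gens i) = gens i := A.mem_fixed.1 (h ▸ Finset.mem_univ _)
      rw [A.eq, hi, hc _ hi, one_smul]
    exact hy z hz
  have := Finset.card_lt_univ_of_notMem (s := A.fixed) (x := (Finset.eq_univ_iff_forall.not.trans not_forall).1 hne |>.choose)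
    ((Finset.eq_univ_iff_forall.not.trans not_forall).1 hne |>.choose_spec)
  simpa using this

theorem trace_mul (h2 : (2 : F) ≠ 0) (A : Act q k y) (hc : ∀ e, A.σ e = e → A.c e = 1) :
    (y : M4).trace * ((y⁻¹ : GL (Fin 4) F) : M4).trace = (A.fixed.card : F) := by
  have h := congrArg (fun M => ((y : M4) * M).trace) (twirl q h2 ((y⁻¹ : GL (Fin 4) F) : M4))
  have hterm : ∀ e, ((y : M4) * (κ q e e • (P q e * ((y⁻¹ : GL (Fin 4) F) : M4) * P q e))).trace =
      if A.σ e = e then 4 else 0 := by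
    intro e
    rw [Matrix.mul_smul, ← mul_assoc, ← mul_assoc, A.eq, Matrix.smul_mul, mul_assoc (P q _), Units.mul_inv,
      mul_one, Matrix.smul_mul, smul_smul, Matrix.trace_smul, trace_P_mul_P, smul_eq_mul]
    split_ifs with he
    · rw [he, hc e he]; linear_combination (4 : F) * κ_sq q e e
    · rw [mul_zero]
  simp only [Matrix.mul_sum, Matrix.trace_sum, hterm] at h
  simp only [Matrix.mul_smul, mul_one, Matrix.trace_smul, smul_eq_mul] at h
  rw [Finset.sum_ite, Finset.sum_const_zero, add_zero, Finset.sum_const, nsmul_eq_mul] at h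
  have h4 : (4 : F) ≠ 0 := by rw [show (4 : F) = 2 * 2 by norm_num]; exact mul_ne_zero h2 h2
  refine mul_right_cancel₀ h4 ?_
  rw [show A.fixed = Finset.univ.filter fun e => A.σ e = e from rfl]
  linear_combination -h

theorem card_modEq (A : Act q k y) {r : ℕ} [Fact r.Prime] (hσ : A.σ ^ r = 1) (p : E → Prop) [DecidablePred p]
    (hp : ∀ e, p (A.σ e) ↔ p e) :
    (A.fixed.filter p).card ≡ (Finset.univ.filter p).card [MOD r] := by
  let τ : Equiv.Perm {e // p e} := A.σ.subtypePerm hp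
  have hτ : τ ^ (r ^ 1) = 1 := by
    rw [pow_one, Equiv.Perm.subtypePerm_pow]
    refine Equiv.ext fun e => Subtype.ext ?_
    show (A.σ ^ r) (e : E) = (e : E)
    rw [hσ]; rfl
  have h := Equiv.Perm.card_compl_support_modEq hτ
  rw [Fintype.card_subtype] at h
  have he : (τ.supportᶜ).map (Function.Embedding.subtype p) = A.fixed.filter p := by
    ext e
    simp [τ, fixed, Subtype.ext_iff, and_comm]
  rw [← he, Finset.card_map]
  exact h

end Act

/-- An element of odd prime order of the normaliser, not a scalar. -/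
theorem exists_fix_data (q : Par F) (h2 : (2 : F) ≠ 0) {k : ℕ} (hk : k = 1 ∨ k = 2) {r : ℕ} [Fact r.Prime]
    (hr : r ≠ 2) {y : GL (Fin 4) F} (hy : y ∈ Geo.subgroupNormalizer (R0 q k)) (hyr : y ^ r = 1)
    (hns : ∀ z : F, (y : M4) ≠ z • 1) :
    ∃ A : Act q k y, A.σ ^ r = 1 ∧ (∀ e, A.σ e = e → A.c e = 1) ∧ A.fixed.card ∣ 16 ∧ A.fixed.card < 16 ∧
      A.fixed.card ≡ 16 [MOD r] ∧ (y : M4).trace * ((y⁻¹ : GL (Fin 4) F) : M4).trace = (A.fixed.card : F) := by
  obtain ⟨A⟩ := exists_act q h2 k hy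
  obtain ⟨hσ, hc⟩ := A.pow_eq_one h2 hyr
  have hc1 : ∀ e, A.σ e = e → A.c e = 1 := by
    intro e he
    have h1 := A.c_pow e
    have h3 := hc e he
    have hco : Nat.Coprime r (2 * k) := by
      have hr2 : Nat.Coprime r 2 := (Nat.coprime_primes (Fact.out) Nat.prime_two).2 hr
      rcases hk with rfl | rfl
      · simpa using hr2
      · exact Nat.Coprime.mul_right hr2 hr2
    simpa [hco.gcd_eq_one] using (pow_gcd_eq_one (a := A.c e)).2 ⟨h3, h1⟩
  refine ⟨A, hσ, hc1, A.card_fixed_dvd h2, A.card_fixed_lt h2 hc1 hns, ?_, A.trace_mul h2 hc1⟩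
  have h := A.card_modEq hσ (fun _ => True) (fun _ => Iff.rfl)
  simpa using h

theorem count_anti : ∀ v : E, v ≠ 0 → (Finset.univ.filter fun e : E => ω e v % 2 = 1).card = 8 := by decide +kernel

theorem ω_self : ∀ v : E, ω v v % 2 = 0 := by decide +kernel

theorem ω_zero : ∀ v : E, ω 0 v % 2 = 0 := by decide +kernel

/-- `r` is three or five, with the number of fixed labels. -/
theorem prime_cases (q : Par F) (h2 : (2 : F) ≠ 0) {k : ℕ} (hk : k = 1 ∨ k = 2) {r : ℕ} [Fact r.Prime]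
    (hr : r ≠ 2) {y : GL (Fin 4) F} (hy : y ∈ Geo.subgroupNormalizer (R0 q k)) (hyr : y ^ r = 1)
    (hns : ∀ z : F, (y : M4) ≠ z • 1) :
    (r = 3 ∧ ((y : M4).trace * ((y⁻¹ : GL (Fin 4) F) : M4).trace = 1 ∨
      (y : M4).trace * ((y⁻¹ : GL (Fin 4) F) : M4).trace = 4)) ∨
    (r = 5 ∧ (y : M4).trace * ((y⁻¹ : GL (Fin 4) F) : M4).trace = 1) := by
  obtain ⟨A, hσ, hc, hdvd, hlt, hmod, htr⟩ := exists_fix_data q h2 hk hr hy hyr hns
  have hr' : r.Prime := Fact.out
  rw [htr]
  obtain ⟨j, hj, hf⟩ := (Nat.dvd_prime_pow Nat.prime_two).1 (show A.fixed.card ∣ 2 ^ 4 from hdvd)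
  have hj4 : j < 4 := by
    by_contra hcon
    have : j = 4 := by omega
    rw [this] at hf; omega
  have hdiv : r ∣ 16 - A.fixed.card := (Nat.modEq_iff_dvd' (by omega)).1 hmod
  have h3 : 3 ≤ r := by have := hr'.two_le; omega
  interval_cases j <;> norm_num at hf <;> rw [hf] at hdiv <;> norm_num at hdiv
  · -- one fixed label
    have h15 : r ∣ 3 * 5 := hdiv
    rcases (Nat.Prime.dvd_mul hr').1 h15 with h | h
    · exact Or.inl ⟨(Nat.prime_dvd_prime_iff_eq hr' (by norm_num)).1 h, Or.inl (by rw [hf]; simp)⟩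
    · exact Or.inr ⟨(Nat.prime_dvd_prime_iff_eq hr' (by norm_num)).1 h, by rw [hf]; simp⟩
  · -- two fixed labels
    exfalso
    have h14 : r ∣ 2 * 7 := hdiv
    rcases (Nat.Prime.dvd_mul hr').1 h14 with h | h
    · exact hr ((Nat.prime_dvd_prime_iff_eq hr' Nat.prime_two).1 h)
    have hr7 := (Nat.prime_dvd_prime_iff_eq hr' (by norm_num)).1 h
    obtain ⟨v, hv, hv0⟩ := Finset.exists_mem_ne (s := A.fixed) (by omega) (0 : E)
    have hvf := A.mem_fixed.1 hv
    have hset : A.fixed = {0, v} := by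
      refine (Finset.eq_of_subset_of_card_le ?_ ?_).symm
      · intro e he
        rcases Finset.mem_insert.1 he with rfl | he
        · exact A.mem_fixed.2 (A.map_zero h2)
        · rwa [Finset.mem_singleton.1 he]
      · rw [hf, Finset.card_pair hv0.symm]
    have hm := A.card_modEq hσ (fun e => ω e v % 2 = 1) fun e => by
      have h1 := A.sign h2 e v
      rw [hvf] at h1
      rw [h1]
    rw [count_anti v hv0, hset] at hm
    have h0 : (({0, v} : Finset E).filter fun e => ω e v % 2 = 1) = ∅ := by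
      refine Finset.filter_eq_empty_iff.2 fun e he => ?_
      rcases Finset.mem_insert.1 he with rfl | he
      · rw [ω_zero]; omega
      · rw [Finset.mem_singleton.1 he, ω_self]; omega
    rw [h0, hr7] at hm
    exact absurd hm (by decide)
  · -- four fixed labels
    have h12 : r ∣ 2 ^ 2 * 3 := hdiv
    rcases (Nat.Prime.dvd_mul hr').1 h12 with h | h
    · exact absurd ((Nat.prime_dvd_prime_iff_eq hr' Nat.prime_two).1 (hr'.dvd_of_dvd_pow h)) hr
    · exact Or.inl ⟨(Nat.prime_dvd_prime_iff_eq hr' (by norm_num)).1 h, Or.inr (by rw [hf]; simp)⟩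
  · exfalso
    have h8 : r ∣ 2 ^ 3 := hdiv
    exact hr ((Nat.prime_dvd_prime_iff_eq hr' Nat.prime_two).1 (hr'.dvd_of_dvd_pow h8))

theorem k2_self_parity (q : Par F) (hs : q.s = -1) (e : Fin 2 × Fin 2) :
    k2 q e e = (-1) ^ ((e.2 : ℕ) * e.1 + e.1 * e.1 + e.2 * e.2) := by
  simp only [k2, hs, ← pow_add]

theorem k2_self_std (e : Fin 2 × Fin 2) : k2 (Par.std F) e e = (-1) ^ ((e.2 : ℕ) * e.1) := by
  simp [k2, Par.std]

/-- The parity of the square of a label for `s = -1`. -/
def qf (e : E) : ℕ :=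
  (e.1.2 : ℕ) * e.1.1 + e.1.1 * e.1.1 + e.1.2 * e.1.2 + e.2.2 * e.2.1

theorem count_qf : (Finset.univ.filter fun e : E => e ≠ 0 ∧ qf e % 2 = 0).card = 5 := by decide +kernel

/-- In the symplectic case an element of order three fixes four labels. -/
theorem trace_three (q : Par F) (hs : q.s = -1) (h2 : (2 : F) ≠ 0)
    {y : GL (Fin 4) F} (hy : y ∈ Geo.subgroupNormalizer (R0 q 1)) (hyr : y ^ 3 = 1)
    (hns : ∀ z : F, (y : M4) ≠ z • 1) :
    (y : M4).trace * ((y⁻¹ : GL (Fin 4) F) : M4).trace = 4 := by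
  haveI : Fact (Nat.Prime 3) := ⟨by norm_num⟩
  obtain ⟨A, hσ, hc, hdvd, hlt, hmod, htr⟩ := exists_fix_data q h2 (Or.inl rfl) (r := 3) (by norm_num) hy hyr hns
  have hκ : ∀ e, κ q e e = (-1) ^ qf e := fun e => by
    rw [κ, k2_self_parity q hs, k2_self_std, ← pow_add, qf]
  have hm := A.card_modEq hσ (fun e => e ≠ 0 ∧ qf e % 2 = 0) fun e => by
    have h0 : A.σ e = 0 ↔ e = 0 := ⟨fun h => A.σ.injective (h.trans (A.map_zero h2).symm),
      fun h => h ▸ A.map_zero h2⟩
    have h1 : qf (A.σ e) % 2 = qf e % 2 := by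
      refine neg_one_pow_parity h2 ?_
      rw [← hκ, ← hκ, A.κ_invariant h2 rfl]
    rw [ne_eq, ne_eq, h0, h1]
  rw [count_qf] at hm
  have hsub : (A.fixed.filter fun e => e ≠ 0 ∧ qf e % 2 = 0) ⊆ A.fixed.erase 0 := fun e he => by
    obtain ⟨h1, h3, -⟩ := Finset.mem_filter.1 he
    exact Finset.mem_erase.2 ⟨h3, h1⟩
  have hle := Finset.card_le_card hsub
  rw [Finset.card_erase_of_mem (A.mem_fixed.2 (A.map_zero h2))] at hle
  rw [htr]
  have hf : A.fixed.card = 4 := by
    obtain ⟨j, hj, hf⟩ := (Nat.dvd_prime_pow Nat.prime_two).1 (show A.fixed.card ∣ 2 ^ 4 from hdvd)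
    unfold Nat.ModEq at hmod hm
    interval_cases j <;> omega
  rw [hf]; simp

/-- A rank one unipotent element of odd prime order does not normalise the group. -/
theorem not_rank_one_unipotent (q : Par F) (h2 : (2 : F) ≠ 0) {k : ℕ} (hk : k = 1 ∨ k = 2) {r : ℕ} [Fact r.Prime]
    (hr : r ≠ 2) {y : GL (Fin 4) F} (hy : y ∈ Geo.subgroupNormalizer (R0 q k)) (hyr : y ^ r = 1)
    {N : M4} (hN : (y : M4) = 1 + N) (hN2 : N * N = 0) (hrk : ∀ M, ∃ t : F, N * M * N = t • N)
    (hns : ∀ z : F, (y : M4) ≠ z • 1) : False := by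
  obtain ⟨A, hσ, hc, hdvd, hlt, hmod, htr⟩ := exists_fix_data q h2 hk hr hy hyr hns
  have hinv : ((y⁻¹ : GL (Fin 4) F) : M4) = 1 - N := by
    refine Units.inv_eq_of_mul_eq_one_right ?_
    rw [hN, mul_sub, mul_one, add_mul, one_mul, hN2, add_zero, add_sub_cancel_right]
  let D : M4 → M4 := fun M => (y : M4) * M * ((y⁻¹ : GL (Fin 4) F) : M4) - M
  have hD : ∀ M, ∃ t : F, D (D M) = t • N := by
    intro M
    obtain ⟨t, ht⟩ := hrk M
    refine ⟨-(2 * t), ?_⟩
    have e1 : ∀ L, D L = N * L - L * N - N * L * N := fun L => by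
      simp only [D, hN, hinv]; noncomm_ring
    have hNN : ∀ L, N * (N * L) = 0 := fun L => by rw [← mul_assoc, hN2, zero_mul]
    have hNN' : ∀ L, L * N * N = 0 := fun L => by rw [mul_assoc, hN2, mul_zero]
    rw [e1, e1, neg_smul, ← smul_smul, ← ht, two_smul]
    simp only [mul_sub, sub_mul, ← mul_assoc, hN2, zero_mul, mul_zero, hNN', sub_zero, zero_sub, mul_neg, neg_mul,
      neg_zero]
    abel
  have hconj : ∀ e, (y : M4) * P q e * ((y⁻¹ : GL (Fin 4) F) : M4) = A.c e • P q (A.σ e) := fun e => by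
    rw [A.eq, Matrix.smul_mul, mul_assoc, Units.mul_inv, mul_one]
  have hDD : ∀ e, D (D (P q e)) = (A.c e * A.c (A.σ e)) • P q (A.σ (A.σ e)) - A.c e • P q (A.σ e) -
      (A.c e • P q (A.σ e) - P q e) := fun e => by
    simp only [D, mul_sub, sub_mul, hconj, Matrix.mul_smul, Matrix.smul_mul, smul_smul]
  have hmoved : ∀ e, A.σ e ≠ e → A.σ (A.σ e) ≠ e := by
    intro e he hcon
    apply he
    have hodd : Odd r := (Fact.out : r.Prime).odd_of_ne_two hr
    obtain ⟨j, hj⟩ := hodd
    have h1 := Equiv.congr_fun hσ e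
    have h3 : ∀ i, (A.σ ^ (2 * i)) e = e := fun i => by
      induction i with
      | zero => rfl
      | succ i ih =>
        rw [show 2 * (i + 1) = 2 + 2 * i by ring, pow_add, Equiv.Perm.mul_apply, ih, pow_two, Equiv.Perm.mul_apply, hcon]
    rwa [hj, pow_succ', Equiv.Perm.mul_apply, h3, Equiv.Perm.one_apply] at h1
  have hcoef : ∀ e f, A.σ e ≠ e → (coef q (D (D (P q e))) f =
      (if A.σ (A.σ e) = f then (A.c e * A.c (A.σ e)) * (4 * κ q f f) else 0) -
        2 * (if A.σ e = f then A.c e * (4 * κ q f f) else 0) + (if e = f then 4 * κ q f f else 0)) := by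
    intro e f _
    rw [hDD, coef_sub, coef_sub, coef_sub, coef_smul, coef_smul, coef_P, coef_P, coef_P]
    split_ifs <;> ring
  -- a moved label and a second one outside its first three images
  have hmv : 8 ≤ (A.fixedᶜ).card := by
    rw [Finset.card_compl]
    obtain ⟨j, hj, hf⟩ := (Nat.dvd_prime_pow Nat.prime_two).1 (show A.fixed.card ∣ 2 ^ 4 from hdvd)
    simp only [Fintype.card_prod, Fintype.card_fin]
    interval_cases j <;> omega
  obtain ⟨e, he⟩ := Finset.card_pos.1 (show 0 < (A.fixedᶜ).card by omega)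
  obtain ⟨f, hf, hfe⟩ := Finset.exists_mem_notMem_of_card_lt_card
    (s := ({e, A.σ e, A.σ (A.σ e)} : Finset E)) (t := A.fixedᶜ) (by
      have : ({e, A.σ e, A.σ (A.σ e)} : Finset E).card ≤ 3 := Finset.card_le_three
      omega)
  simp only [Finset.mem_insert, Finset.mem_singleton, not_or] at hfe
  rw [Finset.mem_compl, A.mem_fixed] at he hf
  obtain ⟨te, hte⟩ := hD (P q e)
  obtain ⟨tf, htf⟩ := hD (P q f)
  have h1 := hcoef e e he
  have h3 := hcoef e f he
  have h4 := hcoef f f hf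
  rw [if_neg (hmoved e he), if_neg he, if_pos rfl, hte, coef_smul] at h1
  rw [if_neg (Ne.symm hfe.2.2), if_neg (Ne.symm hfe.2.1), if_neg (Ne.symm hfe.1), hte, coef_smul] at h3
  rw [if_neg (hmoved f hf), if_neg hf, if_pos rfl, htf, coef_smul] at h4
  have h4F : (4 : F) ≠ 0 := by rw [show (4 : F) = 2 * 2 by norm_num]; exact mul_ne_zero h2 h2
  have hte0 : te ≠ 0 := by
    rintro rfl
    exact mul_ne_zero h4F (κ_ne_zero q e e) (by linear_combination -h1)
  have hNf : coef q N f = 0 := (mul_eq_zero.1 (by linear_combination h3)).resolve_left hte0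
  rw [hNf] at h4
  exact mul_ne_zero h4F (κ_ne_zero q f f) (by linear_combination -h4)

end Cfsg.Agent.PauliFour
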