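import Cfsg.Agent.Lib.PrimeFix.PauliWitness

/-!
Groups fixed by an anti-automorphism `adj` of the matrix algebra, and the standard Pauli matrices in them.
-/

set_option autoImplicit false

namespace Cfsg.Agent.PauliFour

open Matrix
open scoped MatrixGroups

variable {F : Type*} [Field F]

local notation "M4" => Matrix (Fin 4) (Fin 4) F

/-- An adjoint map of matrices. -/
structure Adjoint (F : Type*) [Field F] where
  σ : F →+* F
  adj : Matrix (Fin 4) (Fin 4) F → Matrix (Fin 4) (Fin 4) F
  mul : ∀ A B, adj (A * B) = adj B * adj A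
  sub : ∀ A B, adj (A - B) = adj A - adj B
  smul : ∀ (c : F) A, adj (c • A) = σ c • adj A
  one : adj 1 = 1

/-- The matrices with `adj g * g = 1`. -/
def Adjoint.group (A : Adjoint F) : Subgroup (GL (Fin 4) F) where
  carrier := {g | A.adj (g : M4) * g = 1}
  one_mem' := by simp [A.one]
  mul_mem' := by
    intro g h hg hh
    simp only [Set.mem_setOf_eq, Units.val_mul, A.mul] at *
    rw [mul_assoc, ← mul_assoc (A.adj (g : M4)), hg, one_mul, hh]
  inv_mem' := by
    intro g hg
    simp only [Set.mem_setOf_eq] at *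
    have h1 : A.adj ((g⁻¹ : GL (Fin 4) F) : M4) * A.adj (g : M4) = 1 := by
      rw [← A.mul, Units.mul_inv, A.one]
    have h3 : A.adj ((g⁻¹ : GL (Fin 4) F) : M4) = g := by
      calc A.adj ((g⁻¹ : GL (Fin 4) F) : M4) = A.adj ((g⁻¹ : GL (Fin 4) F) : M4) * (A.adj (g : M4) * g) := by
            rw [hg, mul_one]
        _ = g := by rw [← mul_assoc, h1, one_mul]
    rw [h3, Units.mul_inv]

theorem Adjoint.mem_group {A : Adjoint F} {g : GL (Fin 4) F} : g ∈ A.group ↔ A.adj (g : M4) * g = 1 := Iff.rfl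

variable [Finite F]

theorem sc_neg_one_mem (A : Adjoint F) : sc (-1 : Fˣ) ∈ A.group := by
  rw [A.mem_group, coe_sc, A.smul, A.one]
  simp

theorem Adjoint.U_mem (A : Adjoint F) (q : Par F) (hg : ∀ i, U q (gens i) ∈ A.group) (e : E) : U q e ∈ A.group :=
  U_mem_of_gens q (sc_neg_one_mem A) hg e

theorem Adjoint.adj_P (A : Adjoint F) (q : Par F) (hg : ∀ i, U q (gens i) ∈ A.group) (e : E) :
    A.adj (P q e) = κ q e e • P q e := by
  have h : A.adj (P q e) * P q e = 1 := A.U_mem q hg e
  calc A.adj (P q e) = A.adj (P q e) * (P q e * (κ q e e • P q e)) := by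
        rw [Matrix.mul_smul, P_sq, smul_smul, κ_sq, one_smul, mul_one]
    _ = κ q e e • P q e := by rw [← mul_assoc, h, one_mul]

/-- The frame change is a similitude, hence normalises the group. -/
theorem Adjoint.normalizes (A : Adjoint F) {q : Par F} (h2 : (2 : F) ≠ 0) (hg : ∀ i, U q (gens i) ∈ A.group)
    {g : GL (Fin 4) F} (hgen : ∀ i, g * U q (gens i) * g⁻¹ ∈ A.group) :
    ∀ x, x ∈ A.group → g⁻¹ * x * g ∈ A.group ∧ g * x * g⁻¹ ∈ A.group := by
  obtain ⟨c, hc⟩ := scalar_of_commute q h2 (M := A.adj (g : M4) * g) fun i => by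
    set a := U q (gens i)
    set b := g * a * g⁻¹
    have hab : (g : M4) * a = (b : M4) * g := by
      rw [← Units.val_mul, ← Units.val_mul]; congr 1; simp [b]
    have hbb : A.adj (b : M4) * b = 1 := hgen i
    have haa : A.adj (a : M4) * a = 1 := hg i
    have h1 : A.adj (a : M4) * (A.adj (g : M4) * g) * a = A.adj (g : M4) * g := by
      calc A.adj (a : M4) * (A.adj (g : M4) * g) * a = A.adj ((g : M4) * a) * ((g : M4) * a) := by
            rw [A.mul]; simp only [mul_assoc]
        _ = A.adj (g : M4) * (A.adj (b : M4) * b) * g := by rw [hab, A.mul]; simp only [mul_assoc]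
        _ = A.adj (g : M4) * g := by rw [hbb, mul_one]
    have haa' : (a : M4) * A.adj (a : M4) = 1 := mul_eq_one_comm.1 haa
    calc A.adj (g : M4) * g * P q (gens i) = (a : M4) * A.adj (a : M4) * (A.adj (g : M4) * g) * a := by
          rw [haa', one_mul]; rfl
      _ = P q (gens i) * (A.adj (g : M4) * g) := by
          rw [mul_assoc (a : M4), mul_assoc (a : M4), h1]; rfl
  have hginv : A.adj ((g⁻¹ : GL (Fin 4) F) : M4) * A.adj (g : M4) = 1 := by rw [← A.mul, Units.mul_inv, A.one]
  have hc0 : c ≠ 0 := by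
    rintro rfl
    rw [zero_smul] at hc
    have := congrArg (A.adj ((g⁻¹ : GL (Fin 4) F) : M4) * ·) hc
    simp only [← mul_assoc, hginv, one_mul, mul_zero] at this
    exact Units.ne_zero g this
  have e1 : A.adj (g : M4) = c • ((g⁻¹ : GL (Fin 4) F) : M4) := by
    have := congrArg (· * ((g⁻¹ : GL (Fin 4) F) : M4)) hc
    simpa [mul_assoc] using this
  have e2 : A.adj ((g⁻¹ : GL (Fin 4) F) : M4) = c⁻¹ • (g : M4) := by
    rw [e1, Matrix.mul_smul] at hginv
    have := congrArg (fun M => c⁻¹ • (M * (g : M4))) hginv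
    simpa [mul_assoc, smul_smul, hc0] using this
  intro x hx
  have hx' : A.adj (x : M4) * x = 1 := hx
  constructor
  · rw [A.mem_group, Units.val_mul, Units.val_mul, A.mul, A.mul, e1, e2]
    simp only [Matrix.smul_mul, Matrix.mul_smul, smul_smul, inv_mul_cancel₀ hc0, mul_inv_cancel₀ hc0, one_smul, mul_assoc]
    rw [← mul_assoc (g : M4) ((g⁻¹ : GL (Fin 4) F) : M4), Units.mul_inv, one_mul, ← mul_assoc (A.adj (x : M4)), hx',
      one_mul, Units.inv_mul]
  · rw [A.mem_group, Units.val_mul, Units.val_mul, A.mul, A.mul, e1, e2]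
    simp only [Matrix.smul_mul, Matrix.mul_smul, smul_smul, inv_mul_cancel₀ hc0, mul_inv_cancel₀ hc0, one_smul, mul_assoc]
    rw [← mul_assoc ((g⁻¹ : GL (Fin 4) F) : M4) (g : M4), Units.inv_mul, one_mul, ← mul_assoc (A.adj (x : M4)), hx',
      one_mul, Units.mul_inv]

/-- The element of order five lies in the group. -/
theorem Adjoint.fiveUnit_mem (A : Adjoint F) {q : Par F} {l : F} (h2 : (2 : F) ≠ 0) (hl : l * l = -q.s)
    (hg : ∀ i, U q (gens i) ∈ A.group) (hσ : A.σ l = l * (l * l)) : fiveUnit h2 hl ∈ A.group := by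
  have hgam : ∀ j, A.adj (gam q l j) = gam q l j := by
    intro j
    rw [gam, A.smul, A.adj_P q hg, smul_smul]
    congr 1
    have h1 := gam_sq (q := q) hl j
    rw [gam, Matrix.smul_mul, Matrix.mul_smul, P_sq, smul_smul, smul_smul] at h1
    have h3 : gcoef l j * gcoef l j * κ q (lab j) (lab j) = 1 := by
      simpa using congrArg (fun M : M4 => M 0 0) h1
    have hσj : A.σ (gcoef l j) = gcoef l j * (gcoef l j * gcoef l j) := by
      fin_cases j <;> simp [gcoef, hσ]
    rw [hσj]
    linear_combination (gcoef l j) * h3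
  rw [A.mem_group, coe_fiveUnit]
  have hd : ∀ j, A.adj (diff q l j) = diff q l j := fun j => by rw [diff, A.sub, hgam, hgam]
  rw [fiveMat, A.smul, A.mul, A.mul, A.mul, hd, hd, hd, hd, map_inv₀, map_ofNat]
  have h := (fiveMat_mul h2 hl (q := q)).1
  rw [fiveMat', fiveMat] at h
  simpa only [mul_assoc] using h

end Cfsg.Agent.PauliFour
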