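import Mathlib
import Cfsg.Prelude.Def_GeometricClasses

/-!
Standard four-dimensional groups of Pauli matrices: the product rule, the trace form, and the
normaliser of the group they generate together with a group of scalars.
-/

set_option autoImplicit false

namespace Cfsg.Agent.PauliFour

open Matrix
open scoped Kronecker MatrixGroups

variable {F : Type*} [Field F]

/-- Parameters of a pair of anticommuting `2 × 2` matrices with square `s`. -/
structure Par (F : Type*) [Field F] where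
  s : F
  a : F
  b : F
  hs : s = 1 ∨ s = -1
  ha : a ≠ 0
  hab : a * a - s * (b * b) = s

/-- The parameters of the real pair `swap`, `diag (1, -1)`. -/
def Par.std (F : Type*) [Field F] : Par F := ⟨1, 1, 0, Or.inl rfl, one_ne_zero, by ring⟩

def Par.X (q : Par F) : Matrix (Fin 2) (Fin 2) F := !![0, q.s; 1, 0]
def Par.Y (q : Par F) : Matrix (Fin 2) (Fin 2) F := !![q.a, -(q.s * q.b); q.b, -q.a]

theorem Par.X_sq (q : Par F) : q.X * q.X = q.s • 1 := by
  ext i j; fin_cases i <;> fin_cases j <;> simp [Par.X, Matrix.mul_apply, Fin.sum_univ_two]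

theorem Par.Y_sq (q : Par F) : q.Y * q.Y = q.s • 1 := by
  ext i j; fin_cases i <;> fin_cases j <;> simp [Par.Y, Matrix.mul_apply, Fin.sum_univ_two] <;>
    first
    | linear_combination q.hab
    | ring

theorem Par.YX (q : Par F) : q.Y * q.X = -(q.X * q.Y) := by
  ext i j; fin_cases i <;> fin_cases j <;> simp [Par.X, Par.Y, Matrix.mul_apply, Fin.sum_univ_two] <;> ring

/-- The four matrices `1`, `X`, `Y`, `XY`. -/
def P2 (q : Par F) (e : Fin 2 × Fin 2) : Matrix (Fin 2) (Fin 2) F := q.X ^ (e.1 : ℕ) * q.Y ^ (e.2 : ℕ)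

def k2 (q : Par F) (e f : Fin 2 × Fin 2) : F :=
  (-1) ^ ((e.2 : ℕ) * (f.1 : ℕ)) * q.s ^ ((e.1 : ℕ) * (f.1 : ℕ)) * q.s ^ ((e.2 : ℕ) * (f.2 : ℕ))

theorem pow_fin_two_mul {M : Matrix (Fin 2) (Fin 2) F} {s : F} (h : M * M = s • 1) (i k : Fin 2) :
    M ^ (i : ℕ) * M ^ (k : ℕ) = s ^ ((i : ℕ) * (k : ℕ)) • M ^ ((i + k : Fin 2) : ℕ) := by
  fin_cases i <;> fin_cases k <;> simp [h]

theorem P2_mul (q : Par F) (e f : Fin 2 × Fin 2) : P2 q e * P2 q f = k2 q e f • P2 q (e + f) := by
  have h : q.Y ^ (e.2 : ℕ) * q.X ^ (f.1 : ℕ) =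
      ((-1 : F) ^ ((e.2 : ℕ) * (f.1 : ℕ))) • (q.X ^ (f.1 : ℕ) * q.Y ^ (e.2 : ℕ)) := by
    generalize e.2 = j
    generalize f.1 = k
    fin_cases j <;> fin_cases k <;> simp [q.YX]
  calc P2 q e * P2 q f
      = q.X ^ (e.1 : ℕ) * (q.Y ^ (e.2 : ℕ) * q.X ^ (f.1 : ℕ)) * q.Y ^ (f.2 : ℕ) := by
        simp only [P2, mul_assoc]
    _ = ((-1 : F) ^ ((e.2 : ℕ) * (f.1 : ℕ))) •
        ((q.X ^ (e.1 : ℕ) * q.X ^ (f.1 : ℕ)) * (q.Y ^ (e.2 : ℕ) * q.Y ^ (f.2 : ℕ))) := by
        rw [h]; simp only [Matrix.mul_smul, Matrix.smul_mul, mul_assoc]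
    _ = k2 q e f • P2 q (e + f) := by
        rw [pow_fin_two_mul q.X_sq, pow_fin_two_mul q.Y_sq]
        simp only [Matrix.mul_smul, Matrix.smul_mul, smul_smul, k2, P2, Prod.fst_add, Prod.snd_add]
        congr 1
        ring

theorem k2_sq (q : Par F) (e f : Fin 2 × Fin 2) : k2 q e f * k2 q e f = 1 := by
  have h1 : ∀ n : ℕ, (-1 : F) ^ n * (-1) ^ n = 1 := fun n => by
    rw [← mul_pow, neg_one_mul, neg_neg, one_pow]
  rcases q.hs with h | h <;> simp only [k2, h, one_pow, mul_one, ← pow_add, h1]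

/-- The commutation exponent of one factor. -/
def w2 (e f : Fin 2 × Fin 2) : ℕ := (e.1 : ℕ) * (f.2 : ℕ) + (e.2 : ℕ) * (f.1 : ℕ)

theorem k2_swap (q : Par F) (e f : Fin 2 × Fin 2) : k2 q e f = (-1) ^ w2 e f * k2 q f e := by
  simp only [k2, w2, pow_add]
  have h : ((-1 : F) ^ ((e.1 : ℕ) * (f.2 : ℕ))) * (-1) ^ ((f.2 : ℕ) * (e.1 : ℕ)) = 1 := by
    rw [mul_comm (f.2 : ℕ), ← mul_pow, neg_one_mul, neg_neg, one_pow]
  rw [mul_comm (f.1 : ℕ) (e.1 : ℕ), mul_comm (f.2 : ℕ) (e.2 : ℕ)]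
  linear_combination (-((-1 : F) ^ ((e.2 : ℕ) * (f.1 : ℕ)) * q.s ^ ((e.1 : ℕ) * (f.1 : ℕ)) *
    q.s ^ ((e.2 : ℕ) * (f.2 : ℕ)))) * h

theorem trace_P2 (q : Par F) (e : Fin 2 × Fin 2) :
    (P2 q e).trace = if e = 0 then 2 else 0 := by
  obtain ⟨i, j⟩ := e
  fin_cases i <;> fin_cases j <;>
    simp [P2, Par.X, Par.Y, Matrix.trace, Matrix.diag, Matrix.mul_apply, Fin.sum_univ_two,
      Matrix.one_apply, Prod.ext_iff]

/-- The Kronecker product on `Fin 4`. -/
def k4 (A B : Matrix (Fin 2) (Fin 2) F) : Matrix (Fin 4) (Fin 4) F :=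
  Matrix.reindex finProdFinEquiv finProdFinEquiv (A ⊗ₖ B)

theorem k4_mul (A B C D : Matrix (Fin 2) (Fin 2) F) : k4 A B * k4 C D = k4 (A * C) (B * D) := by
  simp only [k4, Matrix.reindex_apply, Matrix.submatrix_mul_equiv, Matrix.mul_kronecker_mul]

theorem k4_one : k4 (1 : Matrix (Fin 2) (Fin 2) F) 1 = 1 := by
  simp [k4]

theorem k4_smul_left (c : F) (A B : Matrix (Fin 2) (Fin 2) F) : k4 (c • A) B = c • k4 A B := by
  simp [k4, Matrix.smul_kronecker, Matrix.submatrix_smul]

theorem k4_smul_right (c : F) (A B : Matrix (Fin 2) (Fin 2) F) : k4 A (c • B) = c • k4 A B := by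
  simp [k4, Matrix.kronecker_smul, Matrix.submatrix_smul]

theorem k4_add_left (A A' B : Matrix (Fin 2) (Fin 2) F) : k4 (A + A') B = k4 A B + k4 A' B := by
  ext i j; simp [k4, add_mul]

theorem k4_add_right (A B B' : Matrix (Fin 2) (Fin 2) F) : k4 A (B + B') = k4 A B + k4 A B' := by
  ext i j; simp [k4, mul_add]

theorem trace_k4 (A B : Matrix (Fin 2) (Fin 2) F) : (k4 A B).trace = A.trace * B.trace := by
  rw [← Matrix.trace_kronecker]
  exact Equiv.sum_comp finProdFinEquiv.symm fun i => (A ⊗ₖ B) i i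

theorem det_k4 (A B : Matrix (Fin 2) (Fin 2) F) : (k4 A B).det = A.det ^ 2 * B.det ^ 2 := by
  simp [k4, Matrix.det_kronecker]

theorem transpose_k4 (A B : Matrix (Fin 2) (Fin 2) F) : (k4 A B)ᵀ = k4 Aᵀ Bᵀ := by
  ext i j; simp [k4]

theorem map_k4 {K : Type*} [Field K] (σ : F →+* K) (A B : Matrix (Fin 2) (Fin 2) F) :
    (k4 A B).map σ = k4 (A.map σ) (B.map σ) := by
  ext i j; simp [k4]

/-- Labels. -/
abbrev E : Type := (Fin 2 × Fin 2) × (Fin 2 × Fin 2)

/-- The sixteen Pauli matrices. -/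
def P (q : Par F) (e : E) : Matrix (Fin 4) (Fin 4) F := k4 (P2 q e.1) (P2 (Par.std F) e.2)

def κ (q : Par F) (e f : E) : F := k2 q e.1 f.1 * k2 (Par.std F) e.2 f.2

def ω (e f : E) : ℕ := w2 e.1 f.1 + w2 e.2 f.2

theorem P_mul (q : Par F) (e f : E) : P q e * P q f = κ q e f • P q (e + f) := by
  simp only [P, k4_mul, P2_mul, k4_smul_left, k4_smul_right, smul_smul, κ, Prod.fst_add, Prod.snd_add]
  rw [mul_comm]

theorem κ_sq (q : Par F) (e f : E) : κ q e f * κ q e f = 1 := by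
  have h1 := k2_sq q e.1 f.1
  have h2 := k2_sq (Par.std F) e.2 f.2
  simp only [κ]
  linear_combination h1 * (k2 (Par.std F) e.2 f.2 * k2 (Par.std F) e.2 f.2) + h2

theorem κ_ne_zero (q : Par F) (e f : E) : κ q e f ≠ 0 := fun h => by simpa [h] using κ_sq q e f

theorem κ_swap (q : Par F) (e f : E) : κ q e f = (-1) ^ ω e f * κ q f e := by
  simp only [κ, ω, pow_add, k2_swap q e.1 f.1, k2_swap (Par.std F) e.2 f.2]; ring

theorem P_comm (q : Par F) (e f : E) : P q e * P q f = (-1 : F) ^ ω e f • (P q f * P q e) := by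
  rw [P_mul, P_mul, smul_smul, ← κ_swap, add_comm]

theorem P_zero (q : Par F) : P q 0 = 1 := by simp [P, P2, k4_one]

theorem add_self_E (e : E) : e + e = 0 := by revert e; decide

theorem P_sq (q : Par F) (e : E) : P q e * P q e = κ q e e • 1 := by
  rw [P_mul, add_self_E, P_zero]

theorem trace_P (q : Par F) (e : E) : (P q e).trace = if e = 0 then 4 else 0 := by
  rw [P, trace_k4, trace_P2, trace_P2]
  split_ifs with h1 h2 h3 <;> simp_all [Prod.ext_iff]
  norm_num

theorem trace_P_mul_P (q : Par F) (e f : E) :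
    (P q e * P q f).trace = if e = f then 4 * κ q e e else 0 := by
  rw [P_mul, Matrix.trace_smul, trace_P, smul_eq_mul]
  by_cases h : e = f
  · subst h; rw [if_pos (add_self_E e), if_pos rfl]; ring
  · rw [if_neg h, if_neg (fun h' => h ?_), mul_zero]
    have := congrArg (· + f) h'
    simpa [add_assoc, add_self_E] using this

/-- The coefficient functional. -/
def coef (q : Par F) (M : Matrix (Fin 4) (Fin 4) F) (e : E) : F := (M * P q e).trace

theorem coef_P (q : Par F) (e f : E) : coef q (P q f) e = if f = e then 4 * κ q e e else 0 := by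
  rw [coef, trace_P_mul_P]
  split_ifs with h
  · rw [h]
  · rfl

theorem coef_P_ne_zero (q : Par F) (h2 : (2 : F) ≠ 0) (e : E) : coef q (P q e) e ≠ 0 := by
  rw [coef_P, if_pos rfl, show (4 : F) = 2 * 2 by norm_num]
  exact mul_ne_zero (mul_ne_zero h2 h2) (κ_ne_zero q e e)

theorem coef_sub (q : Par F) (M N : Matrix (Fin 4) (Fin 4) F) (e : E) :
    coef q (M - N) e = coef q M e - coef q N e := by simp [coef, sub_mul]

theorem coef_add (q : Par F) (M N : Matrix (Fin 4) (Fin 4) F) (e : E) :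
    coef q (M + N) e = coef q M e + coef q N e := by simp [coef, add_mul]

theorem coef_smul (q : Par F) (c : F) (M : Matrix (Fin 4) (Fin 4) F) (e : E) :
    coef q (c • M) e = c * coef q M e := by simp [coef]

theorem coef_sum (q : Par F) (c : E → F) (e : E) :
    coef q (∑ f, c f • P q f) e = c e * (4 * κ q e e) := by
  rw [coef, Matrix.sum_mul, Matrix.trace_sum, Finset.sum_eq_single e]
  · rw [← coef, coef_smul, coef_P, if_pos rfl]
  · intro f _ hf
    rw [← coef, coef_smul, coef_P, if_neg hf, mul_zero]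
  · simp

theorem smul_P_inj (q : Par F) (h2 : (2 : F) ≠ 0) {c d : F} {e f : E} (hc : c ≠ 0)
    (h : c • P q e = d • P q f) : e = f ∧ c = d := by
  have h1 := congrArg (coef q · e) h
  simp only [coef_smul] at h1
  by_cases hef : e = f
  · subst hef
    exact ⟨rfl, mul_right_cancel₀ (coef_P_ne_zero q h2 e) h1⟩
  · rw [coef_P q e f, if_neg (Ne.symm hef), mul_zero] at h1
    exact absurd h1 (mul_ne_zero hc (coef_P_ne_zero q h2 e))

theorem linearIndependent_P (q : Par F) (h2 : (2 : F) ≠ 0) : LinearIndependent F (P q) := by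
  rw [Fintype.linearIndependent_iff]
  intro c hc e
  have h := congrArg (coef q · e) hc
  simp only [coef_sum] at h
  rw [show coef q (0 : Matrix (Fin 4) (Fin 4) F) e = 0 by simp [coef]] at h
  refine (mul_eq_zero.1 h).resolve_right ?_
  rw [show (4 : F) = 2 * 2 by norm_num]
  exact mul_ne_zero (mul_ne_zero h2 h2) (κ_ne_zero q e e)

theorem span_P (q : Par F) (h2 : (2 : F) ≠ 0) : Submodule.span F (Set.range (P q)) = ⊤ :=
  (linearIndependent_P q h2).span_eq_top_of_card_eq_finrank (by simp [Module.finrank_matrix])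

theorem eq_of_coef (q : Par F) (h2 : (2 : F) ≠ 0) {M : Matrix (Fin 4) (Fin 4) F}
    (h : ∀ e, coef q M e = 0) : M = 0 := by
  obtain ⟨c, rfl⟩ := (Submodule.mem_span_range_iff_exists_fun F).1
    ((span_P q h2).ge (Submodule.mem_top : M ∈ ⊤))
  refine Finset.sum_eq_zero fun e _ => ?_
  have h1 := h e
  rw [coef_sum, show (4 : F) = 2 * 2 by norm_num] at h1
  rw [(mul_eq_zero.1 h1).resolve_right (mul_ne_zero (mul_ne_zero h2 h2) (κ_ne_zero q e e)), zero_smul]

/-- Generators of the label group. -/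
def gens : Fin 4 → E := ![((1, 0), (0, 0)), ((0, 1), (0, 0)), ((0, 0), (1, 0)), ((0, 0), (0, 1))]

theorem add_induction_gens {p : E → Prop} (h0 : p 0) (hadd : ∀ e f, p e → p f → p (e + f))
    (hg : ∀ i, p (gens i)) (e : E) : p e := by
  have he : ∃ s : Finset (Fin 4), e = ∑ i ∈ s, gens i := by revert e; decide +kernel
  obtain ⟨s, rfl⟩ := he
  exact Finset.sum_induction _ p hadd h0 fun i _ => hg i

theorem commute_P_of_gens (q : Par F) {M : Matrix (Fin 4) (Fin 4) F}
    (h : ∀ i, M * P q (gens i) = P q (gens i) * M) (e : E) : M * P q e = P q e * M := by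
  refine add_induction_gens (p := fun e => M * P q e = P q e * M) (by simp [P_zero]) ?_ h e
  intro e f he hf
  have h1 : M * (P q e * P q f) = (P q e * P q f) * M := by
    rw [← mul_assoc, he, mul_assoc, hf, mul_assoc]
  rw [P_mul, Matrix.mul_smul, Matrix.smul_mul] at h1
  exact (smul_right_inj (κ_ne_zero q e f)).1 h1

theorem scalar_of_commute (q : Par F) (h2 : (2 : F) ≠ 0) {M : Matrix (Fin 4) (Fin 4) F}
    (h : ∀ i, M * P q (gens i) = P q (gens i) * M) : ∃ c : F, M = c • 1 := by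
  have hall : ∀ N, M * N = N * M := by
    intro N
    obtain ⟨c, rfl⟩ := (Submodule.mem_span_range_iff_exists_fun F).1
      ((span_P q h2).ge (Submodule.mem_top : N ∈ ⊤))
    simp only [Finset.mul_sum, Finset.sum_mul, Matrix.mul_smul, Matrix.smul_mul, commute_P_of_gens q h]
  obtain ⟨c, hc⟩ := Matrix.mem_range_scalar_of_commute_single (M := M) fun i j _ => (hall _).symm
  exact ⟨c, by rw [← hc, Matrix.scalar_apply, Matrix.smul_one_eq_diagonal]⟩

/-- The twirl. -/
theorem twirl (q : Par F) (h2 : (2 : F) ≠ 0) (M : Matrix (Fin 4) (Fin 4) F) :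
    ∑ e, κ q e e • (P q e * M * P q e) = (4 * M.trace) • 1 := by
  set S := ∑ e, κ q e e • (P q e * M * P q e) with hS
  have hconj : ∀ g : E, κ q g g • (P q g * S * P q g) = S := by
    intro g
    rw [hS, Finset.mul_sum, Finset.sum_mul, Finset.smul_sum]
    refine Fintype.sum_equiv (Equiv.addLeft g) _ _ fun e => ?_
    have hk : κ q g g * κ q e e * (κ q g e * κ q e g) = κ q (g + e) (g + e) := by
      have h1 : (P q g * P q e) * (P q e * P q g) = (κ q e e * κ q g g) • (1 : Matrix (Fin 4) (Fin 4) F) := by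
        rw [mul_assoc, ← mul_assoc (P q e), P_sq, Matrix.smul_mul, one_mul, Matrix.mul_smul, P_sq, smul_smul]
      rw [P_mul, P_mul, add_comm e g, Matrix.smul_mul, Matrix.mul_smul, P_sq, smul_smul, smul_smul] at h1
      have h3 := congrArg (fun A : Matrix (Fin 4) (Fin 4) F => A 0 0) h1
      simp at h3
      have h4 := κ_sq q (g + e) (g + e)
      have h5 := κ_sq q g e
      have h6 := κ_sq q e g
      linear_combination (-(κ q g e * κ q e g)) * h3 +
        κ q (g + e) (g + e) * ((κ q e g * κ q e g) * h5 + h6)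
    simp only [Equiv.coe_addLeft, Matrix.mul_smul, Matrix.smul_mul, smul_smul]
    rw [show P q g * (P q e * M * P q e) * P q g = (P q g * P q e) * M * (P q e * P q g) by
      simp only [mul_assoc], P_mul, P_mul, add_comm e g]
    simp only [Matrix.mul_smul, Matrix.smul_mul, smul_smul]
    congr 1
    rw [← hk]; ring
  obtain ⟨c, hc⟩ := scalar_of_commute q h2 (M := S) fun i => by
    set g := gens i
    calc S * P q g = (κ q g g • (P q g * S * P q g)) * P q g := by rw [hconj]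
      _ = (κ q g g * κ q g g) • (P q g * S) := by
        rw [Matrix.smul_mul, mul_assoc, P_sq, Matrix.mul_smul, mul_one, smul_smul]
      _ = P q g * S := by rw [κ_sq, one_smul]
  have htr : S.trace = 16 * M.trace := by
    rw [hS, Matrix.trace_sum, Finset.sum_congr rfl (g := fun _ => M.trace) fun e _ => ?_]
    · simp
    · rw [Matrix.trace_smul, Matrix.trace_mul_comm, ← mul_assoc, P_sq, Matrix.smul_mul, one_mul,
        Matrix.trace_smul, smul_eq_mul, smul_eq_mul, ← mul_assoc, κ_sq, one_mul]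
  rw [hc, Matrix.trace_smul, Matrix.trace_one, Fintype.card_fin, smul_eq_mul] at htr
  rw [hc]
  congr 1
  have h4 : (4 : F) ≠ 0 := by rw [show (4 : F) = 2 * 2 by norm_num]; exact mul_ne_zero h2 h2
  refine mul_right_cancel₀ h4 ?_
  push_cast at htr
  linear_combination htr

/-- The unit of a Pauli matrix. -/
def U (q : Par F) (e : E) : GL (Fin 4) F :=
  ⟨P q e, κ q e e • P q e, by rw [Matrix.mul_smul, P_sq, smul_smul, κ_sq, one_smul],
    by rw [Matrix.smul_mul, P_sq, smul_smul, κ_sq, one_smul]⟩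

@[simp] theorem coe_U (q : Par F) (e : E) : (U q e : Matrix (Fin 4) (Fin 4) F) = P q e := rfl

/-- The group of the sixteen matrices times the scalars of order dividing `2 k`. -/
def R0 (q : Par F) (k : ℕ) : Subgroup (GL (Fin 4) F) where
  carrier := {g | ∃ e, ∃ c : Fˣ, c ^ (2 * k) = 1 ∧ (g : Matrix (Fin 4) (Fin 4) F) = (c : F) • P q e}
  one_mem' := ⟨0, 1, one_pow _, by simp [P_zero]⟩
  mul_mem' := by
    rintro g h ⟨e, c, hc, hg⟩ ⟨f, d, hd, hh⟩
    refine ⟨e + f, c * d * Units.mk0 (κ q e f) (κ_ne_zero q e f), ?_, ?_⟩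
    · have hk : (Units.mk0 (κ q e f) (κ_ne_zero q e f)) ^ 2 = 1 :=
        Units.ext (by simp [pow_two, κ_sq])
      rw [mul_pow, mul_pow, hc, hd, pow_mul, hk, one_pow, one_mul, one_mul]
    · rw [Units.val_mul, hg, hh, Matrix.smul_mul, Matrix.mul_smul, P_mul, smul_smul, smul_smul,
        Units.val_mul, Units.val_mul, Units.val_mk0, mul_assoc]
  inv_mem' := by
    rintro g ⟨e, c, hc, hg⟩
    refine ⟨e, c⁻¹ * Units.mk0 (κ q e e) (κ_ne_zero q e e), ?_, ?_⟩
    · have hk : (Units.mk0 (κ q e e) (κ_ne_zero q e e)) ^ 2 = 1 :=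
        Units.ext (by simp [pow_two, κ_sq])
      rw [mul_pow, inv_pow, hc, pow_mul _ 2, hk, one_pow, inv_one, one_mul]
    · refine Units.inv_eq_of_mul_eq_one_right ?_
      rw [hg, Matrix.smul_mul, Matrix.mul_smul, P_sq, smul_smul, smul_smul, Units.val_mul,
        Units.val_mk0]
      simp [κ_sq]

theorem U_mem_R0 (q : Par F) (k : ℕ) (e : E) : U q e ∈ R0 q k := ⟨e, 1, one_pow _, by simp⟩

/-- `y` maps every Pauli matrix to a multiple of one. -/
def Acts (q : Par F) (k : ℕ) (y : GL (Fin 4) F) (e : E) : Prop :=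
  ∃ f, ∃ c : Fˣ, c ^ (2 * k) = 1 ∧
    (y : Matrix (Fin 4) (Fin 4) F) * P q e = (c : F) • (P q f * (y : Matrix (Fin 4) (Fin 4) F))

theorem acts_add (q : Par F) (k : ℕ) {y : GL (Fin 4) F} :
    ∀ e f : E, Acts q k y e → Acts q k y f → Acts q k y (e + f) := by
  rintro e f ⟨e', c, hc, he⟩ ⟨f', d, hd, hf⟩
  have hk : ∀ a b, (Units.mk0 (κ q a b) (κ_ne_zero q a b)) ^ 2 = 1 := fun a b =>
    Units.ext (by simp [pow_two, κ_sq])
  refine ⟨e' + f', c * d * Units.mk0 (κ q e f) (κ_ne_zero q e f) *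
    Units.mk0 (κ q e' f') (κ_ne_zero q e' f'), ?_, ?_⟩
  · rw [mul_pow, mul_pow, mul_pow, hc, hd, pow_mul, hk, one_pow, pow_mul, hk, one_pow, one_mul, one_mul, one_mul]
  · have h1 : (y : Matrix (Fin 4) (Fin 4) F) * (P q e * P q f) =
        ((c : F) * d) • (P q e' * P q f' * (y : Matrix (Fin 4) (Fin 4) F)) := by
      rw [← mul_assoc, he, Matrix.smul_mul, mul_assoc, hf, Matrix.mul_smul, smul_smul, mul_assoc]
    rw [P_mul, P_mul, Matrix.mul_smul, Matrix.smul_mul, smul_smul] at h1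
    have h2 := congrArg (κ q e f • ·) h1
    simp only [smul_smul, κ_sq, one_smul] at h2
    rw [h2]
    congr 1
    simp only [Units.val_mul, Units.val_mk0]
    ring

theorem acts_zero (q : Par F) (k : ℕ) (y : GL (Fin 4) F) : Acts q k y 0 :=
  ⟨0, 1, one_pow _, by simp [P_zero]⟩

theorem acts_of_gens (q : Par F) (k : ℕ) {y : GL (Fin 4) F} (h : ∀ i, Acts q k y (gens i)) (e : E) :
    Acts q k y e :=
  add_induction_gens (p := Acts q k y) (acts_zero q k y) (acts_add q k) h e

variable [Finite F]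

theorem mem_normalizer_iff_acts (q : Par F) (k : ℕ) (y : GL (Fin 4) F) :
    y ∈ Geo.subgroupNormalizer (R0 q k) ↔ ∀ i, Acts q k y (gens i) := by
  constructor
  · intro hy i
    obtain ⟨f, c, hc, hf⟩ := (Subgroup.mem_normalizer_iff.1 hy _).1 (U_mem_R0 q k (gens i))
    refine ⟨f, c, hc, ?_⟩
    rw [← Matrix.smul_mul, ← hf, Units.val_mul, Units.val_mul, mul_assoc, ← Units.val_mul y⁻¹ y,
      inv_mul_cancel, Units.val_one, mul_one, coe_U]
  · intro h
    have hall := acts_of_gens q k h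
    have hfwd : ∀ g ∈ R0 q k, y * g * y⁻¹ ∈ R0 q k := by
      rintro g ⟨e, c, hc, hg⟩
      obtain ⟨f, d, hd, hf⟩ := hall e
      refine ⟨f, c * d, by rw [mul_pow, hc, hd, one_mul], ?_⟩
      rw [Units.val_mul, Units.val_mul, hg, Matrix.mul_smul, hf, smul_smul, Matrix.smul_mul, mul_assoc,
        Units.mul_inv, mul_one, Units.val_mul]
    refine Subgroup.mem_normalizer_iff.2 fun g => ⟨hfwd g, fun hg => ?_⟩
    have := Fintype.ofFinite F
    have hinj : Function.Injective fun g : R0 q k => (⟨y * g * y⁻¹, hfwd g g.2⟩ : R0 q k) :=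
      fun a b hab => Subtype.ext (by simpa using congrArg Subtype.val hab)
    obtain ⟨g', hg'⟩ := Finite.injective_iff_surjective.1 hinj ⟨_, hg⟩
    have : (g' : GL (Fin 4) F) = g := by simpa using congrArg Subtype.val hg'
    exact this ▸ g'.2

end Cfsg.Agent.PauliFour
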