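import Cfsg.Agent.Lib.PrimeFix.PauliFour
import Cfsg.Agent.Lib.PGroup.SymplecticType
import Cfsg.Agent.Lib.PGroup.Extraspecial

/-!
A group of symplectic type of exponent four and order `16 m` in dimension four, acting absolutely
irreducibly, is conjugate to the standard Pauli group.
-/

set_option autoImplicit false

namespace Cfsg.Agent.PauliFour

open Matrix
open scoped MatrixGroups

/-- Exponent four and every characteristic abelian subgroup cyclic: commutators and squares are central. -/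
theorem central_of_exponent_four {G : Type*} [Group G] [Finite G] (hG : IsPGroup 2 G)
    (hsymp : ∀ A : Subgroup G, A.Characteristic → IsMulCommutative A → IsCyclic A)
    (h4 : ∀ x : G, x ^ 4 = 1) :
    (∀ a b : G, a * b * a⁻¹ * b⁻¹ ∈ Subgroup.center G) ∧ ∀ a : G, a ^ 2 ∈ Subgroup.center G := by
  haveI : Fact (Nat.Prime 2) := ⟨Nat.prime_two⟩
  obtain ⟨E, R, hER, hsup, hE, hR⟩ := PGroup.exists_symplecticType hG hsymp
  have hcyc : IsCyclic R := by
    rcases hR with h | ⟨-, hcard, h⟩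
    · exact h
    · exfalso
      have hord : ∀ x : R, orderOf x ∣ 4 := fun x => orderOf_dvd_of_pow_eq_one (Subtype.ext (h4 x.1))
      rcases h with ⟨n, ⟨φ⟩⟩ | ⟨n, ⟨φ⟩⟩ | ⟨n, hn, -, x, -, hx, -⟩
      · have h1 := hord (φ.symm (DihedralGroup.r 1))
        rw [MulEquiv.orderOf_eq, DihedralGroup.orderOf_r_one] at h1
        rw [Nat.card_congr φ.toEquiv, DihedralGroup.nat_card] at hcard
        have := Nat.le_of_dvd (by norm_num) h1
        omega
      · rcases Nat.eq_zero_or_pos n with rfl | hn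
        · have hfin : Finite (QuaternionGroup 0) := Finite.of_equiv R φ.toEquiv
          have h1 := hord (φ.symm (QuaternionGroup.a 1))
          rw [MulEquiv.orderOf_eq] at h1
          have h2 : orderOf (QuaternionGroup.a (n := 0) 1) = 0 := by simp
          rw [h2] at h1
          norm_num at h1
        · haveI : NeZero n := ⟨by omega⟩
          have h1 := hord (φ.symm (QuaternionGroup.a 1))
          rw [MulEquiv.orderOf_eq, QuaternionGroup.orderOf_a_one] at h1
          rw [Nat.card_congr φ.toEquiv, Nat.card_eq_fintype_card, QuaternionGroup.card] at hcard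
          have := Nat.le_of_dvd (by norm_num) h1
          omega
      · have h1 := hord x
        rw [hx] at h1
        have := Nat.le_of_dvd (by norm_num) h1
        have : 2 ^ 3 ≤ 2 ^ n := Nat.pow_le_pow_right (by norm_num) hn
        omega
  obtain ⟨r0, hr0⟩ := hcyc.exists_generator
  have hgen : ∀ g ∈ R, ∀ h ∈ R, g * h = h * g := by
    intro g hg h hh
    obtain ⟨i, hi⟩ := Subgroup.mem_zpowers_iff.1 (hr0 ⟨g, hg⟩)
    obtain ⟨j, hj⟩ := Subgroup.mem_zpowers_iff.1 (hr0 ⟨h, hh⟩)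
    rw [show g = ((⟨g, hg⟩ : R) : G) from rfl, show h = ((⟨h, hh⟩ : R) : G) from rfl, ← hi, ← hj,
      ← Subgroup.coe_mul, ← Subgroup.coe_mul, ← _root_.zpow_add, ← _root_.zpow_add, add_comm]
  have hcen : ∀ z : G, (∀ e ∈ E, z * e = e * z) → (∀ r ∈ R, z * r = r * z) → z ∈ Subgroup.center G := by
    intro z hzE hzR
    rw [Subgroup.mem_center_iff]
    intro g
    have hle : E ⊔ R ≤ Subgroup.centralizer {z} := sup_le
      (fun e he => Subgroup.mem_centralizer_singleton_iff.2 (hzE e he).symm)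
      (fun r hr => Subgroup.mem_centralizer_singleton_iff.2 (hzR r hr).symm)
    rw [hsup] at hle
    exact Subgroup.mem_centralizer_singleton_iff.1 (hle (Subgroup.mem_top g))
  have hRZ : R ≤ Subgroup.center G := fun r hr =>
    hcen r (fun e he => (hER e he r hr).symm) (hgen r hr)
  have hZE : ∀ z : E, z ∈ Subgroup.center E → (z : G) ∈ Subgroup.center G := fun z hz =>
    hcen z (fun e he => (congrArg Subtype.val (Subgroup.mem_center_iff.1 hz ⟨e, he⟩)).symm)
      (fun r hr => hER z z.2 r hr)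
  have hdec : ∀ g : G, ∃ e ∈ E, ∃ z ∈ Subgroup.center G, e * z = g := by
    intro g
    have hg : g ∈ E ⊔ Subgroup.center G := by
      have hle : E ⊔ R ≤ E ⊔ Subgroup.center G := sup_le_sup_left hRZ E
      rw [hsup] at hle
      exact hle (Subgroup.mem_top g)
    exact Subgroup.mem_sup_of_normal_right.1 hg
  constructor
  · intro a b
    obtain ⟨e, he, z, hz, rfl⟩ := hdec a
    obtain ⟨f, hf, w, hw, rfl⟩ := hdec b
    have hzc := Subgroup.mem_center_iff.1 hz
    have hwc := Subgroup.mem_center_iff.1 hw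
    have heq : e * z * (f * w) * (e * z)⁻¹ * (f * w)⁻¹ = e * f * e⁻¹ * f⁻¹ := by
      have h1 : e * z * (f * w) = e * f * (z * w) := by
        rw [mul_assoc, ← mul_assoc z, ← hzc f, mul_assoc f, ← mul_assoc]
      rw [h1, _root_.mul_inv_rev, _root_.mul_inv_rev]
      have h2 : z * w * (z⁻¹ * e⁻¹) = e⁻¹ * w := by
        rw [hzc w |>.symm, mul_assoc w, mul_inv_cancel_left, hwc e⁻¹]
      calc e * f * (z * w) * (z⁻¹ * e⁻¹) * (w⁻¹ * f⁻¹)
          = e * f * (z * w * (z⁻¹ * e⁻¹)) * (w⁻¹ * f⁻¹) := by simp only [mul_assoc]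
        _ = e * f * e⁻¹ * f⁻¹ := by rw [h2]; group
    rw [heq]
    rcases hE with rfl | hE
    · rw [Subgroup.mem_bot.1 he, Subgroup.mem_bot.1 hf]; simp
    · have := hZE _ (PGroup.special_commutator_mem_center hE.1 ⟨e, he⟩ ⟨f, hf⟩)
      simpa [commutatorElement_def] using this
  · intro a
    obtain ⟨e, he, z, hz, rfl⟩ := hdec a
    have hzc := Subgroup.mem_center_iff.1 hz
    rw [Commute.mul_pow (hzc e)]
    refine Subgroup.mul_mem _ ?_ (Subgroup.pow_mem _ hz 2)
    rcases hE with rfl | hE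
    · rw [Subgroup.mem_bot.1 he]; simp
    · have := hZE _ (PGroup.special_pow_mem_center hE.1 ⟨e, he⟩)
      simpa using this

variable {F : Type*} [Field F] [Finite F]

/-- What is used of a group of symplectic type with `m` scalars. -/
structure RData (R : Subgroup (GL (Fin 4) F)) (m : ℕ) : Prop where
  m_cases : m = 2 ∨ m = 4
  two : (2 : F) ≠ 0
  comm : ∀ x ∈ R, ∀ y ∈ R, (x : Matrix (Fin 4) (Fin 4) F) * y = y * x ∨
    (x : Matrix (Fin 4) (Fin 4) F) * y = -((y : Matrix (Fin 4) (Fin 4) F) * x)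
  sq : ∀ x ∈ R, (x : Matrix (Fin 4) (Fin 4) F) * x = 1 ∨ (x : Matrix (Fin 4) (Fin 4) F) * x = -1
  abs : ∀ M : Matrix (Fin 4) (Fin 4) F, (∀ x ∈ R, M * x = (x : Matrix (Fin 4) (Fin 4) F) * M) →
    ∃ c : F, M = c • 1
  scal : ∀ c : F, (∃ x ∈ R, (x : Matrix (Fin 4) (Fin 4) F) = c • 1) ↔ c ^ m = 1
  card : Nat.card R = 16 * m
  cardZ : Nat.card (Subgroup.center R) = m

/-- Construction of the data from the definitions. -/
theorem rdata_of' {R : Subgroup (GL (Fin 4) F)} {m : ℕ} (hm : m = 2 ∨ m = 4) (h2 : (2 : F) ≠ 0)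
    (hG : IsPGroup 2 R) (hsymp : ∀ A : Subgroup R, A.Characteristic → IsMulCommutative A → IsCyclic A)
    (hexp : Monoid.exponent R = 4)
    (habs : ∀ M : Matrix (Fin 4) (Fin 4) F, (∀ s ∈ Geo.matrixSet R, M * s = s * M) → ∃ c : F, M = c • 1)
    (hcard : Nat.card R = 16 * m) (hZ : Nat.card (Subgroup.center R) = m) : RData R m := by
  classical
  have h4 : ∀ x : R, x ^ 4 = 1 := fun x => by
    have := Monoid.pow_exponent_eq_one x
    rwa [hexp] at this
  obtain ⟨hc, hs⟩ := central_of_exponent_four hG hsymp h4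
  have habs' : ∀ M : Matrix (Fin 4) (Fin 4) F, (∀ x ∈ R, M * x = (x : Matrix (Fin 4) (Fin 4) F) * M) →
      ∃ c : F, M = c • 1 := by
    intro M hM
    refine habs M ?_
    rintro _ ⟨x, hx, rfl⟩
    exact hM x hx
  have hscalar : ∀ z : R, z ∈ Subgroup.center R →
      ∃ c : F, ((z : GL (Fin 4) F) : Matrix (Fin 4) (Fin 4) F) = c • 1 := by
    intro z hz
    refine habs' _ fun x hx => ?_
    have := congrArg (fun w : R => ((w : GL (Fin 4) F) : Matrix (Fin 4) (Fin 4) F))
      (Subgroup.mem_center_iff.1 hz ⟨x, hx⟩)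
    simpa using this.symm
  have hsq : ∀ x ∈ R, (x : Matrix (Fin 4) (Fin 4) F) * x = 1 ∨ (x : Matrix (Fin 4) (Fin 4) F) * x = -1 := by
    intro x hx
    obtain ⟨c, hcx⟩ := hscalar _ (hs ⟨x, hx⟩)
    have h1 : (x : Matrix (Fin 4) (Fin 4) F) * x = c • 1 := by simpa [pow_two] using hcx
    have h2' := congrArg (fun w : R => ((w : GL (Fin 4) F) : Matrix (Fin 4) (Fin 4) F)) (h4 ⟨x, hx⟩)
    have h3 : (x : Matrix (Fin 4) (Fin 4) F) ^ 4 = 1 := by simpa using h2'
    simp only [pow_succ, pow_zero, one_mul] at h3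
    rw [mul_assoc _ _ (x : Matrix (Fin 4) (Fin 4) F), h1, Matrix.smul_mul, one_mul, smul_smul] at h3
    have hc2 : c ^ 2 = 1 := by
      simpa [pow_two] using congrArg (fun A : Matrix (Fin 4) (Fin 4) F => A 0 0) h3
    rcases sq_eq_one_iff.1 hc2 with h | h
    · left; rw [h1, h, one_smul]
    · right; rw [h1, h, neg_one_smul]
  have hscal : ∀ c : F, (∃ x ∈ R, (x : Matrix (Fin 4) (Fin 4) F) = c • 1) → c ^ m = 1 := by
    rintro c ⟨x, hx, hxc⟩
    have hxz : (⟨x, hx⟩ : R) ∈ Subgroup.center R := Subgroup.mem_center_iff.2 fun w =>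
      Subtype.ext (Units.ext (by simp [hxc]))
    have h1 : (⟨⟨x, hx⟩, hxz⟩ : Subgroup.center R) ^ m = 1 := hZ ▸ pow_card_eq_one'
    have h2' := congrArg (fun w : Subgroup.center R => ((w.1 : GL (Fin 4) F) : Matrix (Fin 4) (Fin 4) F)) h1
    simp only [SubmonoidClass.coe_pow, Units.val_pow_eq_pow_val, hxc, smul_pow, one_pow,
      OneMemClass.coe_one, Units.val_one] at h2'
    simpa using congrArg (fun A : Matrix (Fin 4) (Fin 4) F => A 0 0) h2'
  refine ⟨hm, h2, fun x hx y hy => ?_, hsq, habs', fun c => ⟨hscal c, fun hcm => ?_⟩, hcard, hZ⟩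
  · obtain ⟨c, hcc⟩ := hscalar _ (hc ⟨x, hx⟩ ⟨y, hy⟩)
    have hxy : (x : Matrix (Fin 4) (Fin 4) F) * y = c • ((y : Matrix (Fin 4) (Fin 4) F) * x) := by
      have h1 : ((x * y * x⁻¹ * y⁻¹ : GL (Fin 4) F) : Matrix (Fin 4) (Fin 4) F) * ((y * x : GL (Fin 4) F)) =
          ((x * y : GL (Fin 4) F) : Matrix (Fin 4) (Fin 4) F) := by
        rw [← Units.val_mul]; congr 1; group
      have hcc' : ((x * y * x⁻¹ * y⁻¹ : GL (Fin 4) F) : Matrix (Fin 4) (Fin 4) F) = c • 1 := by
        simpa using hcc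
      rw [hcc', Units.val_mul, Units.val_mul, Matrix.smul_mul, one_mul] at h1
      exact h1.symm
    have hxx : ∃ d : F, d ≠ 0 ∧ (x : Matrix (Fin 4) (Fin 4) F) * x = d • 1 := by
      rcases hsq x hx with h | h
      · exact ⟨1, one_ne_zero, by rw [h, one_smul]⟩
      · exact ⟨-1, by simp, by rw [h, neg_one_smul]⟩
    obtain ⟨d, hd, hdx⟩ := hxx
    have h1 : (x : Matrix (Fin 4) (Fin 4) F) * (x * y) = (c * c) • ((y : Matrix (Fin 4) (Fin 4) F) * (x * x)) := by
      rw [hxy, Matrix.mul_smul, ← mul_assoc, hxy, Matrix.smul_mul, smul_smul, mul_assoc]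
    rw [← mul_assoc, hdx, Matrix.smul_mul, one_mul, Matrix.mul_smul, mul_one, smul_smul] at h1
    have hc1 : c * c = 1 := by
      have := smul_left_injective F (Units.ne_zero y) h1
      exact mul_right_cancel₀ hd (by linear_combination -this)
    rcases mul_self_eq_one_iff.1 hc1 with h | h
    · left; rw [hxy, h, one_smul]
    · right; rw [hxy, h, neg_one_smul]
  · -- all `m`-th roots of unity occur
    choose f hf using fun z : Subgroup.center R => hscalar z.1 z.2
    have hinj : Function.Injective f := fun z w h =>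
      Subtype.ext (Subtype.ext (Units.ext (by rw [hf z, hf w, h])))
    haveI : Fintype (Subgroup.center R) := Fintype.ofFinite _
    have hsub : Finset.univ.image f ⊆ (Polynomial.nthRoots m (1 : F)).toFinset := by
      intro d hd
      obtain ⟨z, -, rfl⟩ := Finset.mem_image.1 hd
      rw [Multiset.mem_toFinset, Polynomial.mem_nthRoots (by omega)]
      exact hscal _ ⟨_, z.1.2, hf z⟩
    have hle : (Polynomial.nthRoots m (1 : F)).toFinset.card ≤ (Finset.univ.image f).card := by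
      rw [Finset.card_image_of_injective _ hinj, Finset.card_univ, ← Nat.card_eq_fintype_card, hZ]
      exact (Multiset.toFinset_card_le _).trans (Polynomial.card_nthRoots m 1)
    have hmem : c ∈ Finset.univ.image f := by
      rw [Finset.eq_of_subset_of_card_le hsub hle, Multiset.mem_toFinset, Polynomial.mem_nthRoots (by omega)]
      exact hcm
    obtain ⟨z, -, rfl⟩ := Finset.mem_image.1 hmem
    exact ⟨_, z.1.2, hf z⟩

/-- Construction of the data from absolute irreducibility. -/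
theorem rdata_of {R : Subgroup (GL (Fin 4) F)} {m : ℕ} (hm : m = 2 ∨ m = 4) (h2 : (2 : F) ≠ 0)
    (hG : IsPGroup 2 R) (hsymp : ∀ A : Subgroup R, A.Characteristic → IsMulCommutative A → IsCyclic A)
    (hexp : Monoid.exponent R = 4) (habs : Geo.ActsAbsolutelyIrreducibly (Geo.matrixSet R))
    (hcard : Nat.card R = 16 * m) (hZ : Nat.card (Subgroup.center R) = m) : RData R m :=
  rdata_of' hm h2 hG hsymp hexp habs.2 hcard hZ

section Pairs

variable {R : Subgroup (GL (Fin 4) F)} {m : ℕ}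

local notation "M4" => Matrix (Fin 4) (Fin 4) F

/-- Commuting matrices. -/
def Com (x y : GL (Fin 4) F) : Prop := (x : M4) * y = y * x
/-- Anticommuting matrices. -/
def Ant (x y : GL (Fin 4) F) : Prop := (x : M4) * y = -((y : M4) * x)

theorem Com.symm {x y : GL (Fin 4) F} (h : Com x y) : Com y x := Eq.symm h
theorem Ant.symm {x y : GL (Fin 4) F} (h : Ant x y) : Ant y x := by
  unfold Ant at *; rw [h, neg_neg]
theorem Com.refl (x : GL (Fin 4) F) : Com x x := rfl

theorem Com.mul_com {u v x : GL (Fin 4) F} (hu : Com u x) (hv : Com v x) : Com (u * v) x := by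
  unfold Com at *; rw [Units.val_mul, mul_assoc, hv, ← mul_assoc, hu, mul_assoc]
theorem Com.mul_ant {u v x : GL (Fin 4) F} (hu : Com u x) (hv : Ant v x) : Ant (u * v) x := by
  unfold Com Ant at *; rw [Units.val_mul, mul_assoc, hv, mul_neg, ← mul_assoc, hu, mul_assoc]
theorem Ant.mul_com {u v x : GL (Fin 4) F} (hu : Ant u x) (hv : Com v x) : Ant (u * v) x := by
  unfold Com Ant at *; rw [Units.val_mul, mul_assoc, hv, ← mul_assoc, hu, neg_mul, mul_assoc]
theorem Ant.mul_ant {u v x : GL (Fin 4) F} (hu : Ant u x) (hv : Ant v x) : Com (u * v) x := by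
  unfold Com Ant at *; rw [Units.val_mul, mul_assoc, hv, mul_neg, ← mul_assoc, hu, neg_mul, neg_neg, mul_assoc]

theorem Ant.nonscalar (h2 : (2 : F) ≠ 0) {u x : GL (Fin 4) F} (h : Ant u x) :
    ¬ ∃ c : F, (u : M4) = c • 1 := by
  rintro ⟨c, hc⟩
  have h1 : Com u x := by unfold Com; rw [hc]; simp
  unfold Com at h1; unfold Ant at h
  rw [h1, eq_neg_iff_add_eq_zero, ← two_smul F, smul_eq_zero, ← Units.val_mul] at h
  exact h.elim h2 (Units.ne_zero _)

theorem RData.exists_pairs (h : RData R m) : ∃ a ∈ R, ∃ b ∈ R, ∃ c ∈ R, ∃ d ∈ R,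
    Ant a b ∧ Ant c d ∧ Com c a ∧ Com c b ∧ Com d a ∧ Com d b := by
  classical
  obtain ⟨a, ha, hans⟩ : ∃ a ∈ R, ¬ ∃ c : F, (a : M4) = c • 1 := by
    by_contra hcon
    push Not at hcon
    obtain ⟨c, hc⟩ := h.abs (Matrix.single 0 1 1) fun x hx => by
      obtain ⟨d, hd⟩ := hcon x hx; rw [hd]; simp
    have := congrFun (congrFun hc 0) 1
    simp [Matrix.single] at this
  have hanti : ∀ x ∈ R, (¬ ∃ c : F, (x : M4) = c • 1) → ∃ y ∈ R, Ant y x := by
    intro x hx hns
    by_contra hcon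
    push Not at hcon
    exact hns (h.abs x fun y hy => ((h.comm y hy x hx).resolve_right (hcon y hy)).symm)
  obtain ⟨b, hb, hba⟩ := hanti a ha hans
  have hab := hba.symm
  have hadj : ∀ y ∈ R, ∃ u ∈ ({1, a, b, a * b} : Set (GL (Fin 4) F)), u ∈ R ∧
      Com (u * y) a ∧ Com (u * y) b := by
    intro y hy
    have hcy := h.comm y hy
    rcases hcy a ha with h1 | h1 <;> rcases hcy b hb with h3 | h3
    · exact ⟨1, by simp, R.one_mem, by rw [one_mul]; exact h1, by rw [one_mul]; exact h3⟩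
    · exact ⟨a, by simp, ha, (Com.refl a).mul_com h1, hab.mul_ant h3⟩
    · exact ⟨b, by simp, hb, hba.mul_ant h1, (Com.refl b).mul_com h3⟩
    · exact ⟨a * b, by simp, R.mul_mem ha hb, ((Com.refl a).mul_ant hba).mul_ant h1,
        (hab.mul_com (Com.refl b)).mul_ant h3⟩
  obtain ⟨c, hc, hcns, hca, hcb⟩ : ∃ c ∈ R, (¬ ∃ z : F, (c : M4) = z • 1) ∧ Com c a ∧ Com c b := by
    by_contra hcon
    push Not at hcon
    let f : Fin 4 × Subgroup.center R → R := fun z =>
      (![(1 : R), ⟨a, ha⟩, ⟨b, hb⟩, ⟨a, ha⟩ * ⟨b, hb⟩] z.1)⁻¹ * z.2.1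
    have hsurj : Function.Surjective f := by
      rintro ⟨y, hy⟩
      obtain ⟨u, hu, huR, h1, h3⟩ := hadj y hy
      obtain ⟨z, hz⟩ : ∃ z : F, ((u * y : GL (Fin 4) F) : M4) = z • 1 := by
        by_contra hne
        push Not at hne
        obtain ⟨z, hz⟩ : ∃ z : F, ((u * y : GL (Fin 4) F) : M4) = z • 1 := by
          by_contra hne'
          exact hcon _ (R.mul_mem huR hy) (fun z hz => hne' ⟨z, hz⟩) h1 h3
        exact hne z hz
      have hmem : (⟨u * y, R.mul_mem huR hy⟩ : R) ∈ Subgroup.center R :=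
        Subgroup.mem_center_iff.2 fun w => Subtype.ext (Units.ext (by
          show ((w : GL (Fin 4) F) : M4) * ((u * y : GL (Fin 4) F) : M4) = ((u * y : GL (Fin 4) F) : M4) * ((w : GL (Fin 4) F) : M4)
          rw [hz]; simp))
      rcases hu with rfl | rfl | rfl | rfl
      · exact ⟨(0, ⟨_, hmem⟩), Subtype.ext (by simp [f])⟩
      · exact ⟨(1, ⟨_, hmem⟩), Subtype.ext (by simp [f])⟩
      · exact ⟨(2, ⟨_, hmem⟩), Subtype.ext (by simp [f])⟩
      · exact ⟨(3, ⟨_, hmem⟩), Subtype.ext (by simp [f, mul_assoc])⟩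
    have hle := Nat.card_le_card_of_surjective f hsurj
    rw [Nat.card_prod, h.cardZ, h.card, Nat.card_fin] at hle
    rcases h.m_cases with h' | h' <;> omega
  obtain ⟨d0, hd0, hd0c⟩ := hanti c hc hcns
  obtain ⟨u, hu, huR, hd1, hd2⟩ := hadj d0 hd0
  refine ⟨a, ha, b, hb, c, hc, u * d0, R.mul_mem huR hd0, hab, ?_, hca, hcb, hd1, hd2⟩
  refine (Com.mul_ant ?_ hd0c).symm
  rcases hu with rfl | rfl | rfl | rfl
  · exact (show Com (1 : GL (Fin 4) F) c by unfold Com; simp)
  · exact hca.symm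
  · exact hcb.symm
  · exact hca.symm.mul_com hcb.symm

/-- The relations of a frame with parameters `q`. -/
structure IsFrame (q : Par F) (X Y B A : GL (Fin 4) F) : Prop where
  xx : (X : M4) * X = q.s • 1
  yy : (Y : M4) * Y = q.s • 1
  bb : (B : M4) * B = 1
  aa : (A : M4) * A = 1
  xy : Ant X Y
  ba : Ant B A
  xb : Com X B
  xa : Com X A
  yb : Com Y B
  ya : Com Y A

theorem sq_mul_ant {u v : GL (Fin 4) F} {s t : F} (hu : (u : M4) * u = s • 1) (hv : (v : M4) * v = t • 1)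
    (h : Ant u v) : ((u * v : GL (Fin 4) F) : M4) * (u * v : GL (Fin 4) F) = (-(s * t)) • 1 := by
  rw [Units.val_mul, show ((u : M4) * v) * (u * v) = u * (v * u) * v by simp only [mul_assoc],
    show (v : M4) * u = -((u : M4) * v) from h.symm, mul_neg, neg_mul,
    show (u : M4) * (u * v) * v = (u * u) * (v * v) by simp only [mul_assoc], hu, hv,
    Matrix.smul_mul, one_mul, smul_smul, neg_smul]

theorem sq_mul_com {u v : GL (Fin 4) F} {s t : F} (hu : (u : M4) * u = s • 1) (hv : (v : M4) * v = t • 1)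
    (h : Com u v) : ((u * v : GL (Fin 4) F) : M4) * (u * v : GL (Fin 4) F) = (s * t) • 1 := by
  rw [Units.val_mul, show ((u : M4) * v) * (u * v) = u * (v * u) * v by simp only [mul_assoc],
    show (v : M4) * u = (u : M4) * v from h.symm,
    show (u : M4) * (u * v) * v = (u * u) * (v * v) by simp only [mul_assoc], hu, hv,
    Matrix.smul_mul, one_mul, smul_smul]

theorem RData.frame_plus (h : RData R 4) {q : Par F} (hq : q.s = 1) :
    ∃ X ∈ R, ∃ Y ∈ R, ∃ B ∈ R, ∃ A ∈ R, IsFrame q X Y B A := by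
  classical
  obtain ⟨a, ha, b, hb, c, hc, d, hd, hab, hcd, hca, hcb, hda, hdb⟩ := h.exists_pairs
  obtain ⟨i, hi⟩ : ∃ i : F, i * i = -1 := by
    by_contra hcon
    push Not at hcon
    have hall : ∀ x : F, x ^ 4 = 1 → x = 1 ∨ x = -1 := fun x hx => by
      have hx' : (x ^ 2) ^ 2 = 1 := by rw [← pow_mul]; exact hx
      rcases sq_eq_one_iff.1 hx' with h' | h'
      · exact sq_eq_one_iff.1 h'
      · exact absurd (by rw [← pow_two]; exact h') (hcon x)
    have hsc : ∀ z : Subgroup.center R, ∃ c : F, ((z.1 : GL (Fin 4) F) : M4) = c • 1 := fun z => by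
      refine h.abs _ fun x hx => ?_
      have := congrArg (fun w : R => ((w : GL (Fin 4) F) : M4)) (Subgroup.mem_center_iff.1 z.2 ⟨x, hx⟩)
      simpa using this.symm
    choose f hf using hsc
    have hinj : Function.Injective f := fun z w h' =>
      Subtype.ext (Subtype.ext (Units.ext (by rw [hf z, hf w, h'])))
    let g : Subgroup.center R → Fin 2 := fun z => if f z = 1 then 0 else 1
    have hg : Function.Injective g := by
      intro z w hzw
      apply hinj
      have h1 := hall _ ((h.scal _).1 ⟨_, z.1.2, hf z⟩)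
      have h3 := hall _ ((h.scal _).1 ⟨_, w.1.2, hf w⟩)
      simp only [g] at hzw
      split_ifs at hzw with hz hw <;> simp_all
    have := Nat.card_le_card_of_injective g hg
    rw [h.cardZ, Nat.card_fin] at this
    omega
  obtain ⟨z, hz, hzi⟩ := (h.scal i).2 (by linear_combination (i * i - 1) * hi)
  have fix : ∀ x ∈ R, ∃ t : GL (Fin 4) F, t ∈ R ∧ (t : M4) * t = 1 ∧ ∃ k : F, (t : M4) = k • (x : M4) := by
    intro x hx
    rcases h.sq x hx with h' | h'
    · exact ⟨x, hx, h', 1, (one_smul _ _).symm⟩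
    · refine ⟨z * x, R.mul_mem hz hx, ?_, i, by simp [hzi]⟩
      rw [Units.val_mul, hzi, Matrix.smul_mul, one_mul, Matrix.smul_mul, Matrix.mul_smul, smul_smul, h', hi]
      simp
  obtain ⟨X, hX, hX2, k1, hk1⟩ := fix a ha
  obtain ⟨Y, hY, hY2, k2, hk2⟩ := fix b hb
  obtain ⟨B, hB, hB2, k3, hk3⟩ := fix c hc
  obtain ⟨A, hA, hA2, k4, hk4⟩ := fix d hd
  unfold Ant at hab hcd
  unfold Com at hca hcb hda hdb
  refine ⟨X, hX, Y, hY, B, hB, A, hA, ⟨by rw [hq, one_smul, hX2], by rw [hq, one_smul, hY2], hB2, hA2,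
    ?_, ?_, ?_, ?_, ?_, ?_⟩⟩ <;> simp only [Ant, Com] <;>
    simp [hk1, hk2, hk3, hk4, Matrix.smul_mul, Matrix.mul_smul, smul_smul, mul_comm, hab, hcd, hca, hcb, hda, hdb]

theorem RData.frame_minus (h : RData R 2) {q : Par F} (hq : q.s = -1)
    (hmin : Geo.IsOfMinusType 2 R) : ∃ X ∈ R, ∃ Y ∈ R, ∃ B ∈ R, ∃ A ∈ R, IsFrame q X Y B A := by
  classical
  obtain ⟨a, ha, b, hb, c, hc, d, hd, hab, hcd, hca, hcb, hda, hdb⟩ := h.exists_pairs
  have hsq : ∀ x ∈ R, ∃ s : F, (s = 1 ∨ s = -1) ∧ (x : M4) * x = s • 1 := fun x hx => by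
    rcases h.sq x hx with h' | h'
    · exact ⟨1, Or.inl rfl, by rw [h', one_smul]⟩
    · exact ⟨-1, Or.inr rfl, by rw [h', neg_one_smul]⟩
  have norm : ∀ u ∈ R, ∀ v ∈ R, Ant u v →
      ((u : M4) * u = (-1 : F) • 1 ∧ (v : M4) * v = (-1 : F) • 1) ∨
      ∃ u' ∈ R, ∃ v' ∈ R, Ant u' v' ∧ (u' : M4) * u' = 1 ∧ (v' : M4) * v' = 1 ∧
        ∀ x, Com x u → Com x v → Com x u' ∧ Com x v' := by
    intro u hu v hv huv
    obtain ⟨s, hs, hsu⟩ := hsq u hu
    obtain ⟨t, ht, htv⟩ := hsq v hv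
    have hcc : ∀ x, Com x u → Com x v → Com x (u * v) := fun x h1 h3 => (h1.symm.mul_com h3.symm).symm
    rcases hs with rfl | rfl <;> rcases ht with rfl | rfl
    · exact Or.inr ⟨u, hu, v, hv, huv, by rwa [one_smul] at hsu, by rwa [one_smul] at htv,
        fun x h1 h3 => ⟨h1, h3⟩⟩
    · refine Or.inr ⟨u, hu, u * v, R.mul_mem hu hv, ((Com.refl u).mul_ant huv.symm).symm,
        by rwa [one_smul] at hsu, ?_, fun x h1 h3 => ⟨h1, hcc x h1 h3⟩⟩
      simpa using sq_mul_ant hsu htv huv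
    · refine Or.inr ⟨u * v, R.mul_mem hu hv, v, hv, huv.mul_com (Com.refl v), ?_,
        by rwa [one_smul] at htv, fun x h1 h3 => ⟨hcc x h1 h3, h3⟩⟩
      simpa using sq_mul_ant hsu htv huv
    · exact Or.inl ⟨hsu, htv⟩
  have noEight : ∀ u ∈ R, ∀ v ∈ R, (u : M4) * u = 1 → (v : M4) * v = 1 → Com u v →
      ∀ x y, Ant u x → Com v x → Ant v y → Com u y → False := by
    intro u hu v hv hu2 hv2 huv x y hux hvx hvy huy
    obtain ⟨z, hz, hz1⟩ := (h.scal (-1)).2 (by norm_num)
    set W : Subgroup R := Subgroup.closure {⟨z, hz⟩, ⟨u, hu⟩, ⟨v, hv⟩}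
    have hgen : ∀ p ∈ ({⟨z, hz⟩, ⟨u, hu⟩, ⟨v, hv⟩} : Set R), ∀ r ∈ ({⟨z, hz⟩, ⟨u, hu⟩, ⟨v, hv⟩} : Set R),
        p * r = r * p := by
      have key : ∀ p r : R, Com (p : GL (Fin 4) F) r → p * r = r * p := fun p r h' =>
        Subtype.ext (Units.ext h')
      have hzc : ∀ r : GL (Fin 4) F, Com z r := fun r => by unfold Com; rw [hz1]; simp
      rintro p (rfl | rfl | rfl) r (rfl | rfl | rfl) <;>
        first
        | rfl
        | exact key _ _ (hzc _)
        | exact key _ _ (hzc _).symm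
        | exact key _ _ huv
        | exact key _ _ huv.symm
    have hWc : IsMulCommutative W := Subgroup.isMulCommutative_closure hgen
    have hWsq : ∀ p ∈ W, p * p = 1 := by
      intro p hp
      induction hp using Subgroup.closure_induction with
      | mem p hp =>
        rcases hp with rfl | rfl | rfl
        · exact Subtype.ext (Units.ext (by simp [hz1]))
        · exact Subtype.ext (Units.ext hu2)
        · exact Subtype.ext (Units.ext hv2)
      | one => simp
      | mul p r hp hr hp2 hr2 =>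
        have hpr : p * r = r * p := by
          have := hWc.is_comm.comm (⟨p, hp⟩ : W) ⟨r, hr⟩
          exact congrArg Subtype.val this
        rw [mul_assoc, ← mul_assoc r, ← hpr, mul_assoc p r, ← mul_assoc, hp2, one_mul, hr2]
      | inv p hp hp2 => rw [← _root_.mul_inv_rev, hp2, inv_one]
    have hlt := hmin W hWc hWsq
    let f : Fin 2 × Fin 2 × Fin 2 → W := fun p =>
      ⟨⟨z, hz⟩ ^ (p.1 : ℕ) * (⟨u, hu⟩ ^ (p.2.1 : ℕ) * ⟨v, hv⟩ ^ (p.2.2 : ℕ)), by
        refine W.mul_mem (W.pow_mem (Subgroup.subset_closure (by simp)) _)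
          (W.mul_mem (W.pow_mem (Subgroup.subset_closure (by simp)) _)
            (W.pow_mem (Subgroup.subset_closure (by simp)) _))⟩
    have hzc : ∀ r : GL (Fin 4) F, z * r = r * z := fun r => Units.ext (by simp [hz1])
    have hant : ∀ p r : GL (Fin 4) F, Ant p r → r * p * r⁻¹ = z * p := by
      intro p r h'
      rw [mul_inv_eq_iff_eq_mul]
      apply Units.ext
      simp only [Units.val_mul, hz1, neg_one_smul, neg_mul, one_mul]
      exact h'.symm
    have hcom : ∀ p r : GL (Fin 4) F, Com p r → r * p * r⁻¹ = p := fun p r h' =>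
      mul_inv_eq_of_eq_mul (Units.ext h'.symm)
    have hz_ne : z ≠ 1 := by
      rintro rfl
      have := congrArg (fun M : M4 => M 0 0) hz1
      simp at this
      exact h.two (by linear_combination this)
    have hf : Function.Injective f := by
      rintro ⟨i, j, k⟩ ⟨i', j', k'⟩ hpp
      have hv' : z ^ (i : ℕ) * (u ^ (j : ℕ) * v ^ (k : ℕ)) = z ^ (i' : ℕ) * (u ^ (j' : ℕ) * v ^ (k' : ℕ)) := by
        have h' := congrArg (fun w : W => ((w : R) : GL (Fin 4) F)) hpp
        simpa [f] using h'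
      have hpow : ∀ a b : Fin 2, z ^ (a : ℕ) = z ^ (b : ℕ) → a = b := by
        intro a b; fin_cases a <;> fin_cases b <;> simp [hz_ne, Ne.symm hz_ne]
      have hconj : ∀ (r : GL (Fin 4) F) (a b c e e' : ℕ), r * u * r⁻¹ = z ^ e * u → r * v * r⁻¹ = z ^ e' * v →
          r * (z ^ a * (u ^ b * v ^ c)) * r⁻¹ = z ^ (e * b + e' * c) * (z ^ a * (u ^ b * v ^ c)) := by
        intro r a b c e e' h1 h3
        have hzr : ∀ n : ℕ, ∀ t : GL (Fin 4) F, Commute (z ^ n) t := fun n t =>
          Commute.pow_left (show Commute z t from hzc t) n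
        rw [← MulAut.conj_apply, map_mul, map_mul, map_pow, map_pow, map_pow]
        simp only [MulAut.conj_apply, h1, h3, hcom _ _ (show Com z r from congrArg Units.val (hzc r)),
          (hzr e u).mul_pow, (hzr e' v).mul_pow, ← pow_mul]
        rw [pow_add]
        calc z ^ a * (z ^ (e * b) * u ^ b * (z ^ (e' * c) * v ^ c))
            = z ^ a * (z ^ (e * b) * (z ^ (e' * c) * (u ^ b * v ^ c))) := by
              rw [mul_assoc (z ^ (e * b)), ← mul_assoc (u ^ b), ← (hzr (e' * c) (u ^ b)).eq, mul_assoc]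
          _ = z ^ (e * b) * z ^ (e' * c) * (z ^ a * (u ^ b * v ^ c)) := by
              rw [← mul_assoc (z ^ (e * b)), ← mul_assoc, (hzr a _).eq, mul_assoc]
      have hj : j = j' := hpow _ _ (mul_right_cancel (b := z ^ (i : ℕ) * (u ^ (j : ℕ) * v ^ (k : ℕ))) (by
        have h1 := hconj x i j k 1 0 (by rw [pow_one]; exact hant u x hux)
          (by rw [pow_zero, one_mul]; exact hcom v x hvx)
        have h3 := hconj x i' j' k' 1 0 (by rw [pow_one]; exact hant u x hux)
          (by rw [pow_zero, one_mul]; exact hcom v x hvx)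
        rw [← hv', h1] at h3
        simpa using h3))
      have hk : k = k' := hpow _ _ (mul_right_cancel (b := z ^ (i : ℕ) * (u ^ (j : ℕ) * v ^ (k : ℕ))) (by
        have h1 := hconj y i j k 0 1 (by rw [pow_zero, one_mul]; exact hcom u y huy)
          (by rw [pow_one]; exact hant v y hvy)
        have h3 := hconj y i' j' k' 0 1 (by rw [pow_zero, one_mul]; exact hcom u y huy)
          (by rw [pow_one]; exact hant v y hvy)
        rw [← hv', h1] at h3
        simpa using h3))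
      subst hj hk
      exact Prod.ext (hpow _ _ (mul_right_cancel hv')) rfl
    have := Nat.card_le_card_of_injective f hf
    simp at this
    norm_num at hlt
    omega
  have one_smul' : ∀ {x : GL (Fin 4) F}, (x : M4) * x = 1 → (x : M4) * x = (1 : F) • 1 := fun h' => by
    rw [one_smul]; exact h'
  rcases norm a ha b hb hab with ⟨hA2, hB2⟩ | ⟨a', ha', b', hb', hab', ha2, hb2, hprop⟩ <;>
    rcases norm c hc d hd hcd with ⟨hC2, hD2⟩ | ⟨c', hc', d', hd', hcd', hc2, hd2, hprop'⟩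
  · exfalso
    refine noEight (a * c) (R.mul_mem ha hc) (b * d) (R.mul_mem hb hd) ?_ ?_ ?_ b a ?_ ?_ ?_ ?_
    · simpa using sq_mul_com hA2 hC2 hca.symm
    · simpa using sq_mul_com hB2 hD2 hdb.symm
    · exact ((hab.mul_com hcb).symm.mul_ant ((hda.symm.mul_ant hcd).symm)).symm
    · exact hab.mul_com hcb
    · exact (Com.refl b).mul_com hdb
    · exact hab.symm.mul_com hda
    · exact (Com.refl a).mul_com hca
  · obtain ⟨h1, h3⟩ := hprop' a hca.symm hda.symm
    obtain ⟨h1', h3'⟩ := hprop' b hcb.symm hdb.symm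
    exact ⟨a, ha, b, hb, c', hc', d', hd', ⟨by rw [hq]; exact hA2, by rw [hq]; exact hB2, hc2, hd2, hab,
      hcd', h1, h3, h1', h3'⟩⟩
  · obtain ⟨h1, h3⟩ := hprop c hca hcb
    obtain ⟨h1', h3'⟩ := hprop d hda hdb
    exact ⟨c, hc, d, hd, a', ha', b', hb', ⟨by rw [hq]; exact hC2, by rw [hq]; exact hD2, ha2, hb2, hcd,
      hab', h1, h3, h1', h3'⟩⟩
  · exfalso
    obtain ⟨h1, h3⟩ := hprop c hca hcb
    obtain ⟨h1', h3'⟩ := hprop d hda hdb
    obtain ⟨p1, p3⟩ := hprop' a' h1.symm h1'.symm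
    obtain ⟨p1', -⟩ := hprop' b' h3.symm h3'.symm
    exact noEight a' ha' c' hc' ha2 hc2 p1 b' d' hab' p1'.symm hcd' p3

/-- A frame is conjugate to the standard one. -/
theorem IsFrame.exists_conj {q : Par F} (h2 : (2 : F) ≠ 0) {X Y B A : GL (Fin 4) F} (h : IsFrame q X Y B A) :
    ∃ g : GL (Fin 4) F, ∀ i, (g : M4) * P q (gens i) = ((![X, Y, B, A] i : GL (Fin 4) F) : M4) * g := by
  obtain ⟨hxx, hyy, hbb, haa, hxy, hba, hxb, hxa, hyb, hya⟩ := h
  have t0 : ∀ u v : GL (Fin 4) F, Ant u v → (u : M4).trace = 0 := by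
    intro u v huv
    have h1 : (u : M4) = -((v : M4) * u * ((v⁻¹ : GL (Fin 4) F) : M4)) := by
      rw [← neg_mul, show -((v : M4) * u) = (u : M4) * v from Eq.symm huv, mul_assoc, Units.mul_inv, mul_one]
    have h3 := congrArg Matrix.trace h1
    rw [Matrix.trace_neg, Matrix.trace_mul_comm, ← mul_assoc, Units.inv_mul, one_mul,
      eq_neg_iff_add_eq_zero, ← two_mul] at h3
    exact (mul_eq_zero.1 h3).resolve_left h2
  set x := (X : M4) with hx
  set y := (Y : M4) with hy
  set B' := (B : M4) with hB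
  set A' := (A : M4) with hA
  have hne : (1 + A') * (y - q.b • x + q.a • 1) ≠ 0 := by
    intro h0
    have h1 := congrArg Matrix.trace h0
    have e1 : (A' * y).trace = 0 := by
      simpa using t0 (A * Y) X ((hxa.symm).mul_ant hxy.symm)
    have e2 : (A' * x).trace = 0 := by
      simpa using t0 (A * X) Y ((hya.symm).mul_ant hxy)
    simp only [add_mul, mul_add, mul_sub, one_mul, Matrix.mul_smul, mul_one, Matrix.trace_add,
      Matrix.trace_sub, Matrix.trace_smul, Matrix.trace_one, smul_eq_mul, e1, e2,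
      t0 Y X hxy.symm, t0 X Y hxy, t0 A B hba.symm, Matrix.trace_zero, hA, hx, hy, Fintype.card_fin] at h1
    push_cast at h1
    simp only [hA, hx, hy] at e1 e2
    exact mul_ne_zero q.ha (mul_ne_zero h2 h2) (by linear_combination h1 - e1 + q.b * e2)
  obtain ⟨w, hw⟩ : ∃ w, ((1 + A') * (y - q.b • x + q.a • 1)) *ᵥ w ≠ 0 := by
    by_contra hcon
    push Not at hcon
    exact hne (Matrix.ext_of_mulVec_single fun k => by rw [hcon, Matrix.zero_mulVec])
  set e := ((1 + A') * (y - q.b • x + q.a • 1)) *ᵥ w with he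
  have hAe : A' *ᵥ e = e := by
    rw [he, Matrix.mulVec_mulVec, ← mul_assoc, mul_add A', mul_one, haa, add_comm A' 1]
  have hxy' : x * y = -(y * x) := hxy
  have hxa' : x * A' = A' * x := hxa
  have hya' : y * A' = A' * y := hya
  have hxb' : x * B' = B' * x := hxb
  have hyb' : y * B' = B' * y := hyb
  have hba' : B' * A' = -(A' * B') := hba
  have hT : (y - q.b • x) * (1 + A') = (1 + A') * (y - q.b • x) := by
    simp only [mul_add, add_mul, mul_sub, sub_mul, mul_one, one_mul, Matrix.smul_mul, Matrix.mul_smul, hxa', hya']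
    abel
  have hTT : (y - q.b • x) * (y - q.b • x) = (q.a * q.a) • 1 := by
    simp only [mul_sub, sub_mul, Matrix.smul_mul, Matrix.mul_smul, hxx, hyy, hxy', smul_smul, smul_neg]
    rw [show q.a * q.a = q.s + q.b * (q.b * q.s) by linear_combination q.hab, add_smul]
    abel
  have hTe : (y - q.b • x) *ᵥ e = q.a • e := by
    rw [he, Matrix.mulVec_mulVec, ← mul_assoc, hT, mul_assoc, mul_add, hTT, Matrix.mul_smul, mul_one,
      ← Matrix.smul_mulVec, ← Matrix.mul_smul, smul_add, smul_smul, add_comm ((q.a * q.a) • (1 : M4))]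
  clear_value e
  have hye : y *ᵥ e = q.a • e + q.b • (x *ᵥ e) := by
    rw [← hTe, Matrix.sub_mulVec, Matrix.smul_mulVec, sub_add_cancel]
  have hyxe : y *ᵥ (x *ᵥ e) = (-(q.s * q.b)) • e + (-q.a) • (x *ᵥ e) := by
    rw [Matrix.mulVec_mulVec, show y * x = -(x * y) by rw [hxy', neg_neg], Matrix.neg_mulVec,
      ← Matrix.mulVec_mulVec, hye, Matrix.mulVec_add, Matrix.mulVec_smul, Matrix.mulVec_smul,
      Matrix.mulVec_mulVec, hxx, Matrix.smul_mulVec, Matrix.one_mulVec, smul_smul, neg_smul, neg_smul,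
      mul_comm q.b q.s]
    abel
  have hxxe : x *ᵥ (x *ᵥ e) = q.s • e := by
    rw [Matrix.mulVec_mulVec, hxx, Matrix.smul_mulVec, Matrix.one_mulVec]
  have he0 : e ≠ 0 := hw
  have hs0 : q.s ≠ 0 := by rcases q.hs with h' | h' <;> rw [h'] <;> simp
  have key : ∀ c0 c2 : F, c0 • e + c2 • (x *ᵥ e) = 0 → c0 = 0 ∧ c2 = 0 := by
    intro c0 c2 hc
    rcases eq_or_ne c2 0 with rfl | hc2
    · rw [zero_smul, add_zero, smul_eq_zero] at hc
      exact ⟨hc.resolve_right he0, rfl⟩
    exfalso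
    set k := -(c2⁻¹ * c0) with hk
    have hxe : x *ᵥ e = k • e := by
      have h1 := congrArg (c2⁻¹ • ·) hc
      simp only [smul_add, smul_smul, inv_mul_cancel₀ hc2, one_smul, smul_zero] at h1
      rw [hk, neg_smul]; exact eq_neg_of_add_eq_zero_right h1
    have h1 := hyxe
    rw [hxe, Matrix.mulVec_smul, hye, hxe, smul_smul, smul_smul, ← add_smul, smul_smul, ← add_smul] at h1
    have h1' := smul_left_injective F he0 h1
    have h3 := hxxe
    rw [hxe, Matrix.mulVec_smul, hxe, smul_smul] at h3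
    have h3' := smul_left_injective F he0 h3
    have h5 : 2 * (k * q.a + q.s * q.b) = 0 := by linear_combination h1' - q.b * h3'
    have h6 : k * q.a = -(q.s * q.b) := by
      linear_combination (mul_eq_zero.1 h5).resolve_left h2
    have h7 : q.s * q.s = 0 := by
      linear_combination (k * q.a - q.s * q.b) * h6 - (q.a * q.a) * h3' - q.s * q.hab
    exact hs0 (mul_self_eq_zero.1 h7)
  let g : M4 := Matrix.of fun r j => (![e, B' *ᵥ e, x *ᵥ e, x *ᵥ (B' *ᵥ e)] j) r
  have hgv : ∀ c : Fin 4 → F, g *ᵥ c =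
      c 0 • e + c 1 • (B' *ᵥ e) + c 2 • (x *ᵥ e) + c 3 • (x *ᵥ (B' *ᵥ e)) := by
    intro c; funext r
    simp [g, Matrix.mulVec, dotProduct, Fin.sum_univ_four]
    ring
  have hAB : A' *ᵥ (B' *ᵥ e) = -(B' *ᵥ e) := by
    rw [Matrix.mulVec_mulVec, show A' * B' = -(B' * A') by rw [hba', neg_neg], Matrix.neg_mulVec,
      ← Matrix.mulVec_mulVec, hAe]
  have hAx : A' *ᵥ (x *ᵥ e) = x *ᵥ e := by
    rw [Matrix.mulVec_mulVec, ← hxa', ← Matrix.mulVec_mulVec, hAe]
  have hAxB : A' *ᵥ (x *ᵥ (B' *ᵥ e)) = -(x *ᵥ (B' *ᵥ e)) := by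
    rw [Matrix.mulVec_mulVec _ A', ← hxa', ← Matrix.mulVec_mulVec, hAB, Matrix.mulVec_neg]
  have hBB : B' *ᵥ (B' *ᵥ e) = e := by rw [Matrix.mulVec_mulVec, hbb, Matrix.one_mulVec]
  have hBx : B' *ᵥ (x *ᵥ e) = x *ᵥ (B' *ᵥ e) := by
    rw [Matrix.mulVec_mulVec, ← hxb', ← Matrix.mulVec_mulVec]
  have hBxB : B' *ᵥ (x *ᵥ (B' *ᵥ e)) = x *ᵥ e := by
    rw [← hBx, Matrix.mulVec_mulVec _ B', hbb, Matrix.one_mulVec]
  have hgu : IsUnit g := by
    refine Matrix.mulVec_injective_iff_isUnit.1 fun c d hcd => ?_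
    have h0 : g *ᵥ (c - d) = 0 := by rw [Matrix.mulVec_sub, hcd, sub_self]
    set f := c - d
    rw [hgv] at h0
    have h1 := congrArg (A' *ᵥ ·) h0
    simp only [Matrix.mulVec_add, Matrix.mulVec_smul, hAe, hAB, hAx, hAxB, Matrix.mulVec_zero] at h1
    have hp : f 0 • e + f 2 • (x *ᵥ e) = 0 := by
      have : (2 : F) • (f 0 • e + f 2 • (x *ᵥ e)) = 0 := by
        linear_combination (norm := module) h0 + h1
      exact (smul_eq_zero.1 this).resolve_left h2
    have hq' : f 1 • (B' *ᵥ e) + f 3 • (x *ᵥ (B' *ᵥ e)) = 0 := by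
      linear_combination (norm := module) h0 - hp
    obtain ⟨e0, e2⟩ := key _ _ hp
    obtain ⟨e1, e3⟩ := key (f 1) (f 3) (by
      have h3 := congrArg (B' *ᵥ ·) hq'
      simpa only [Matrix.mulVec_add, Matrix.mulVec_smul, hBB, hBxB, Matrix.mulVec_zero] using h3)
    refine sub_eq_zero.1 (funext fun i => ?_)
    fin_cases i <;> assumption
  refine ⟨hgu.unit, fun i => ?_⟩
  rw [IsUnit.unit_spec]
  refine Matrix.ext_iff_mulVec.2 fun c => ?_
  rw [← Matrix.mulVec_mulVec, ← Matrix.mulVec_mulVec, hgv, hgv]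
  have hyB : y *ᵥ (B' *ᵥ e) = q.a • (B' *ᵥ e) + q.b • (x *ᵥ (B' *ᵥ e)) := by
    rw [Matrix.mulVec_mulVec, hyb', ← Matrix.mulVec_mulVec, hye, Matrix.mulVec_add, Matrix.mulVec_smul,
      Matrix.mulVec_smul, hBx]
  have hyxB : y *ᵥ (x *ᵥ (B' *ᵥ e)) = (-(q.s * q.b)) • (B' *ᵥ e) + (-q.a) • (x *ᵥ (B' *ᵥ e)) := by
    rw [← hBx, Matrix.mulVec_mulVec _ y, hyb', ← Matrix.mulVec_mulVec, hyxe, Matrix.mulVec_add,
      Matrix.mulVec_smul, Matrix.mulVec_smul]
  have hxxB : x *ᵥ (x *ᵥ (B' *ᵥ e)) = q.s • (B' *ᵥ e) := by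
    rw [Matrix.mulVec_mulVec, hxx, Matrix.smul_mulVec, Matrix.one_mulVec]
  fin_cases i <;>
    simp [gens, P, P2, k4, Par.X, Par.Y, Par.std, Matrix.mulVec, dotProduct, Fin.sum_univ_four,
      finProdFinEquiv, Fin.divNat, Fin.modNat, Matrix.one_apply, ← hx, ← hy, ← hA, ← hB]
  all_goals
    simp only [← Matrix.mulVec_mulVec, Matrix.mulVec_add, Matrix.mulVec_smul, hxxe, hxxB, hye, hyxe, hyB, hyxB,
      hAe, hAB, hAx, hAxB, hBB, hBx, hBxB]
    module

/-- The group is a conjugate of the standard one. -/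
theorem RData.eq_conj (h : RData R m) {q : Par F} {k : ℕ} (hk : 2 * k = m) {X Y B A : GL (Fin 4) F}
    (hX : X ∈ R) (hY : Y ∈ R) (hB : B ∈ R) (hA : A ∈ R) (hfr : IsFrame q X Y B A) :
    ∃ g : GL (Fin 4) F, R = (R0 q k).map (MulAut.conj g).toMonoidHom ∧
      ∀ i, g * U q (gens i) * g⁻¹ ∈ R := by
  classical
  obtain ⟨g, hg⟩ := hfr.exists_conj h.two
  have hgen : ∀ i, g * U q (gens i) * g⁻¹ = ![X, Y, B, A] i := fun i => by
    rw [mul_inv_eq_iff_eq_mul]; exact Units.ext (hg i)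
  have hmemR : ∀ i, g * U q (gens i) * g⁻¹ ∈ R := fun i => by
    rw [hgen]; fin_cases i <;> assumption
  refine ⟨g, ?_, hmemR⟩
  set T := R.comap (MulAut.conj g).toMonoidHom with hT
  have hsc : ∀ (c : Fˣ) (t : GL (Fin 4) F), c ^ (2 * k) = 1 → (t : M4) = (c : F) • 1 → t ∈ T := by
    intro c t hc ht
    obtain ⟨z, hz, hzc⟩ := (h.scal c).2 (by rw [← hk, ← Units.val_pow_eq_pow_val, hc, Units.val_one])
    have hzt : z = g * t * g⁻¹ := Units.ext (by simp [hzc, ht])
    show g * t * g⁻¹ ∈ R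
    rwa [← hzt]
  have hU : ∀ e, U q e ∈ T := by
    refine add_induction_gens (p := fun e => U q e ∈ T) ?_ ?_ hmemR
    · rw [show U q 0 = 1 from Units.ext (by simp [P_zero])]; exact T.one_mem
    · intro e f he hf
      have hk' : (Units.mk0 (κ q e f) (κ_ne_zero q e f)) ^ (2 * k) = 1 := by
        rw [pow_mul, show (Units.mk0 (κ q e f) (κ_ne_zero q e f)) ^ 2 = 1 from
          Units.ext (by simp [pow_two, κ_sq]), one_pow]
      let t : GL (Fin 4) F := Units.map (Matrix.scalar (Fin 4)).toMonoidHom (Units.mk0 (κ q e f) (κ_ne_zero q e f))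
      have ht : (t : M4) = (κ q e f) • 1 := by simp [t, Matrix.smul_one_eq_diagonal]
      have heq : U q (e + f) = t * (U q e * U q f) := Units.ext (by
        rw [Units.val_mul, Units.val_mul, coe_U, coe_U, coe_U, ht, P_mul, Matrix.smul_mul, one_mul,
          smul_smul, κ_sq, one_smul])
      rw [heq]
      exact T.mul_mem (hsc _ t hk' ht) (T.mul_mem he hf)
  have hle : (R0 q k).map (MulAut.conj g).toMonoidHom ≤ R := by
    rw [Subgroup.map_le_iff_le_comap]
    rintro t ⟨e, c, hc, ht⟩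
    let t' : GL (Fin 4) F := Units.map (Matrix.scalar (Fin 4)).toMonoidHom c
    have ht' : (t' : M4) = (c : F) • 1 := by simp [t', Matrix.smul_one_eq_diagonal]
    rw [show t = t' * U q e from Units.ext (by rw [Units.val_mul, ht, ht', coe_U, Matrix.smul_mul, one_mul])]
    exact T.mul_mem (hsc c t' hc ht') (hU e)
  refine (Subgroup.eq_of_le_of_card_ge hle ?_).symm
  rw [h.card, Subgroup.card_map_of_injective (MulAut.conj g).injective]
  -- `R0` has at least `16 m` elements
  choose f hf using fun z : Subgroup.center R => h.abs ((z.1 : GL (Fin 4) F) : M4) fun x hx => by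
    have := congrArg (fun w : R => ((w : GL (Fin 4) F) : M4)) (Subgroup.mem_center_iff.1 z.2 ⟨x, hx⟩)
    simpa using this.symm
  have hf0 : ∀ z, f z ≠ 0 := fun z hz => Units.ne_zero (z.1 : GL (Fin 4) F) (by rw [hf z, hz, zero_smul])
  let F' : E × Subgroup.center R → R0 q k := fun ez =>
    ⟨(ez.2.1 : GL (Fin 4) F) * U q ez.1, ez.1, Units.mk0 _ (hf0 ez.2), by
      have := (h.scal _).1 ⟨_, ez.2.1.2, hf ez.2⟩
      exact Units.ext (by rw [hk, Units.val_pow_eq_pow_val, Units.val_mk0, this, Units.val_one]), by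
      rw [Units.val_mul, hf, coe_U, Matrix.smul_mul, one_mul, Units.val_mk0]⟩
  have hF' : Function.Injective F' := by
    rintro ⟨e, z⟩ ⟨e', z'⟩ heq
    have h1 := congrArg (fun w : R0 q k => ((w : GL (Fin 4) F) : M4)) heq
    simp only [F', Units.val_mul, hf, coe_U, Matrix.smul_mul, one_mul] at h1
    obtain ⟨rfl, h3⟩ := smul_P_inj q h.two (hf0 z) h1
    exact Prod.ext rfl (Subtype.ext (Subtype.ext (Units.ext (by rw [hf z, hf z', h3]))))
  have := Nat.card_le_card_of_injective F' hF'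
  simpa [Nat.card_prod, h.cardZ, Nat.card_eq_fintype_card (α := E)] using this

end Pairs

end Cfsg.Agent.PauliFour
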