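import Cfsg.Agent.Lib.PrimeFix.PauliWitness
import Cfsg.Agent.Lib.PrimeFix.PauliClasses

/-!
When does every element of prime order normalise a conjugate of the Pauli group?
-/

set_option autoImplicit false

namespace Cfsg.Agent.PauliFour

open Matrix
open scoped MatrixGroups

variable {F : Type*} [Field F]

local notation "M4" => Matrix (Fin 4) (Fin 4) F

/-- Every element of projective order `r` of `S` is conjugate in `S` into the normaliser of `R`. -/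
def Fixes (S R : Subgroup (GL (Fin 4) F)) (r : ℕ) : Prop :=
  ∀ x ∈ S, (∃ z : F, ((x ^ r : GL (Fin 4) F) : M4) = z • (1 : M4)) → (∀ z : F, (x : M4) ≠ z • (1 : M4)) →
    ∃ g ∈ S, g⁻¹ * x * g ∈ Geo.subgroupNormalizer R

/-- Semisimple elements with equal characteristic polynomials are conjugate in `S`. -/
def ConjBy (S : Subgroup (GL (Fin 4) F)) : Prop :=
  ∀ x ∈ S, ∀ y ∈ S, ∀ N : ℕ, x ^ N = 1 → y ^ N = 1 → (N : F) ≠ 0 →
    (x : M4).charpoly = (y : M4).charpoly → ∃ g ∈ S, g⁻¹ * x * g = y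

theorem conj_mem_normalizer_map {G : Type*} [Group G] (R : Subgroup G) (g x : G) :
    x ∈ Subgroup.normalizer ((R.map (MulAut.conj g).toMonoidHom : Subgroup G) : Set G) ↔
      g⁻¹ * x * g ∈ Subgroup.normalizer (R : Set G) := by
  have hmem : ∀ t, t ∈ R.map (MulAut.conj g).toMonoidHom ↔ g⁻¹ * t * g ∈ R := fun t => by
    constructor
    · rintro ⟨u, hu, rfl⟩; simpa [mul_assoc] using hu
    · exact fun h => ⟨_, h, by simp [mul_assoc]⟩
  rw [Subgroup.mem_normalizer_iff, Subgroup.mem_normalizer_iff]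
  constructor
  · intro h n
    have := h (g * n * g⁻¹)
    rw [hmem, hmem] at this
    simpa [mul_assoc] using this
  · intro h n
    rw [hmem, hmem]
    simpa [mul_assoc] using h (g⁻¹ * n * g)

theorem fixes_map_iff (S R : Subgroup (GL (Fin 4) F)) (r : ℕ) (g : GL (Fin 4) F)
    (hg : ∀ x, x ∈ S → g⁻¹ * x * g ∈ S) (hg' : ∀ x, x ∈ S → g * x * g⁻¹ ∈ S) :
    Fixes S (R.map (MulAut.conj g).toMonoidHom) r ↔ Fixes S R r := by
  have hscal : ∀ (h x : GL (Fin 4) F) (z : F), (x : M4) = z • 1 → ((h⁻¹ * x * h : GL (Fin 4) F) : M4) = z • 1 := by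
    intro h x z hx; simp [hx]
  constructor <;> intro hF x hx hxr hns
  · obtain ⟨z, hz⟩ := hxr
    obtain ⟨h, hh, hN⟩ := hF (g * x * g⁻¹) (hg' x hx)
      ⟨z, by rw [conj_pow]; simpa using hscal g⁻¹ _ z hz⟩
      (fun w hw => hns w (by simpa [mul_assoc] using hscal g _ w hw))
    refine ⟨g⁻¹ * h * g, hg h hh, ?_⟩
    have h1 := (conj_mem_normalizer_map R g _).1 hN
    show (g⁻¹ * h * g)⁻¹ * x * (g⁻¹ * h * g) ∈ Subgroup.normalizer _
    rw [show (g⁻¹ * h * g)⁻¹ * x * (g⁻¹ * h * g) = g⁻¹ * (h⁻¹ * (g * x * g⁻¹) * h) * g by group]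
    exact h1
  · obtain ⟨z, hz⟩ := hxr
    have hpow : (g⁻¹ * x * g) ^ r = g⁻¹ * x ^ r * g := by
      simpa using conj_pow (a := g⁻¹) (b := x) (i := r)
    obtain ⟨h, hh, hN⟩ := hF (g⁻¹ * x * g) (hg x hx) ⟨z, by rw [hpow]; exact hscal g _ z hz⟩
      (fun w hw => hns w (by simpa [mul_assoc] using hscal g⁻¹ _ w hw))
    refine ⟨g * h * g⁻¹, hg' h hh, ?_⟩
    show (g * h * g⁻¹)⁻¹ * x * (g * h * g⁻¹) ∈ Subgroup.normalizer _
    rw [conj_mem_normalizer_map, show g⁻¹ * ((g * h * g⁻¹)⁻¹ * x * (g * h * g⁻¹)) * g = h⁻¹ * (g⁻¹ * x * g) * h by group]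
    exact hN

theorem trace_conj (g x : GL (Fin 4) F) : ((g⁻¹ * x * g : GL (Fin 4) F) : M4).trace = (x : M4).trace := by
  rw [Units.val_mul, Matrix.trace_mul_comm, ← Units.val_mul, ← mul_assoc, mul_inv_cancel, one_mul]

theorem conj_pow_one {g x : GL (Fin 4) F} {r : ℕ} (hx : x ^ r = 1) : (g⁻¹ * x * g) ^ r = 1 := by
  have := conj_pow (a := g⁻¹) (b := x) (i := r)
  rw [inv_inv] at this
  rw [this, hx]; simp

theorem conj_nonscalar {g x : GL (Fin 4) F} (hns : ∀ z : F, (x : M4) ≠ z • 1) :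
    ∀ z : F, ((g⁻¹ * x * g : GL (Fin 4) F) : M4) ≠ z • 1 := by
  intro z hz
  refine hns z ?_
  have h : x = g * (g⁻¹ * x * g) * g⁻¹ := by group
  rw [h, Units.val_mul, Units.val_mul, hz]
  simp

variable [Finite F]

/-- No element of order at least seven. -/
theorem not_fixes_large (q : Par F) (h2 : (2 : F) ≠ 0) {k : ℕ} (hk : k = 1 ∨ k = 2) {S : Subgroup (GL (Fin 4) F)}
    (hdet : ∀ x ∈ S, (x : M4).det = 1) {R : Subgroup (GL (Fin 4) F)} {r : ℕ} [Fact r.Prime] (h7 : 7 ≤ r)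
    (hΩ : r ∣ (Geo.subgroupNormalizer R).relIndex S) : ¬ Fixes S (R0 q k) r := by
  intro hF
  have hcard : r ∣ Nat.card S := hΩ.trans (Subgroup.index_dvd_card _)
  obtain ⟨⟨x, hx⟩, hord⟩ := exists_prime_orderOf_dvd_card' r hcard
  rw [Subgroup.orderOf_mk] at hord
  have hxr : x ^ r = 1 := hord ▸ pow_orderOf_eq_one x
  have hns : ∀ z : F, (x : M4) ≠ z • 1 := by
    intro z hz
    have h4 := hdet x hx
    rw [hz, Matrix.det_smul, Matrix.det_one, mul_one, Fintype.card_fin] at h4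
    have hr : z ^ r = 1 := by
      have h1 := congrArg (fun g : GL (Fin 4) F => (g : M4) 0 0) hxr
      simpa [hz, _root_.smul_pow] using h1
    have hco : Nat.Coprime 4 r := by
      rw [show 4 = 2 ^ 2 by norm_num]
      exact Nat.Coprime.pow_left 2 ((Nat.coprime_primes Nat.prime_two Fact.out).2 (by omega))
    have hz1 : z = 1 := by simpa [hco.gcd_eq_one] using (pow_gcd_eq_one (a := z)).2 ⟨h4, hr⟩
    have : x = 1 := Units.ext (by rw [hz, hz1, one_smul, Units.val_one])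
    rw [this, orderOf_one] at hord
    omega
  obtain ⟨g, hg, hN⟩ := hF x hx ⟨1, by simp [hxr]⟩ hns
  rcases prime_cases q h2 hk (by omega : r ≠ 2) hN (conj_pow_one hxr) (conj_nonscalar hns) with ⟨h, -⟩ | ⟨h, -⟩ <;>
    omega

/-- An element with the wrong trace is not conjugate into the normaliser. -/
theorem not_fixes_three (q : Par F) (h2 : (2 : F) ≠ 0) {k : ℕ} (hk : k = 1 ∨ k = 2) {S : Subgroup (GL (Fin 4) F)}
    {x : GL (Fin 4) F} (hx : x ∈ S) (hx3 : x ^ 3 = 1) (hns : ∀ z : F, (x : M4) ≠ z • 1)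
    (h1 : (x : M4).trace * ((x⁻¹ : GL (Fin 4) F) : M4).trace = 1 → q.s = -1 ∧ k = 1 ∧ (3 : F) ≠ 0)
    (h4 : (x : M4).trace * ((x⁻¹ : GL (Fin 4) F) : M4).trace ≠ 4) : ¬ Fixes S (R0 q k) 3 := by
  intro hF
  haveI : Fact (Nat.Prime 3) := ⟨Nat.prime_three⟩
  obtain ⟨g, -, hN⟩ := hF x hx ⟨1, by simp [hx3]⟩ hns
  have hinv : (g⁻¹ * x * g)⁻¹ = g⁻¹ * x⁻¹ * g := by group
  rcases prime_cases q h2 hk (by norm_num : (3 : ℕ) ≠ 2) hN (conj_pow_one hx3) (conj_nonscalar hns) with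
    ⟨-, h | h⟩ | ⟨h, -⟩
  · rw [hinv, trace_conj, trace_conj] at h
    obtain ⟨hs, rfl, h3⟩ := h1 h
    have h' := trace_three q hs h2 hN (conj_pow_one hx3) (conj_nonscalar hns)
    rw [hinv, trace_conj, trace_conj, h] at h'
    exact h3 (by linear_combination -h')
  · rw [hinv, trace_conj, trace_conj] at h; exact h4 h
  · omega

theorem not_fixes_five (q : Par F) (h2 : (2 : F) ≠ 0) {k : ℕ} (hk : k = 1 ∨ k = 2) {S : Subgroup (GL (Fin 4) F)}
    {x : GL (Fin 4) F} (hx : x ∈ S) (hx5 : x ^ 5 = 1) (hns : ∀ z : F, (x : M4) ≠ z • 1)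
    (h1 : (x : M4).trace * ((x⁻¹ : GL (Fin 4) F) : M4).trace ≠ 1) : ¬ Fixes S (R0 q k) 5 := by
  intro hF
  haveI : Fact (Nat.Prime 5) := ⟨by norm_num⟩
  obtain ⟨g, -, hN⟩ := hF x hx ⟨1, by simp [hx5]⟩ hns
  rcases prime_cases q h2 hk (by norm_num : (5 : ℕ) ≠ 2) hN (conj_pow_one hx5) (conj_nonscalar hns) with
    ⟨h, -⟩ | ⟨-, h⟩
  · omega
  · rw [show (g⁻¹ * x * g)⁻¹ = g⁻¹ * x⁻¹ * g by group, trace_conj, trace_conj] at h; exact h1 h

/-- A unipotent element with a two by two block is not conjugate into the normaliser. -/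
theorem not_fixes_unipotent (q : Par F) (h2 : (2 : F) ≠ 0) {k : ℕ} (hk : k = 1 ∨ k = 2)
    {S : Subgroup (GL (Fin 4) F)} {r : ℕ} [Fact r.Prime] (hr : r ≠ 2) {C : Matrix (Fin 2) (Fin 2) F}
    (hdetC : C.det = 1) (htrC : C.trace = 2) (hC : C 1 0 ≠ 0) (hCr : C ^ r = 1)
    {x : GL (Fin 4) F} (hx : x ∈ S) (hxC : (x : M4) = emb C) : ¬ Fixes S (R0 q k) r := by
  intro hF
  have hxr : x ^ r = 1 := Units.ext (by rw [Units.val_pow_eq_pow_val, hxC, emb_pow, hCr, emb_one, Units.val_one])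
  have hns : ∀ z : F, (x : M4) ≠ z • 1 := by
    intro z hz
    have := congrFun (congrFun (hxC.symm.trans hz) 2) 0
    simp [emb] at this
    exact hC this
  obtain ⟨g, -, hN⟩ := hF x hx ⟨1, by simp [hxr]⟩ hns
  rw [Matrix.trace_fin_two] at htrC
  rw [Matrix.det_fin_two] at hdetC
  set u : Fin 4 → F := ![C 0 0 - 1, 0, C 1 0, 0]
  set v : Fin 4 → F := ![1, 0, (C 1 1 - 1) / C 1 0, 0]
  have hdot : v ⬝ᵥ u = 0 := by
    simp [u, v, dotProduct, Fin.sum_univ_four]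
    field_simp
    linear_combination htrC
  have hx1 : (x : M4) = 1 + Matrix.vecMulVec u v := by
    rw [hxC]
    ext i j
    fin_cases i <;> fin_cases j <;> simp [emb, u, v, Matrix.vecMulVec_apply] <;> field_simp
    · linear_combination htrC - hdetC
    · linear_combination (C 1 0) * 0
  set N := Matrix.vecMulVec u v
  refine not_rank_one_unipotent q h2 hk hr hN (conj_pow_one hxr)
    (N := ((g⁻¹ : GL (Fin 4) F) : M4) * N * g) ?_ ?_ ?_ (conj_nonscalar hns)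
  · rw [Units.val_mul, Units.val_mul, hx1, mul_add, mul_one, add_mul, Units.inv_mul]
  · have hNN : N * N = 0 := by simp only [N, Matrix.vecMulVec_mul_vecMulVec, hdot]; simp
    rw [show ((g⁻¹ : GL (Fin 4) F) : M4) * N * g * (((g⁻¹ : GL (Fin 4) F) : M4) * N * g) =
      ((g⁻¹ : GL (Fin 4) F) : M4) * (N * ((g : M4) * ((g⁻¹ : GL (Fin 4) F) : M4)) * N) * g by simp only [mul_assoc],
      Units.mul_inv, mul_one, hNN, mul_zero, zero_mul]
  · intro M
    refine ⟨v ⬝ᵥ (((g : M4) * M * ((g⁻¹ : GL (Fin 4) F) : M4)) *ᵥ u), ?_⟩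
    rw [show ((g⁻¹ : GL (Fin 4) F) : M4) * N * g * M * (((g⁻¹ : GL (Fin 4) F) : M4) * N * g) =
      ((g⁻¹ : GL (Fin 4) F) : M4) * (N * (((g : M4) * M * ((g⁻¹ : GL (Fin 4) F) : M4)) * N)) * g by simp only [mul_assoc]]
    have hNN : ∀ L : M4, N * (L * N) = (v ⬝ᵥ (L *ᵥ u)) • N := fun L => by
      simp only [N, Matrix.mul_vecMulVec, Matrix.vecMulVec_mulVec, op_smul_eq_smul, Matrix.smul_vecMulVec]
    rw [hNN, Matrix.mul_smul, Matrix.smul_mul]

theorem of_witness {S R : Subgroup (GL (Fin 4) F)} (hconj : ConjBy S) {x W : GL (Fin 4) F} (hx : x ∈ S)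
    (hW : W ∈ S) (hWN : W ∈ Geo.subgroupNormalizer R) {N : ℕ} (hxN : x ^ N = 1) (hWN' : W ^ N = 1)
    (hN : (N : F) ≠ 0) (hc : (x : M4).charpoly = (W : M4).charpoly) :
    ∃ g ∈ S, g⁻¹ * x * g ∈ Geo.subgroupNormalizer R := by
  obtain ⟨g, hg, hgx⟩ := hconj x hx W hW N hxN hWN' hN hc
  exact ⟨g, hg, hgx ▸ hWN⟩

/-- Elements of order two. -/
theorem fixes_two (q : Par F) (k : ℕ) (h2 : (2 : F) ≠ 0) {S : Subgroup (GL (Fin 4) F)}
    (hdet : ∀ x ∈ S, (x : M4).det = 1) (hconj : ConjBy S) (hU : ∀ e, U q e ∈ S)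
    (hfour : ∀ x ∈ S, ∀ z : F, (x : M4) * x = z • 1 → z * z = -1 → ∀ w : F, w * w = z → (x : M4).trace = 2 * w →
      ∃ W ∈ S, W ∈ Geo.subgroupNormalizer (R0 q k) ∧ (W : M4) = w • dMat) :
    Fixes S (R0 q k) 2 := by
  intro x hx ⟨z, hz⟩ hns
  rw [pow_two, Units.val_mul] at hz
  have hz4 : z ^ 4 = 1 := by
    have h := congrArg Matrix.det hz
    rwa [Matrix.det_mul, hdet x hx, one_mul, Matrix.det_smul, Matrix.det_one, mul_one, Fintype.card_fin, eq_comm] at h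
  have h8 : ((8 : ℕ) : F) ≠ 0 := by
    rw [show ((8 : ℕ) : F) = 2 * 2 * 2 by norm_num]; exact mul_ne_zero (mul_ne_zero h2 h2) h2
  have pow8 : ∀ (y : GL (Fin 4) F) (c : F), (y : M4) * y = c • 1 → c ^ 4 = 1 → y ^ 8 = 1 := by
    intro y c hy hc
    exact Units.ext (by rw [Units.val_pow_eq_pow_val, show 8 = 2 * 4 by norm_num, pow_mul, pow_two, hy,
      _root_.smul_pow, one_pow, hc, one_smul, Units.val_one])
  have hcases : z * z = 1 ∨ z * z = -1 := by
    have : (z * z) ^ 2 = 1 := by rw [← hz4]; ring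
    exact sq_eq_one_iff.1 this
  rcases hcases with hzz | hzz
  · obtain ⟨e, he0, heκ⟩ : ∃ e : E, e ≠ 0 ∧ κ q e e = z := by
      rcases mul_self_eq_one_iff.1 hzz with h | h
      · exact ⟨((0, 0), (0, 1)), by decide, by simp [κ, k2, Par.std, h]⟩
      · refine ⟨((1, 1), (0, 0)), by decide, ?_⟩
        rcases q.hs with hs | hs <;> simp [κ, k2, Par.std, hs, h]
    have hW : ((U q e : GL (Fin 4) F) : M4) * (U q e : GL (Fin 4) F) = z • 1 := by rw [coe_U, P_sq, heκ]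
    refine of_witness hconj hx (hU e) (U_mem_normalizer q k e) (pow8 x z hz hz4) (pow8 _ z hW hz4) h8 ?_
    rw [charpoly_square h2 hzz hz (hdet x hx) hns, charpoly_square h2 hzz hW (hdet _ (hU e)) (fun c hc => ?_)]
    have hc0 : c ≠ 0 := fun h0 => Units.ne_zero (U q e) (by rw [hc, h0, zero_smul])
    rw [coe_U, ← P_zero q, ← one_smul F (P q e)] at hc
    exact he0 (smul_P_inj q h2 one_ne_zero hc).1
  · obtain ⟨w, hw, htr, hchar⟩ := charpoly_square_four h2 hzz hz (hdet x hx) hns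
    obtain ⟨W, hW, hWN, hWe⟩ := hfour x hx z hz hzz w hw htr
    have hWW : (W : M4) * W = z • 1 := by
      rw [hWe, Matrix.smul_mul, Matrix.mul_smul, dMat_sq, smul_smul, hw]
    refine of_witness hconj hx hW hWN (pow8 x z hz hz4) (pow8 _ z hWW hz4) h8 ?_
    rw [hchar, hWe, dMat, ← Matrix.diagonal_smul, Matrix.charpoly_diagonal]
    simp [Fin.prod_univ_four]
    left; ring

/-- Elements of order three. -/
theorem fixes_three (h2 : (2 : F) ≠ 0) (h3 : (3 : F) ≠ 0) {i : F} (hi : i * i = -1) {S : Subgroup (GL (Fin 4) F)}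
    (hdet : ∀ x ∈ S, (x : M4).det = 1) (hconj : ConjBy S) (hT : ∀ both, tUnit h2 hi both ∈ S)
    (hinv : ∀ y ∈ S, y ^ 3 = 1 → ((y : M4) ^ 2).charpoly = (y : M4).charpoly) :
    Fixes S (R0 (Par.std F) 2) 3 := by
  intro x hx ⟨z, hz⟩ hns
  have hz4 : z ^ 4 = 1 := by
    have h := congrArg Matrix.det hz
    rwa [hdet _ (S.pow_mem hx 3), Matrix.det_smul, Matrix.det_one, mul_one, Fintype.card_fin, eq_comm] at h
  have hy3 : (x ^ 4) ^ 3 = 1 := by
    refine Units.ext ?_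
    rw [← pow_mul, show 4 * 3 = 3 * 4 by norm_num, pow_mul, Units.val_pow_eq_pow_val, hz, _root_.smul_pow,
      one_pow, hz4, one_smul, Units.val_one]
  have hz0 : z ≠ 0 := fun h => by simp [h] at hz4
  have hyns : ∀ c : F, ((x ^ 4 : GL (Fin 4) F) : M4) ≠ c • 1 := by
    intro c hc
    refine hns (z⁻¹ * c) ?_
    rw [show x ^ 4 = x ^ 3 * x from pow_succ x 3, Units.val_mul, hz, Matrix.smul_mul, one_mul] at hc
    rw [← smul_smul, ← hc, smul_smul, inv_mul_cancel₀ hz0, one_smul]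
  have key : ∀ y ∈ S, y ^ 3 = 1 → (∀ c : F, (y : M4) ≠ c • 1) →
      ((y : M4).trace = 1 ∧ (y : M4).charpoly = (Polynomial.X - 1) ^ 2 * (Polynomial.X ^ 2 + Polynomial.X + 1)) ∨
      ((y : M4).trace = -2 ∧ (y : M4).charpoly = (Polynomial.X ^ 2 + Polynomial.X + 1) ^ 2) :=
    fun y hy h hne => charpoly_three h3 (by rw [← Units.val_pow_eq_pow_val, h, Units.val_one]) (hdet y hy) hne (hinv y hy h)
  have h12 : (1 : F) ≠ -2 := fun h => h3 (by linear_combination h)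
  have hTns : ∀ both, ∀ c : F, ((tUnit h2 hi both : GL (Fin 4) F) : M4) ≠ c • 1 := by
    intro both c hc
    obtain ⟨hc3, htr, -⟩ := tUnit_spec h2 hi both
    have h1 : c ^ 3 = 1 := by
      have h1 := congrArg (fun g : GL (Fin 4) F => (g : M4) 0 0) hc3
      simpa [hc, _root_.smul_pow] using h1
    rw [hc, Matrix.trace_smul, Matrix.trace_one, Fintype.card_fin, smul_eq_mul] at htr
    have h4 := hdet _ (hT both)
    rw [hc, Matrix.det_smul, Matrix.det_one, mul_one, Fintype.card_fin] at h4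
    have hc1 : c = 1 := by linear_combination (-c) * h1 + h4
    subst hc1
    cases both <;> simp at htr
    · exact mul_ne_zero h2 h3 (by linear_combination htr)
    · exact h3 (by linear_combination htr)
  suffices hy : ∃ g ∈ S, g⁻¹ * x ^ 4 * g ∈ Geo.subgroupNormalizer (R0 (Par.std F) 2) by
    obtain ⟨g, hg, hN⟩ := hy
    refine ⟨g, hg, ?_⟩
    have hxeq : x = sc (Units.mk0 z hz0)⁻¹ * x ^ 4 := by
      refine Units.ext ?_
      rw [Units.val_mul, coe_sc, show x ^ 4 = x ^ 3 * x from pow_succ x 3, Units.val_mul, hz]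
      simp [smul_smul, hz0]
    have e : g⁻¹ * x * g = sc (Units.mk0 z hz0)⁻¹ * (g⁻¹ * x ^ 4 * g) := by
      conv_lhs => rw [hxeq]
      rw [← mul_assoc g⁻¹, ← sc_comm, mul_assoc, mul_assoc, mul_assoc]
    rw [e]
    exact Subgroup.mul_mem _ (sc_mem_normalizer _ _ _) hN
  have h3N : ((3 : ℕ) : F) ≠ 0 := by simpa using h3
  rcases key _ (S.pow_mem hx 4) hy3 hyns with ⟨-, hc⟩ | ⟨-, hc⟩
  · refine of_witness hconj (S.pow_mem hx 4) (hT true) (tUnit_mem_normalizer h2 hi true) hy3 (tUnit_spec h2 hi true).1 h3N ?_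
    rcases key _ (hT true) (tUnit_spec h2 hi true).1 (hTns true) with ⟨-, hc'⟩ | ⟨htr', -⟩
    · rw [hc, hc']
    · rw [(tUnit_spec h2 hi true).2.1] at htr'; exact absurd htr' h12
  · refine of_witness hconj (S.pow_mem hx 4) (hT false) (tUnit_mem_normalizer h2 hi false) hy3 (tUnit_spec h2 hi false).1 h3N ?_
    rcases key _ (hT false) (tUnit_spec h2 hi false).1 (hTns false) with ⟨htr', -⟩ | ⟨-, hc'⟩
    · rw [(tUnit_spec h2 hi false).2.1] at htr'; exact absurd htr'.symm h12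
    · rw [hc, hc']

/-- Elements of order five. -/
theorem fixes_five (q : Par F) (k : ℕ) (h2 : (2 : F) ≠ 0) (h5 : (5 : F) ≠ 0) {l : F} (hl : l * l = -q.s)
    (hlk : l ^ (2 * k) = 1) {S : Subgroup (GL (Fin 4) F)}
    (hdet : ∀ x ∈ S, (x : M4).det = 1) (hconj : ConjBy S) (hy : fiveUnit h2 hl ^ 4 ∈ S)
    {t : Fin 5} (ht : t = 2 ∨ t = 3)
    (hinv : ∀ y ∈ S, y ^ 5 = 1 → ((y : M4) ^ (t : ℕ)).charpoly = (y : M4).charpoly) :
    Fixes S (R0 q k) 5 := by
  intro x hx ⟨z, hz⟩ hns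
  have hz4 : z ^ 4 = 1 := by
    have h := congrArg Matrix.det hz
    rwa [hdet _ (S.pow_mem hx 5), Matrix.det_smul, Matrix.det_one, mul_one, Fintype.card_fin, eq_comm] at h
  have hy5 : (x ^ 16) ^ 5 = 1 := by
    refine Units.ext ?_
    rw [← pow_mul, show 16 * 5 = 5 * 16 by norm_num, pow_mul, Units.val_pow_eq_pow_val, hz, _root_.smul_pow,
      one_pow, show z ^ 16 = (z ^ 4) ^ 4 by ring, hz4, one_pow, one_smul, Units.val_one]
  have hz0 : z ≠ 0 := fun h => by simp [h] at hz4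
  have hx16 : ((x ^ 16 : GL (Fin 4) F) : M4) = z ^ 3 • (x : M4) := by
    rw [show x ^ 16 = (x ^ 5) ^ 3 * x by rw [← pow_mul, ← pow_succ], Units.val_mul, Units.val_pow_eq_pow_val,
      hz, _root_.smul_pow, one_pow, Matrix.smul_mul, one_mul]
  have hyns : ∀ c : F, ((x ^ 16 : GL (Fin 4) F) : M4) ≠ c • 1 := by
    intro c hc
    refine hns ((z ^ 3)⁻¹ * c) ?_
    rw [← smul_smul, ← hc, hx16, smul_smul, inv_mul_cancel₀ (pow_ne_zero 3 hz0), one_smul]
  obtain ⟨W, hW, hWN, hW5, hWns⟩ := exists_five k h2 hl hlk hdet hy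
  have key : ∀ y ∈ S, y ^ 5 = 1 → (∀ c : F, (y : M4) ≠ c • 1) →
      (y : M4).charpoly = Polynomial.X ^ 4 + Polynomial.X ^ 3 + Polynomial.X ^ 2 + Polynomial.X + 1 :=
    fun y hy' h hne => charpoly_five h5 (by rw [← Units.val_pow_eq_pow_val, h, Units.val_one]) hne ht (hinv y hy' h)
  obtain ⟨g, hg, hN⟩ := of_witness hconj (S.pow_mem hx 16) hW hWN hy5 hW5 (by simpa using h5)
    (by rw [key _ (S.pow_mem hx 16) hy5 hyns, key _ hW hW5 hWns])
  refine ⟨g, hg, ?_⟩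
  have hxeq : x = sc (Units.mk0 (z ^ 3) (pow_ne_zero 3 hz0))⁻¹ * x ^ 16 := by
    refine Units.ext ?_
    rw [Units.val_mul, coe_sc, hx16]
    simp [smul_smul, hz0]
  have e : g⁻¹ * x * g = sc (Units.mk0 (z ^ 3) (pow_ne_zero 3 hz0))⁻¹ * (g⁻¹ * x ^ 16 * g) := by
    conv_lhs => rw [hxeq]
    rw [← mul_assoc g⁻¹, ← sc_comm, mul_assoc, mul_assoc, mul_assoc]
  rw [e]
  exact Subgroup.mul_mem _ (sc_mem_normalizer _ _ _) hN

end Cfsg.Agent.PauliFour
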