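import Cfsg.Agent.Lib.PrimeFix.PauliFix

/-!
Explicit elements of orders two, three and five normalising the standard Pauli group.
-/

set_option autoImplicit false

namespace Cfsg.Agent.PauliFour

open Matrix
open scoped MatrixGroups

variable {F : Type*} [Field F]

local notation "M4" => Matrix (Fin 4) (Fin 4) F

theorem det_P2_sq (q : Par F) (e : Fin 2 × Fin 2) : (P2 q e).det ^ 2 = 1 := by
  have hX : q.X.det = -q.s := by simp [Par.X, Matrix.det_fin_two]
  have hY : q.Y.det = -q.s := by simp [Par.Y, Matrix.det_fin_two]; linear_combination -q.hab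
  rw [P2, Matrix.det_mul, Matrix.det_pow, Matrix.det_pow, hX, hY, ← pow_add, ← pow_mul, mul_comm, pow_mul]
  rcases q.hs with h | h <;> simp [h]

theorem det_P (q : Par F) (e : E) : (P q e).det = 1 := by
  rw [P, det_k4, det_P2_sq, det_P2_sq, one_mul]

/-- The scalar matrix as a unit. -/
def sc (c : Fˣ) : GL (Fin 4) F := Units.map (Matrix.scalar (Fin 4)).toMonoidHom c

@[simp] theorem coe_sc (c : Fˣ) : ((sc c : GL (Fin 4) F) : M4) = (c : F) • 1 := by
  simp [sc, Matrix.smul_one_eq_diagonal]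

theorem sc_comm (c : Fˣ) (g : GL (Fin 4) F) : sc c * g = g * sc c := Units.ext (by simp)

variable [Finite F]

theorem sc_mem_normalizer (q : Par F) (k : ℕ) (c : Fˣ) : sc c ∈ Geo.subgroupNormalizer (R0 q k) :=
  (mem_normalizer_iff_acts q k _).2 fun i => ⟨gens i, 1, one_pow _, by simp⟩

theorem U_mem_normalizer (q : Par F) (k : ℕ) (e : E) : U q e ∈ Geo.subgroupNormalizer (R0 q k) :=
  Subgroup.le_normalizer (U_mem_R0 q k e)

theorem U_mem_of_gens (q : Par F) {S : Subgroup (GL (Fin 4) F)} (hneg : sc (-1) ∈ S)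
    (hg : ∀ i, U q (gens i) ∈ S) (e : E) : U q e ∈ S := by
  refine add_induction_gens (p := fun e => U q e ∈ S) ?_ ?_ hg e
  · rw [show U q 0 = 1 from Units.ext (by simp [P_zero])]; exact S.one_mem
  · intro e f he hf
    have hk : κ q e f = 1 ∨ κ q e f = -1 := mul_self_eq_one_iff.1 (κ_sq q e f)
    rcases hk with h | h
    · rw [show U q (e + f) = U q e * U q f from Units.ext (by simp [P_mul, h])]
      exact S.mul_mem he hf
    · rw [show U q (e + f) = sc (-1) * (U q e * U q f) from Units.ext (by simp [P_mul, h])]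
      exact S.mul_mem hneg (S.mul_mem he hf)

/-! ### The element `diag (1, 1, 1, -1)` -/

/-- The controlled sign change. -/
def dMat : M4 := Matrix.diagonal ![1, 1, 1, -1]

theorem dMat_sq : (dMat : M4) * dMat = 1 := by
  rw [dMat, Matrix.diagonal_mul_diagonal, ← Matrix.diagonal_one]
  congr 1; funext i; fin_cases i <;> simp

/-- `w • diag (1, 1, 1, -1)` as a unit. -/
def dUnit (w : Fˣ) : GL (Fin 4) F := sc w * ⟨dMat, dMat, dMat_sq, dMat_sq⟩

theorem coe_dUnit (w : Fˣ) : ((dUnit w : GL (Fin 4) F) : M4) = (w : F) • dMat := by simp [dUnit]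

theorem dUnit_mem_normalizer (k : ℕ) (w : Fˣ) : dUnit w ∈ Geo.subgroupNormalizer (R0 (Par.std F) k) := by
  refine (mem_normalizer_iff_acts _ k _).2 fun i =>
    ⟨![((1, 0), (0, 1)), ((0, 1), (0, 0)), ((0, 1), (1, 0)), ((0, 0), (0, 1))] i, 1, one_pow _, ?_⟩
  rw [coe_dUnit, Units.val_one, one_smul, Matrix.smul_mul, Matrix.mul_smul]
  congr 1
  fin_cases i <;>
    (ext a b; fin_cases a <;> fin_cases b <;>
      simp [dMat, gens, P, P2, k4, Par.X, Par.Y, Par.std, finProdFinEquiv, Fin.divNat, Fin.modNat,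
        Matrix.mul_apply, Fin.sum_univ_two, Fin.sum_univ_four, Matrix.one_apply, Matrix.diagonal])

/-! ### Elements of order three -/

/-- An element of order three of the binary tetrahedral group. -/
def tMat (i : F) : Matrix (Fin 2) (Fin 2) F := (2 : F)⁻¹ • !![-1 + i, 1 + i; -1 + i, -1 - i]

/-- Its inverse. -/
def tMat' (i : F) : Matrix (Fin 2) (Fin 2) F := (2 : F)⁻¹ • !![-1 - i, -1 - i; 1 - i, -1 + i]

variable {i : F}

theorem tMat_facts (h2 : (2 : F) ≠ 0) (hi : i * i = -1) :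
    tMat i * tMat' i = 1 ∧ tMat' i * tMat i = 1 ∧ tMat i * tMat i = tMat' i ∧
      (tMat i).trace = -1 ∧ (tMat i).det = 1 ∧
      tMat i * P2 (Par.std F) (0, 1) = P2 (Par.std F) (1, 0) * tMat i ∧
      tMat i * P2 (Par.std F) (1, 0) = i • (P2 (Par.std F) (1, 1) * tMat i) := by
  have h4 : (2 : F)⁻¹ * (2 : F)⁻¹ * 4 = 1 := by field_simp; norm_num
  have h2' : (2 : F)⁻¹ * 2 = 1 := inv_mul_cancel₀ h2
  refine ⟨?_, ?_, ?_, ?_, ?_, ?_, ?_⟩
  · ext a b; fin_cases a <;> fin_cases b <;> simp [tMat, tMat', Matrix.mul_apply, Fin.sum_univ_two] <;>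
      first
      | linear_combination h4 - (2 : F)⁻¹ * (2 : F)⁻¹ * 2 * hi
      | ring
  · ext a b; fin_cases a <;> fin_cases b <;> simp [tMat, tMat', Matrix.mul_apply, Fin.sum_univ_two] <;>
      first
      | linear_combination h4 - (2 : F)⁻¹ * (2 : F)⁻¹ * 2 * hi
      | ring
  · ext a b; fin_cases a <;> fin_cases b <;> simp [tMat, tMat', Matrix.mul_apply, Fin.sum_univ_two] <;>
      first
      | linear_combination ((2 : F)⁻¹ * (2 : F)⁻¹ * 2) * hi + ((2 : F)⁻¹ * (-1 - i)) * h2'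
      | linear_combination ((2 : F)⁻¹ * (-1 - i)) * h2'
      | linear_combination ((2 : F)⁻¹ * (1 - i)) * h2'
      | linear_combination ((2 : F)⁻¹ * (2 : F)⁻¹ * 2) * hi + ((2 : F)⁻¹ * (-1 + i)) * h2'
  · simp [tMat, Matrix.trace_fin_two]; linear_combination -h2'
  · simp [tMat, Matrix.det_fin_two]; linear_combination h4 - (2 : F)⁻¹ * (2 : F)⁻¹ * 2 * hi
  · ext a b; fin_cases a <;> fin_cases b <;>
      simp [tMat, P2, Par.std, Par.X, Par.Y, Matrix.mul_apply, Fin.sum_univ_two] <;> ring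
  · ext a b; fin_cases a <;> fin_cases b <;>
      simp [tMat, P2, Par.std, Par.X, Par.Y, Matrix.mul_apply, Fin.sum_univ_two] <;>
      first
      | linear_combination (2 : F)⁻¹ * hi
      | linear_combination -(2 : F)⁻¹ * hi

/-- The two witnesses of order three. -/
noncomputable def tUnit (h2 : (2 : F) ≠ 0) (hi : i * i = -1) (both : Bool) : GL (Fin 4) F :=
  ⟨k4 (tMat i) (if both then tMat i else 1), k4 (tMat' i) (if both then tMat' i else 1),
    by cases both <;> simp [k4_mul, k4_one, (tMat_facts h2 hi).1],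
    by cases both <;> simp [k4_mul, k4_one, (tMat_facts h2 hi).2.1]⟩

theorem tUnit_spec (h2 : (2 : F) ≠ 0) (hi : i * i = -1) (both : Bool) :
    tUnit h2 hi both ^ 3 = 1 ∧ ((tUnit h2 hi both : GL (Fin 4) F) : M4).trace = (if both then 1 else -2) ∧
      ((tUnit h2 hi both : GL (Fin 4) F) : M4).det = 1 ∧
      ((tUnit h2 hi both)⁻¹ : GL (Fin 4) F).val = k4 (tMat' i) (if both then tMat' i else 1) ∧
      (((tUnit h2 hi both) ^ 2 : GL (Fin 4) F) : M4).trace = (if both then 1 else -2) := by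
  obtain ⟨h1, h1', hsq, htr, hdet, -, -⟩ := tMat_facts h2 hi
  have hcube : tMat i * (tMat i * tMat i) = 1 := by rw [hsq, h1]
  have htr' : (tMat' i).trace = -1 := by
    have h2' : (2 : F)⁻¹ * 2 = 1 := inv_mul_cancel₀ h2
    simp [tMat', Matrix.trace_fin_two]; linear_combination -h2'
  refine ⟨Units.ext ?_, ?_, ?_, rfl, ?_⟩
  · cases both <;> simp [tUnit, pow_succ, mul_assoc, k4_mul, k4_one, hcube]
  · cases both <;> simp [tUnit, trace_k4, htr]
  · cases both <;> simp [tUnit, det_k4, hdet]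
  · cases both <;> simp [tUnit, pow_two, k4_mul, trace_k4, hsq, htr']

theorem tUnit_mem_normalizer (h2 : (2 : F) ≠ 0) (hi : i * i = -1) (both : Bool) :
    tUnit h2 hi both ∈ Geo.subgroupNormalizer (R0 (Par.std F) 2) := by
  obtain ⟨-, -, -, -, -, hY, hX⟩ := tMat_facts h2 hi
  let u : Fˣ := Units.mk0 i (fun h => by simp [h] at hi)
  have hu : u ^ (2 * 2) = 1 := Units.ext (by
    simp only [Units.val_pow_eq_pow_val, u, Units.val_mk0, Units.val_one]
    linear_combination (i * i - 1) * hi)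
  refine (mem_normalizer_iff_acts _ 2 _).2 fun j => ?_
  have h10 : P2 (Par.std F) (0, 0) = 1 := by simp [P2]
  cases both <;> fin_cases j
  · exact ⟨((1, 1), (0, 0)), u, hu, by simp [tUnit, gens, P, k4_mul, hX, h10, k4_smul_left, u]⟩
  · exact ⟨((1, 0), (0, 0)), 1, one_pow _, by simp [tUnit, gens, P, k4_mul, hY, h10]⟩
  · exact ⟨((0, 0), (1, 0)), 1, one_pow _, by simp [tUnit, gens, P, k4_mul, h10]⟩
  · exact ⟨((0, 0), (0, 1)), 1, one_pow _, by simp [tUnit, gens, P, k4_mul, h10]⟩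
  · exact ⟨((1, 1), (0, 0)), u, hu, by simp [tUnit, gens, P, k4_mul, hX, h10, k4_smul_left, u]⟩
  · exact ⟨((1, 0), (0, 0)), 1, one_pow _, by simp [tUnit, gens, P, k4_mul, hY, h10]⟩
  · exact ⟨((0, 0), (1, 1)), u, hu, by simp [tUnit, gens, P, k4_mul, hX, h10, k4_smul_right, u]⟩
  · exact ⟨((0, 0), (1, 0)), 1, one_pow _, by simp [tUnit, gens, P, k4_mul, hY, h10]⟩

/-! ### An element of order five -/

/-- Five pairwise anticommuting labels. -/
def lab : Fin 5 → E := ![((0, 0), (0, 1)), ((0, 0), (1, 0)), ((1, 0), (1, 1)), ((0, 1), (1, 1)), ((1, 1), (1, 1))]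

theorem lab_ω : ∀ j l : Fin 5, j ≠ l → ω (lab j) (lab l) % 2 = 1 := by decide +kernel

theorem lab_injective : Function.Injective lab := by decide +kernel

theorem lab_span : ∀ e : E, ∃ s : Finset (Fin 5), e = ∑ j ∈ s, lab j := by decide +kernel

def gcoef (l : F) : Fin 5 → F := ![1, 1, l, l, 1]

/-- Five pairwise anticommuting involutions. -/
def gam (q : Par F) (l : F) (j : Fin 5) : M4 := gcoef l j • P q (lab j)

variable {q : Par F} {l : F}

theorem gam_sq (hl : l * l = -q.s) (j : Fin 5) : gam q l j * gam q l j = 1 := by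
  rw [gam, Matrix.smul_mul, Matrix.mul_smul, P_sq, smul_smul, smul_smul]
  have : gcoef l j * gcoef l j * κ q (lab j) (lab j) = 1 := by
    fin_cases j <;> simp [gcoef, lab, κ, k2, Par.std, hl] <;>
      rcases q.hs with h | h <;> simp [h]
  rw [this, one_smul]

theorem gam_anti (j m : Fin 5) (h : j ≠ m) : gam q l j * gam q l m = -(gam q l m * gam q l j) := by
  rw [gam, gam, Matrix.smul_mul, Matrix.mul_smul, Matrix.smul_mul, Matrix.mul_smul, smul_smul, smul_smul, P_comm,
    neg_one_pow_eq_pow_mod_two (n := ω (lab j) (lab m)), lab_ω j m h, pow_one, smul_smul, ← neg_smul]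
  congr 1; ring

/-- Differences of consecutive involutions. -/
def diff (q : Par F) (l : F) (j : Fin 4) : M4 := gam q l j.castSucc - gam q l j.succ

theorem diff_sq (hl : l * l = -q.s) (j : Fin 4) : diff q l j * diff q l j = (2 : F) • 1 := by
  simp only [diff, sub_mul, mul_sub, gam_sq hl, gam_anti _ _ (Fin.castSucc_lt_succ (i := j)).ne]
  rw [two_smul]; abel

theorem diff_gam (hl : l * l = -q.s) (j : Fin 4) (m : Fin 5) :
    diff q l j * gam q l m = -(gam q l (Equiv.swap j.castSucc j.succ m) * diff q l j) := by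
  have hne : j.castSucc ≠ j.succ := (Fin.castSucc_lt_succ (i := j)).ne
  rcases eq_or_ne m j.castSucc with rfl | h1
  · rw [Equiv.swap_apply_left, diff, sub_mul, mul_sub, gam_sq hl, gam_sq hl, neg_sub]
  rcases eq_or_ne m j.succ with rfl | h3
  · rw [Equiv.swap_apply_right, diff, sub_mul, mul_sub, gam_sq hl, gam_sq hl, neg_sub]
  rw [Equiv.swap_apply_of_ne_of_ne h1 h3, diff, sub_mul, mul_sub, gam_anti _ _ (Ne.symm h1),
    gam_anti _ _ (Ne.symm h3)]
  abel

/-- The product of the four differences, normalised. -/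
def fiveMat (q : Par F) (l : F) : M4 :=
  (4 : F)⁻¹ • (diff q l 0 * diff q l 1 * diff q l 2 * diff q l 3)

theorem fiveMat_gam (hl : l * l = -q.s) (m : Fin 5) :
    fiveMat q l * gam q l m = gam q l (m + 1) * fiveMat q l := by
  have hπ : ∀ m : Fin 5, Equiv.swap (Fin.castSucc (0 : Fin 4)) (Fin.succ 0)
      (Equiv.swap (Fin.castSucc (1 : Fin 4)) (Fin.succ 1) (Equiv.swap (Fin.castSucc (2 : Fin 4)) (Fin.succ 2)
        (Equiv.swap (Fin.castSucc (3 : Fin 4)) (Fin.succ 3) m))) = m + 1 := by decide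
  rw [fiveMat, Matrix.smul_mul, Matrix.mul_smul]
  congr 1
  have key : ∀ a b c d g0 g1 g2 g3 g4 : M4, d * g4 = -(g3 * d) → c * g3 = -(g2 * c) → b * g2 = -(g1 * b) →
      a * g1 = -(g0 * a) → a * b * c * d * g4 = g0 * (a * b * c * d) := by
    intro a b c d g0 g1 g2 g3 g4 hd hc hb ha
    calc a * b * c * d * g4 = a * b * c * (d * g4) := by simp only [mul_assoc]
      _ = -(a * b * (c * g3) * d) := by rw [hd]; simp only [mul_neg, mul_assoc]
      _ = a * (b * g2) * c * d := by rw [hc]; simp only [mul_neg, neg_mul, neg_neg, mul_assoc]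
      _ = -((a * g1) * b * c * d) := by rw [hb]; simp only [mul_neg, neg_mul, mul_assoc]
      _ = g0 * (a * b * c * d) := by rw [ha]; simp only [neg_mul, neg_neg, mul_assoc]
  rw [key _ _ _ _ _ _ _ _ _ (diff_gam hl 3 m) (diff_gam hl 2 _) (diff_gam hl 1 _) (diff_gam hl 0 _), hπ]

/-- Reversed product. -/
def fiveMat' (q : Par F) (l : F) : M4 :=
  (4 : F)⁻¹ • (diff q l 3 * diff q l 2 * diff q l 1 * diff q l 0)

theorem four_ne (h2 : (2 : F) ≠ 0) : (4 : F) ≠ 0 := by
  rw [show (4 : F) = 2 * 2 by norm_num]; exact mul_ne_zero h2 h2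

theorem fiveMat_mul (h2 : (2 : F) ≠ 0) (hl : l * l = -q.s) :
    fiveMat' q l * fiveMat q l = 1 ∧ fiveMat q l * fiveMat' q l = 1 := by
  have h := diff_sq (q := q) hl
  have key : ∀ a b c d : M4, a * a = (2 : F) • 1 → b * b = (2 : F) • 1 → c * c = (2 : F) • 1 → d * d = (2 : F) • 1 →
      (4 : F)⁻¹ • (d * c * b * a) * ((4 : F)⁻¹ • (a * b * c * d)) = 1 := by
    intro a b c d ha hb hc hd
    rw [Matrix.smul_mul, Matrix.mul_smul, show d * c * b * a * (a * b * c * d) = d * c * b * (a * a) * b * c * d by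
      simp only [mul_assoc], ha]
    simp only [Matrix.mul_smul, Matrix.smul_mul, mul_one]
    rw [show d * c * b * b = d * c * (b * b) by simp only [mul_assoc], hb]
    simp only [Matrix.mul_smul, Matrix.smul_mul, mul_one]
    rw [show d * c * c = d * (c * c) by simp only [mul_assoc], hc]
    simp only [Matrix.mul_smul, Matrix.smul_mul, mul_one]
    rw [hd]
    simp only [smul_smul]
    rw [show (4 : F)⁻¹ * ((4 : F)⁻¹ * (2 * (2 * (2 * 2)))) = 1 by
      have := four_ne h2
      field_simp; norm_num, one_smul]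
  exact ⟨key _ _ _ _ (h 0) (h 1) (h 2) (h 3), key _ _ _ _ (h 3) (h 2) (h 1) (h 0)⟩

/-- The unit of the cyclic permutation of the five involutions. -/
def fiveUnit (h2 : (2 : F) ≠ 0) (hl : l * l = -q.s) : GL (Fin 4) F :=
  ⟨fiveMat q l, fiveMat' q l, (fiveMat_mul h2 hl).2, (fiveMat_mul h2 hl).1⟩

@[simp] theorem coe_fiveUnit (h2 : (2 : F) ≠ 0) (hl : l * l = -q.s) :
    ((fiveUnit h2 hl : GL (Fin 4) F) : M4) = fiveMat q l := rfl

theorem det_fiveUnit_sq (h2 : (2 : F) ≠ 0) (hl : l * l = -q.s) : (fiveMat q l).det ^ 2 = 1 := by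
  have hd : ∀ j, (diff q l j).det * (diff q l j).det = 2 ^ 4 := fun j => by
    rw [← Matrix.det_mul, diff_sq hl, Matrix.det_smul, Matrix.det_one, mul_one, Fintype.card_fin]
  rw [fiveMat, Matrix.det_smul, Fintype.card_fin, Matrix.det_mul, Matrix.det_mul, Matrix.det_mul, mul_pow, mul_pow,
    mul_pow, mul_pow, pow_two (diff q l 0).det, pow_two (diff q l 1).det, pow_two (diff q l 2).det,
    pow_two (diff q l 3).det, hd, hd, hd, hd]
  have h4 := four_ne h2
  field_simp
  norm_num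

theorem fiveUnit_mem_normalizer (k : ℕ) (h2 : (2 : F) ≠ 0) (hl : l * l = -q.s) (hlk : l ^ (2 * k) = 1) :
    fiveUnit h2 hl ∈ Geo.subgroupNormalizer (R0 q k) := by
  refine (mem_normalizer_iff_acts q k _).2 fun i => ?_
  have hl0 : l ≠ 0 := by
    rintro rfl
    rcases q.hs with h | h <;> simp [h] at hl
  have hg : ∀ j, gcoef l j ≠ 0 := fun j => by fin_cases j <;> simp [gcoef, hl0]
  have hgk : ∀ j, gcoef l j ^ (2 * k) = 1 := fun j => by fin_cases j <;> simp [gcoef, hlk]
  have hlab : ∀ j, Acts q k (fiveUnit h2 hl) (lab j) := by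
    intro j
    refine ⟨lab (j + 1), Units.mk0 _ (hg (j + 1)) * (Units.mk0 _ (hg j))⁻¹, ?_, ?_⟩
    · rw [mul_pow, inv_pow, show (Units.mk0 _ (hg (j + 1))) ^ (2 * k) = 1 from Units.ext (by simp [hgk]),
        show (Units.mk0 _ (hg j)) ^ (2 * k) = 1 from Units.ext (by simp [hgk]), inv_one, one_mul]
    · have h := fiveMat_gam (q := q) hl j
      simp only [gam, Matrix.mul_smul, Matrix.smul_mul] at h
      have h' := congrArg ((gcoef l j)⁻¹ • ·) h
      simp only [smul_smul, inv_mul_cancel₀ (hg j), one_smul] at h'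
      rw [coe_fiveUnit, h', Units.val_mul, Units.val_inv_eq_inv_val, Units.val_mk0, Units.val_mk0, mul_comm]
  obtain ⟨s, hs⟩ := lab_span (gens i)
  rw [hs]
  exact Finset.sum_induction _ (Acts q k (fiveUnit h2 hl)) (acts_add q k) (acts_zero q k _) fun j _ => hlab j

theorem commute_of_lab (q : Par F) {M : M4} (h : ∀ j, M * P q (lab j) = P q (lab j) * M) :
    ∀ i, M * P q (gens i) = P q (gens i) * M := by
  intro i
  obtain ⟨s, hs⟩ := lab_span (gens i)
  rw [hs]
  refine Finset.sum_induction _ (fun e => M * P q e = P q e * M) (fun e f he hf => ?_) (by simp [P_zero])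
    fun j _ => h j
  have h1 : M * (P q e * P q f) = (P q e * P q f) * M := by
    rw [← mul_assoc, he, mul_assoc, hf, mul_assoc]
  rw [P_mul, Matrix.mul_smul, Matrix.smul_mul] at h1
  exact (smul_right_inj (κ_ne_zero q e f)).1 h1

theorem fiveUnit_pow_gam (h2 : (2 : F) ≠ 0) (hl : l * l = -q.s) (n : ℕ) (m : Fin 5) :
    ((fiveUnit h2 hl ^ n : GL (Fin 4) F) : M4) * gam q l m =
      gam q l ((fun j : Fin 5 => j + 1)^[n] m) * ((fiveUnit h2 hl ^ n : GL (Fin 4) F) : M4) := by
  induction n with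
  | zero => simp
  | succ n ih =>
    rw [pow_succ', Units.val_mul, mul_assoc, ih, ← mul_assoc, coe_fiveUnit, fiveMat_gam hl,
      Function.iterate_succ_apply', mul_assoc]

/-- An element of exact order five in the normaliser. -/
theorem exists_five (k : ℕ) (h2 : (2 : F) ≠ 0) (hl : l * l = -q.s) (hlk : l ^ (2 * k) = 1)
    {S : Subgroup (GL (Fin 4) F)} (hdet : ∀ x ∈ S, (x : M4).det = 1) (hy : fiveUnit h2 hl ^ 4 ∈ S) :
    ∃ W ∈ S, W ∈ Geo.subgroupNormalizer (R0 q k) ∧ W ^ 5 = 1 ∧ ∀ z : F, (W : M4) ≠ z • 1 := by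
  set y := fiveUnit h2 hl with hyd
  have hl0 : l ≠ 0 := by
    rintro rfl
    rcases q.hs with h | h <;> simp [h] at hl
  have hg : ∀ j, gcoef l j ≠ 0 := fun j => by fin_cases j <;> simp [gcoef, hl0]
  obtain ⟨z, hz⟩ : ∃ z : F, ((y ^ 20 : GL (Fin 4) F) : M4) = z • 1 := by
    refine scalar_of_commute q h2 (commute_of_lab q fun j => ?_)
    have h := fiveUnit_pow_gam (q := q) h2 hl 20 j
    rw [(show ∀ m : Fin 5, ((fun j : Fin 5 => j + 1)^[20] m) = m by decide) j, ← hyd] at h
    simp only [gam, Matrix.mul_smul, Matrix.smul_mul] at h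
    exact (smul_right_inj (hg j)).1 h
  have hz4 : z ^ 4 = 1 := by
    have hmem : y ^ 20 ∈ S := by rw [show 20 = 4 * 5 by norm_num, pow_mul]; exact S.pow_mem hy 5
    have := hdet _ hmem
    rwa [hz, Matrix.det_smul, Matrix.det_one, mul_one, Fintype.card_fin] at this
  refine ⟨y ^ 64, ?_, (Geo.subgroupNormalizer (R0 q k)).pow_mem (fiveUnit_mem_normalizer k h2 hl hlk) 64, ?_, ?_⟩
  · rw [show 64 = 4 * 16 by norm_num, pow_mul]; exact S.pow_mem hy 16
  · refine Units.ext ?_
    rw [← pow_mul, show 64 * 5 = 20 * 16 by norm_num, pow_mul, Units.val_pow_eq_pow_val (y ^ 20), hz,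
      _root_.smul_pow, one_pow, show z ^ 16 = (z ^ 4) ^ 4 by ring, hz4, one_pow, one_smul, Units.val_one]
  · intro c hc
    have h := fiveUnit_pow_gam (q := q) h2 hl 64 0
    rw [show ((fun j : Fin 5 => j + 1)^[64] (0 : Fin 5)) = 4 by decide, ← hyd, hc] at h
    simp only [Matrix.smul_mul, Matrix.mul_smul, one_mul, mul_one] at h
    have hc0 : c ≠ 0 := fun h0 => Units.ne_zero (y ^ 64) (by rw [hc, h0, zero_smul])
    have h' := (smul_right_inj hc0).1 h
    rw [gam, gam] at h'
    exact absurd (lab_injective (smul_P_inj q h2 (hg 0) h').1) (by decide)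

/-! ### Elements acting on two coordinates -/

/-- A `2 × 2` matrix acting on the coordinates `0`, `2`. -/
def emb (C : Matrix (Fin 2) (Fin 2) F) : M4 :=
  !![C 0 0, 0, C 0 1, 0; 0, 1, 0, 0; C 1 0, 0, C 1 1, 0; 0, 0, 0, 1]

omit [Finite F] in
theorem emb_mul (C D : Matrix (Fin 2) (Fin 2) F) : emb C * emb D = emb (C * D) := by
  ext i j; fin_cases i <;> fin_cases j <;> simp [emb, Matrix.mul_apply, Fin.sum_univ_four, Fin.sum_univ_two]

omit [Finite F] in
theorem emb_one : emb (1 : Matrix (Fin 2) (Fin 2) F) = 1 := by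
  ext i j; fin_cases i <;> fin_cases j <;> simp [emb]

omit [Finite F] in
theorem emb_pow (C : Matrix (Fin 2) (Fin 2) F) (n : ℕ) : emb C ^ n = emb (C ^ n) := by
  induction n with
  | zero => simp [emb_one]
  | succ n ih => rw [pow_succ, ih, emb_mul, ← pow_succ]

omit [Finite F] in
theorem trace_emb (C : Matrix (Fin 2) (Fin 2) F) : (emb C).trace = C.trace + 2 := by
  simp [emb, Matrix.trace, Matrix.diag, Fin.sum_univ_four, Fin.sum_univ_two]; ring

omit [Finite F] in
theorem det_emb (C : Matrix (Fin 2) (Fin 2) F) : (emb C).det = C.det := by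
  simp [emb, Matrix.det_succ_row_zero, Fin.sum_univ_succ, Matrix.det_fin_two, Fin.succAbove]

end Cfsg.Agent.PauliFour
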